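import Groth.Agent.Lib.Lead.PN.H0
universe u
open CategoryTheory AlgebraicGeometry TopologicalSpace Opposite
namespace Groth.Agent.LD.PN
variable {R A : Type u} [CommRing R] [CommRing A] [Algebra R A] (𝒜 : ℕ → Submodule R A)
  [GradedAlgebra 𝒜]
open HomogeneousLocalization

/-- the restriction to `D₊(f)` of the pullback of a degree-zero element along the structure map. -/
theorem toSpecZero_appTop_res {f : A} {m : ℕ} (hf : f ∈ 𝒜 m) (hm : 0 < m) :
    (Scheme.ΓSpecIso (.of (𝒜 0))).inv ≫ (Proj.toSpecZero 𝒜).appTop ≫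
      (Proj 𝒜).presheaf.map (homOfLE (le_top : Proj.basicOpen 𝒜 f ≤ ⊤)).op =
    CommRingCat.ofHom (fromZeroRingHom 𝒜 _) ≫ Proj.awayToSection 𝒜 f := by
  have h1 := Proj.awayι_toSpecZero 𝒜 f hf hm
  have h2 := congrArg Scheme.Hom.appTop h1
  rw [Scheme.Hom.comp_appTop] at h2
  have h3 : (Scheme.ΓSpecIso (.of (𝒜 0))).inv ≫ (Proj.toSpecZero 𝒜).appTop ≫
      (Proj.awayι 𝒜 f hf hm).appTop =
      CommRingCat.ofHom (fromZeroRingHom 𝒜 _) ≫ (Scheme.ΓSpecIso (.of (Away 𝒜 f))).inv := by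
    rw [h2, Scheme.ΓSpecIso_inv_naturality]
  have h4 : (Proj.awayι 𝒜 f hf hm).appTop =
      (Proj.basicOpen 𝒜 f).ι.appTop ≫ (Proj.basicOpenIsoSpec 𝒜 f hf hm).inv.appTop := by
    rw [← Scheme.Hom.comp_appTop]; rfl
  have h5 : (Proj.basicOpenIsoSpec 𝒜 f hf hm).inv.appTop ≫
      (Proj.basicOpenIsoSpec 𝒜 f hf hm).hom.appTop = 𝟙 _ := by
    rw [← Scheme.Hom.comp_appTop, Iso.hom_inv_id]; rfl
  have h6 : (Proj.basicOpenIsoSpec 𝒜 f hf hm).hom.appTop =
      (Scheme.ΓSpecIso _).hom ≫ Proj.awayToSection 𝒜 f ≫ (Proj.basicOpen 𝒜 f).topIso.inv := by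
    rw [Proj.basicOpenIsoSpec_hom]
    exact Proj.basicOpenToSpec_app_top 𝒜 f
  have h7 : (Proj.basicOpen 𝒜 f).ι.appTop ≫ (Proj.basicOpen 𝒜 f).topIso.hom =
      (Proj 𝒜).presheaf.map (homOfLE (le_top : Proj.basicOpen 𝒜 f ≤ ⊤)).op := by
    rw [Scheme.Opens.ι_appTop, Scheme.Opens.topIso_hom]
    exact ((Proj 𝒜).presheaf.map_comp _ _).symm
  rw [h4] at h3
  have h8 := congrArg (fun φ => φ ≫ (Proj.basicOpenIsoSpec 𝒜 f hf hm).hom.appTop) h3
  simp only [Category.assoc] at h8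
  rw [h5, Category.comp_id, h6, Iso.inv_hom_id_assoc] at h8
  have h9 := congrArg (fun φ => φ ≫ (Proj.basicOpen 𝒜 f).topIso.hom) h8
  simp only [Category.assoc, Iso.inv_hom_id, Category.comp_id] at h9
  rw [h7] at h9
  exact h9

open Twist in
/-- pointwise value of the pullback of a degree-zero element along the structure map. -/
theorem toSpecZero_appTop_val {f : A} {m : ℕ} (hf : f ∈ 𝒜 m) (hm : 0 < m) (a : 𝒜 0)
    (x : ProjectiveSpectrum 𝒜) (hx : f ∉ x.asHomogeneousIdeal) :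
    (((show O (𝒜 := 𝒜) (op ⊤) from (Proj.toSpecZero 𝒜).appTop.hom
      ((Scheme.ΓSpecIso (.of (𝒜 0))).inv.hom a)).1 ⟨x, trivial⟩).val : Loc 𝒜 x) =
      Localization.mk a.1 1 := by
  have h := ConcreteCategory.congr_hom (toSpecZero_appTop_res 𝒜 hf hm) a
  have h' := congrArg (fun s : Γ(Proj 𝒜, Proj.basicOpen 𝒜 f) =>
    (((show O (𝒜 := 𝒜) (op (ProjectiveSpectrum.basicOpen 𝒜 f)) from s).1 ⟨x, hx⟩).val : Loc 𝒜 x)) h
  refine Eq.trans ?_ (h'.trans ?_)
  · rfl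
  · refine (awayToSection_val f _ ⟨x, hx⟩).trans ?_
    change toLoc f x hx (fromZeroRingHom 𝒜 (Submonoid.powers f) a).val = _
    have h1 : (fromZeroRingHom 𝒜 (Submonoid.powers f) a).val = Localization.mk a.1 (gpow f 0) := by
      change (HomogeneousLocalization.mk _).val = _
      rw [HomogeneousLocalization.val_mk]
      congr 1
      exact Subtype.ext (pow_zero f).symm
    rw [h1, toLoc_mk f x hx a.1 0 (pow_notMem f x hx 0)]
    congr 1
    exact Subtype.ext (pow_zero f)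

end Groth.Agent.LD.PN
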