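import Groth.Agent.Lib.Lead.PN.Cech
import Groth.Agent.Lib.Lead.Cech.Scheme
import Groth.Agent.Lib.Lead.SC.CohDim
import Groth.Agent.Lib.Lead.TW.Deg1
import Groth.Agent.Lib.Lead.QC.TensorPow
import Mathlib.AlgebraicGeometry.ProjectiveSpectrum.Proper

/-! # Cohomology of `O(d)` on projective space: vanishing. -/

universe u
open CategoryTheory AlgebraicGeometry TopologicalSpace Opposite Limits Abelian

namespace Groth.Agent.LD.PN

variable (n : ℕ) (R : Type u) [CommRing R]

open Twist TW CH

/-- the irrelevant ideal of the polynomial ring is generated by the variables. -/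
theorem irrelevant_eq_span :
    (HomogeneousIdeal.irrelevant (CohB1.polyGrading n R)).toIdeal =
      Ideal.span (Set.range (MvPolynomial.X : Fin (n+1) → MvPolynomial (Fin (n+1)) R)) := by
  apply le_antisymm
  · intro x hx
    have h0 : MvPolynomial.homogeneousComponent 0 x = 0 := by
      have := (HomogeneousIdeal.mem_irrelevant_iff _ x).1 hx
      rw [GradedRing.proj_apply] at this
      rw [← this]
      exact (MvPolynomial.decomposition.decompose'_apply x 0).symm
    rw [MvPolynomial.homogeneousComponent_zero] at h0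
    have h1 : MvPolynomial.coeff 0 x = 0 := by
      have := congrArg (MvPolynomial.coeff 0) h0
      simpa using this
    rw [← Set.image_univ, MvPolynomial.mem_ideal_span_X_image]
    intro m hm
    by_contra hcon
    push Not at hcon
    have hm0 : m = 0 := by
      ext i
      exact hcon i (Set.mem_univ i)
    rw [hm0, MvPolynomial.mem_support_iff] at hm
    exact hm h1
  · rw [Ideal.span_le]
    rintro _ ⟨i, rfl⟩
    change MvPolynomial.X i ∈ HomogeneousIdeal.irrelevant (CohB1.polyGrading n R)
    rw [HomogeneousIdeal.mem_irrelevant_iff, GradedRing.proj_apply]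
    exact DirectSum.decompose_of_mem_ne _ (X_mem i) one_ne_zero

lemma X_range_mem : ∀ f ∈ Set.range (MvPolynomial.X : Fin (n+1) → MvPolynomial (Fin (n+1)) R),
    f ∈ CohB1.polyGrading n R 1 := by
  rintro _ ⟨i, rfl⟩
  exact X_mem i

theorem isInvertible_twist (d : ℤ) : PicF.IsInvertible (twist (CohB1.polyGrading n R) d) :=
  isInvertible_twist_of_span (X_range_mem n R) (irrelevant_eq_span n R) d

instance (d : ℤ) : (twist (CohB1.polyGrading n R) d).IsQuasicoherent :=
  QC.qc_of_isInvertible _ (isInvertible_twist n R d)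

variable {n}

lemma isAffineOpen_iInf {len : ℕ} (a : Fin (len+1) → Idx.{u} n) :
    IsAffineOpen (⨅ k, UU n R (a k)) := by
  rw [← prod_eq_iInf (X := (Proj (CohB1.polyGrading n R)).toTopCat) (UU n R) a, prod_eq_basicOpen]
  refine Proj.isAffineOpen_basicOpen _ _ (G_mem (cOf a)) ?_
  rw [cOf_fact, degree_add_single]
  exact Nat.succ_pos _

variable (n)

lemma iSup_UU : iSup (UU n R) = ⊤ := by
  rw [eq_top_iff]
  intro x _
  obtain ⟨f, ⟨i, rfl⟩, hx⟩ := exists_mem_basicOpen_of_span (irrelevant_eq_span n R) x
  exact Opens.mem_iSup.2 ⟨⟨i⟩, hx⟩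

/-- vanishing of `H^{p+1}(P^n, O(d))` outside the top degree, or for `d > -n-1`. -/
theorem subsingleton_HH_twist (d : ℤ) (p : ℕ)
    (h : p + 2 < n + 1 ∨ -((n : ℤ) + 1) < d ∨ n + 1 ≤ p + 1) :
    Subsingleton (Coh.HH (Proj (CohB1.polyGrading n R)) (twist (CohB1.polyGrading n R) d) (p+1)) := by
  have key : (p + 2 < n + 1 ∨ -((n : ℤ) + 1) < d) →
      Subsingleton (Coh.HH (Proj (CohB1.polyGrading n R)) (twist (CohB1.polyGrading n R) d) (p+1)) := by
    intro h'
    have hz := isZero_cech R d p h'
    obtain ⟨e⟩ := leray_scheme (UU n R) (fun len a => isAffineOpen_iInf R a)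
      (twist (CohB1.polyGrading n R) d) (p+1)
    haveI := AddCommGrpCat.subsingleton_of_isZero hz
    have h1 : Subsingleton (Ext (SC.ZU (SC.JX (Proj (CohB1.polyGrading n R))) (iSup (UU n R)))
        (Coh.toAb (twist (CohB1.polyGrading n R) d)) (p+1)) := e.symm.toEquiv.subsingleton
    rw [iSup_UU] at h1
    exact SC.subsingleton_H_of_subsingleton_ext (J := SC.JX (Proj (CohB1.polyGrading n R)))
      isTerminalTop (Coh.toAb (twist (CohB1.polyGrading n R) d)) (p+1) h1
  rcases h with h | h | h
  · exact key (Or.inl h)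
  · exact key (Or.inr h)
  · classical
    refine SC.subsingleton_HH_of_affine_cover (Proj (CohB1.polyGrading n R))
      (twist (CohB1.polyGrading n R) d) (Finset.univ.image (UU n R)) ?_ ?_ p ?_
    · intro W hW
      obtain ⟨v, -, rfl⟩ := Finset.mem_image.1 hW
      exact Proj.isAffineOpen_basicOpen _ _ (X_mem v.down) one_pos
    · rw [Finset.sup_image, ← iSup_UU n R]
      exact Finset.sup_univ_eq_iSup _
    · refine Finset.card_image_le.trans ?_
      simp
      omega

end Groth.Agent.LD.PN
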