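import Mathlib
import Groth.Prelude.Def_Twist2
import Groth.Agent.Lib.Helper1.ProjTw
open AlgebraicGeometry CategoryTheory Limits TopologicalSpace Opposite

/-!
Bridge between `CohB1.ProjSpaceOver n (Spec R)` (base change of `P^n_ℤ`) and
`CohB1.ProjSpace n R = Proj R[X₀..Xₙ]`, compatible with the twisting sheaves.
-/

namespace Groth.Agent.LD.PN.OB

universe u

variable (N : ℕ) (R : Type u) [CommRing R]

/-- the unique ring hom `ULift ℤ → R`. -/
noncomputable def zHom : ULift.{u} ℤ →+* R :=
  (Int.castRingHom R).comp (ULift.ringEquiv (R := ℤ)).toRingHom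

lemma from_spec_eq :
    specULiftZIsTerminal.from (Spec (CommRingCat.of R)) = Spec.map (CommRingCat.ofHom (zHom R)) :=
  specULiftZIsTerminal.hom_ext _ _

lemma isPullback_bridge :
    IsPullback (Groth.Agent.H1.ProjTw.projBC N (zHom R)) (CohB1.ProjSpace.toSpec N R)
      (CohB1.ProjSpace.toSpec N (ULift.{u} ℤ))
      (specULiftZIsTerminal.from (Spec (CommRingCat.of R))) := by
  rw [from_spec_eq]
  exact Groth.Agent.H1.ProjTw.isPullback_projBC N (zHom R)

/-- `P^N_R = Proj R[X] ≅ P^N_ℤ ×_ℤ Spec R`. -/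
noncomputable def bridge :
    CohB1.ProjSpace N R ≅ CohB1.ProjSpaceOver N (Spec (CommRingCat.of R)) :=
  (isPullback_bridge N R).isoPullback

@[reassoc (attr := simp)]
lemma bridge_hom_fst :
    (bridge N R).hom ≫ pullback.fst (CohB1.ProjSpace.toSpec N (ULift.{u} ℤ))
        (specULiftZIsTerminal.from (Spec (CommRingCat.of R))) =
      Groth.Agent.H1.ProjTw.projBC N (zHom R) :=
  (isPullback_bridge N R).isoPullback_hom_fst

@[reassoc (attr := simp)]
lemma bridge_hom_toBase :
    (bridge N R).hom ≫ CohB1.ProjSpaceOver.toBase N (Spec (CommRingCat.of R)) =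
      CohB1.ProjSpace.toSpec N R :=
  (isPullback_bridge N R).isoPullback_hom_snd

@[reassoc (attr := simp)]
lemma bridge_inv_toSpec :
    (bridge N R).inv ≫ CohB1.ProjSpace.toSpec N R =
      CohB1.ProjSpaceOver.toBase N (Spec (CommRingCat.of R)) := by
  rw [Iso.inv_comp_eq, bridge_hom_toBase]

/-- the pullback of `O(d)` on `P^N_{Spec R}` along the bridge is `O(d)` on `Proj R[X]`. -/
noncomputable def bridgeTwistIso (d : ℤ) :
    (Scheme.Modules.pullback (bridge N R).hom).obj (Twist.twistOver N (Spec (CommRingCat.of R)) d) ≅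
      Twist.twist (CohB1.polyGrading N R) d :=
  ((Scheme.Modules.pullbackComp (bridge N R).hom
      (pullback.fst (CohB1.ProjSpace.toSpec N (ULift.{u} ℤ))
        (specULiftZIsTerminal.from (Spec (CommRingCat.of R))))).app
    (Twist.twistProjSpace N (ULift.{u} ℤ) d)) ≪≫
  (Scheme.Modules.pullbackCongr (bridge_hom_fst N R)).app _ ≪≫
  Groth.Agent.H1.ProjTw.projBCTwistIso N (zHom R) d

end Groth.Agent.LD.PN.OB
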