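import Groth.Agent.Lib.Lead.PN.ToSpec

/-! # `H⁰(P^n_R, O(d))` is the module of homogeneous polynomials of degree `d`. -/

universe u
open CategoryTheory AlgebraicGeometry TopologicalSpace Opposite

namespace Groth.Agent.LD.PN

variable {n : ℕ} {R : Type u} [CommRing R]

open HomogeneousLocalization Twist TW

/-- pointwise value of the image of `r : R` in the global functions of projective space. -/
theorem toGlobal_val (r : R) (x : ProjectiveSpectrum (CohB1.polyGrading n R)) :
    (((show O (𝒜 := CohB1.polyGrading n R) (op ⊤) from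
      Coh.toGlobal (CohB1.ProjSpace.toSpec n R) r).1 ⟨x, trivial⟩).val :
      Loc (CohB1.polyGrading n R) x) = Localization.mk (MvPolynomial.C r) 1 := by
  obtain ⟨f, ⟨i, rfl⟩, hx⟩ := exists_mem_basicOpen_of_span (irrelevant_eq_span n R) x
  have h2 : Coh.toGlobal (CohB1.ProjSpace.toSpec n R) r =
      (Proj.toSpecZero (CohB1.polyGrading n R)).appTop.hom
        ((Scheme.ΓSpecIso (.of (CohB1.polyGrading n R 0))).inv.hom
          (algebraMap R (CohB1.polyGrading n R 0) r)) := by
    change (Proj.toSpecZero (CohB1.polyGrading n R) ≫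
      Spec.map (CommRingCat.ofHom (algebraMap R (CohB1.polyGrading n R 0)))).appTop.hom
        ((Scheme.ΓSpecIso (CommRingCat.of R)).inv.hom r) = _
    rw [Scheme.Hom.comp_appTop]
    change (Proj.toSpecZero (CohB1.polyGrading n R)).appTop.hom
      (((Scheme.ΓSpecIso (CommRingCat.of R)).inv ≫ (Spec.map
        (CommRingCat.ofHom (algebraMap R (CohB1.polyGrading n R 0)))).appTop).hom r) = _
    rw [← Scheme.ΓSpecIso_inv_naturality]
    rfl
  rw [h2]
  exact toSpecZero_appTop_val (CohB1.polyGrading n R) (X_mem i) one_pos _ x hx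

theorem thetaG_globalOf (d : ℕ) (b : CohB1.polyGrading n R d) (i : Fin (n+1)) :
    thetaG (d : ℤ) i (globalOf (CohB1.polyGrading n R) b) = ιL n R b.1 := by
  have hH : IsHomog (CohB1.polyGrading n R) (G (Finsupp.single i 1))
      (Finsupp.degree (Finsupp.single i 1)) (d : ℤ)
      (Localization.mk b.1 (gpow (G (Finsupp.single i 1)) 0)) :=
    ⟨0, d, b.1, b.2, by simp, rfl⟩
  have hR : IsRep (G (Finsupp.single i 1)) (le_refl (Ui i))
      (resSec le_top (globalOf (CohB1.polyGrading n R) b))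
      (Localization.mk b.1 (gpow (G (Finsupp.single i 1)) 0)) := by
    intro x
    rw [resSec_val, globalOf_val, toLoc_mk _ x.1 x.2 b.1 0 (pow_notMem _ x.1 x.2 0)]
    congr 1
  rw [thetaG, theta_eq (single_fact i) (d : ℤ) rfl _ hH hR]
  change lam _ (Localization.mk b.1 (⟨G _ ^ 0, 0, rfl⟩ : Submonoid.powers _)) = _
  rw [lam_mk, zero_smul, neg_zero, mono_zero, mul_one]

theorem globalOf_injective (d : ℕ) :
    Function.Injective (globalOf (CohB1.polyGrading n R) (i := d)) := by
  intro b b' h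
  have := congrArg (thetaG (d : ℤ) 0) h
  rw [thetaG_globalOf, thetaG_globalOf] at this
  exact Subtype.ext (ιL_injective n R this)

theorem globalOf_surjective (d : ℕ) :
    Function.Surjective (globalOf (CohB1.polyGrading n R) (i := d)) := by
  intro s
  have hco : ∀ e : Fin (n+1) →₀ ℤ, (thetaG (d : ℤ) 0 s).coeff e ≠ 0 →
      Finsupp.degree e = (d : ℤ) ∧ ∀ k, 0 ≤ e k := by
    rcases Nat.eq_zero_or_pos n with rfl | hn
    · intro e he
      obtain ⟨h1, -⟩ := thetaG_mem (d : ℤ) 0 s e he
      refine ⟨h1, fun k => ?_⟩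
      have h2 : Finsupp.degree e = e 0 := by rw [Finsupp.degree_eq_sum]; simp
      have hk : k = 0 := Fin.ext (by have := k.2; omega)
      rw [hk, ← h2, h1]
      exact Int.natCast_nonneg d
    · exact thetaG_coeff hn (d : ℤ) 0 s
  obtain ⟨b, hb, hbl⟩ := exists_ιL_eq _ d hco
  refine ⟨⟨b, (MvPolynomial.mem_homogeneousSubmodule _ _).2 hb⟩, ?_⟩
  apply thetaG_injective (d : ℤ) 0
  rw [thetaG_globalOf]
  exact hbl

theorem globalOf_add (d : ℕ) (b b' : CohB1.polyGrading n R d) :
    globalOf (CohB1.polyGrading n R) (b + b') =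
      globalOf (CohB1.polyGrading n R) b + globalOf (CohB1.polyGrading n R) b' := by
  apply sectN_ext
  intro x
  change _ = ((globalOf (CohB1.polyGrading n R) b).1 x).1 +
    ((globalOf (CohB1.polyGrading n R) b').1 x).1
  rw [globalOf_val, globalOf_val, globalOf_val, Localization.add_mk_self]
  rfl

variable (n R) in
/-- homogeneous polynomials of degree `d` are the global sections of `O(d)`. -/
noncomputable def secAddEquiv (d : ℕ) :
    CohB1.polyGrading n R d ≃+ sectN (𝒜 := CohB1.polyGrading n R) (d : ℤ) (op ⊤) :=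
  AddEquiv.ofBijective (AddMonoidHom.mk' (globalOf (CohB1.polyGrading n R))
    (fun b b' => globalOf_add (n := n) (R := R) d b b'))
    ⟨globalOf_injective d, globalOf_surjective d⟩


open Limits in
section
variable (n : ℕ) (R : Type u) [CommRing R]

open Limits

/-- the identification `H⁰(X, M) ≃ Γ(X, M)` is linear over the global functions. -/
theorem equiv₀_smul {X : Scheme.{u}} (M : X.Modules) (ρ : Coh.Γtop X) (x : Coh.HH X M 0) :
    Sheaf.H.equiv₀ (Coh.toAb M) (isTerminalTop (α := X.Opens)) (ρ • x) =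
      @HSMul.hSMul (X.ringCatSheaf.obj.obj (op ⊤)) (M.val.obj (op ⊤)) (M.val.obj (op ⊤)) _ ρ
        (Sheaf.H.equiv₀ (Coh.toAb M) (isTerminalTop (α := X.Opens)) x) := by
  have hnat := Sheaf.H.equiv₀_naturality (isTerminalTop (α := X.Opens)) (Coh.smulAb M ρ) x
  refine hnat.symm.trans ?_
  rw [Coh.smulAb_app]
  congr 1
  change (X.ringCatSheaf.obj.map (homOfLE (le_top : (⊤ : X.Opens) ≤ ⊤)).op).hom ρ = ρ
  rw [show (homOfLE (le_top : (⊤ : X.Opens) ≤ ⊤)) = 𝟙 _ from Subsingleton.elim _ _, op_id,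
    CategoryTheory.Functor.map_id]
  rfl

/-- `H⁰(P^n, O(d)) ≃+` homogeneous polynomials of degree `d`. -/
noncomputable def H0AddEquiv (d : ℕ) :
    Coh.HH (CohB1.ProjSpace n R) (Twist.twistProjSpace n R (d : ℤ)) 0 ≃+
      CohB1.polyGrading n R d :=
  (Sheaf.H.equiv₀ (Coh.toAb (Twist.twistProjSpace n R (d : ℤ)))
    (isTerminalTop (α := (CohB1.ProjSpace n R).Opens))).trans (secAddEquiv n R d).symm

theorem H0AddEquiv_smul (d : ℕ) (c : R)
    (x : Coh.HH (CohB1.ProjSpace n R) (Twist.twistProjSpace n R (d : ℤ)) 0) :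
    H0AddEquiv n R d (c • x) = c • H0AddEquiv n R d x := by
  apply (secAddEquiv n R d).injective
  change (secAddEquiv n R d) ((secAddEquiv n R d).symm _) = _
  rw [AddEquiv.apply_symm_apply]
  set b := H0AddEquiv n R d x with hb
  have hx : Sheaf.H.equiv₀ (Coh.toAb (Twist.twistProjSpace n R (d : ℤ)))
      (isTerminalTop (α := (CohB1.ProjSpace n R).Opens)) x =
      globalOf (CohB1.polyGrading n R) b := by
    rw [hb]
    change _ = (secAddEquiv n R d) ((secAddEquiv n R d).symm _)
    rw [AddEquiv.apply_symm_apply]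
    rfl
  have h1 := equiv₀_smul (Twist.twistProjSpace n R (d : ℤ))
    (Coh.toGlobal (CohB1.ProjSpace.toSpec n R) c) x
  rw [hx] at h1
  refine h1.trans ?_
  apply sectN_ext
  intro y
  have h2 := smul_sec_val (𝒜 := CohB1.polyGrading n R) (k := (d : ℤ)) (W := ⊤)
    (Coh.toGlobal (CohB1.ProjSpace.toSpec n R) c) (globalOf (CohB1.polyGrading n R) b) y
  refine h2.trans ?_
  have h3 := toGlobal_val (n := n) c y.1
  refine (congrArg (fun t => t * ((globalOf (CohB1.polyGrading n R) b).1 y).1) h3).trans ?_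
  change _ * ((globalOf (CohB1.polyGrading n R) b).1 y).1 =
    ((globalOf (CohB1.polyGrading n R) (c • b)).1 y).1
  rw [globalOf_val, globalOf_val, Localization.mk_mul]
  congr 1
  · change MvPolynomial.C c * b.1 = c • b.1
    rw [MvPolynomial.smul_eq_C_mul]
  · exact one_mul _


/-- `H⁰(P^n_R, O(d))` is the `R`-module of homogeneous polynomials of degree `d`. -/
noncomputable def H0LinearEquiv (d : ℕ) :
    Coh.HH (CohB1.ProjSpace n R) (Twist.twistProjSpace n R (d : ℤ)) 0 ≃ₗ[R]
      ↥(MvPolynomial.homogeneousSubmodule (Fin (n + 1)) R d) :=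
  (H0AddEquiv n R d).toLinearEquiv (H0AddEquiv_smul n R d)

end

end Groth.Agent.LD.PN
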