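import Groth.Agent.Lib.Lead.PN.Main

/-! # Global sections of `O(d)` on projective space. -/

universe u
open CategoryTheory AlgebraicGeometry TopologicalSpace Opposite Limits Abelian

namespace Groth.Agent.LD.PN

variable {n : ℕ} {R : Type u} [CommRing R]

open Twist TW CH

/-- the `i`-th standard open as an open of the projective spectrum. -/
noncomputable abbrev Ui (i : Fin (n+1)) : Opens (ProjectiveSpectrum.top (CohB1.polyGrading n R)) :=
  ProjectiveSpectrum.basicOpen (CohB1.polyGrading n R)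
    (G (Finsupp.single i 1) : MvPolynomial (Fin (n+1)) R)

lemma single_fact (i : Fin (n+1)) :
    (Finsupp.single i 1 : Fin (n+1) →₀ ℕ) = 0 + Finsupp.single i 1 := (zero_add _).symm

/-- the Laurent polynomial of a global section, computed in the `i`-th chart. -/
noncomputable def thetaG (d : ℤ) (i : Fin (n+1))
    (s : sectN (𝒜 := CohB1.polyGrading n R) d (op ⊤)) : Lau n R :=
  theta n R (Finsupp.single i 1) d (le_refl (Ui i)) (resSec le_top s)

theorem thetaG_eq (d : ℤ) (i j : Fin (n+1)) (s : sectN (𝒜 := CohB1.polyGrading n R) d (op ⊤)) :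
    thetaG d i s = thetaG d j s := by
  have hle : ProjectiveSpectrum.basicOpen (CohB1.polyGrading n R)
      (G (Finsupp.single i 1 + Finsupp.single j 1) : MvPolynomial (Fin (n+1)) R) ≤ Ui i := by
    rw [G_add, ProjectiveSpectrum.basicOpen_mul]; exact inf_le_left
  have hle' : ProjectiveSpectrum.basicOpen (CohB1.polyGrading n R)
      (G (Finsupp.single i 1 + Finsupp.single j 1) : MvPolynomial (Fin (n+1)) R) ≤ Ui j := by
    rw [G_add, ProjectiveSpectrum.basicOpen_mul]; exact inf_le_right
  have h1 := theta_res (single_fact i) (rfl : Finsupp.single i 1 + Finsupp.single j 1 = _) d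
    rfl rfl hle (resSec le_top s)
  have h2 := theta_res (single_fact j) (add_comm (Finsupp.single i 1) (Finsupp.single j 1)) d
    rfl rfl hle' (resSec le_top s)
  exact h1.symm.trans h2

theorem thetaG_mem (d : ℤ) (i : Fin (n+1)) (s : sectN (𝒜 := CohB1.polyGrading n R) d (op ⊤)) :
    thetaG d i s ∈ Mset n R (Finsupp.single i 1) d :=
  theta_mem_Mset (single_fact i) d rfl _

/-- the coefficients of the Laurent polynomial of a global section (`n ≥ 1`). -/
theorem thetaG_coeff (hn : 0 < n) (d : ℤ) (i : Fin (n+1))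
    (s : sectN (𝒜 := CohB1.polyGrading n R) d (op ⊤)) (e : Fin (n+1) →₀ ℤ)
    (he : (thetaG d i s).coeff e ≠ 0) : Finsupp.degree e = d ∧ ∀ k, 0 ≤ e k := by
  refine ⟨(thetaG_mem d i s e he).1, fun k => ?_⟩
  obtain ⟨j, hj⟩ : ∃ j : Fin (n+1), j ≠ k := by
    haveI : Nontrivial (Fin (n+1)) := Fin.nontrivial_iff_two_le.2 (by omega)
    exact exists_ne k
  rw [thetaG_eq d i j s] at he
  apply (thetaG_mem d j s e he).2 k
  rw [Finsupp.single_apply, if_neg hj]

theorem thetaG_injective (d : ℤ) (i : Fin (n+1)) : Function.Injective (thetaG (R := R) d i) := by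
  intro s t hst
  apply sectN_ext
  intro x
  obtain ⟨f, ⟨j, rfl⟩, hx⟩ := exists_mem_basicOpen_of_span (irrelevant_eq_span n R) x.1
  have h1 : thetaG d j s = thetaG d j t := by rw [← thetaG_eq d i j s, ← thetaG_eq d i j t, hst]
  have h2 := theta_injective (single_fact j) d rfl h1
  have h3 := congrArg (fun w : sectN (𝒜 := CohB1.polyGrading n R) d (op (Ui j)) =>
    ((w.1 ⟨x.1, hx⟩).1 : Loc (CohB1.polyGrading n R) x.1)) h2
  exact h3

/-- `Γ(P^n, O(d)) = 0` for `d < 0`, `n ≥ 1`. -/
theorem subsingleton_sectN_top (hn : 0 < n) (d : ℤ) (hd : d < 0) :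
    Subsingleton (sectN (𝒜 := CohB1.polyGrading n R) d (op ⊤)) := by
  have key : ∀ s : sectN (𝒜 := CohB1.polyGrading n R) d (op ⊤), thetaG d 0 s = 0 := by
    intro s
    apply AddMonoidAlgebra.coeff_injective
    ext e
    by_contra he
    obtain ⟨h1, h2⟩ := thetaG_coeff hn d 0 s e he
    have : 0 ≤ Finsupp.degree e := by
      rw [Finsupp.degree_eq_sum]
      exact Finset.sum_nonneg fun k _ => h2 k
    omega
  exact ⟨fun s t => thetaG_injective d 0 ((key s).trans (key t).symm)⟩

variable (n R) in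
/-- `H⁰(P^n, O(d)) ≃+ Γ(P^n, O(d))`. -/
noncomputable def H0EquivSec (d : ℤ) :
    Coh.HH (Proj (CohB1.polyGrading n R)) (twist (CohB1.polyGrading n R) d) 0 ≃+
      sectN (𝒜 := CohB1.polyGrading n R) d (op ⊤) :=
  (SC.HEquiv (J := SC.JX (Proj (CohB1.polyGrading n R))) isTerminalTop
    (Coh.toAb (twist (CohB1.polyGrading n R) d)) 0).trans
    (SC.H0Equiv (J := SC.JX (Proj (CohB1.polyGrading n R))) ⊤
      (Coh.toAb (twist (CohB1.polyGrading n R) d)))

theorem subsingleton_HH_zero (hn : 0 < n) (d : ℤ) (hd : d < 0) :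
    Subsingleton (Coh.HH (Proj (CohB1.polyGrading n R)) (twist (CohB1.polyGrading n R) d) 0) := by
  haveI := subsingleton_sectN_top (R := R) hn d hd
  exact (H0EquivSec n R d).toEquiv.subsingleton

/-- **vanishing of the cohomology of `O(d)` on projective space.** -/
theorem subsingleton_HH_twist_all (n : ℕ) (R : Type u) [CommRing R] (d : ℤ) (q : ℕ)
    (h₀ : ¬ (q = 0 ∧ 0 ≤ d)) (hn : ¬ (q = n ∧ d ≤ -((n : ℤ) + 1))) :
    Subsingleton (Coh.HH (Proj (CohB1.polyGrading n R)) (twist (CohB1.polyGrading n R) d) q) := by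
  cases q with
  | zero =>
    have hd : d < 0 := by
      by_contra hcon
      exact h₀ ⟨rfl, not_lt.1 hcon⟩
    have hn0 : 0 < n := by
      rcases Nat.eq_zero_or_pos n with rfl | h
      · exfalso
        apply hn
        refine ⟨rfl, ?_⟩
        simp only [Nat.cast_zero, zero_add]
        omega
      · exact h
    exact subsingleton_HH_zero hn0 d hd
  | succ p =>
    apply subsingleton_HH_twist n R d p
    by_cases h1 : p + 1 < n
    · exact Or.inl (by omega)
    · by_cases h2 : p + 1 = n
      · refine Or.inr (Or.inl ?_)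
        by_contra hcon
        exact hn ⟨h2, not_lt.1 hcon⟩
      · exact Or.inr (Or.inr (by omega))

end Groth.Agent.LD.PN

namespace Groth.Agent.LD.PN

open CategoryTheory AlgebraicGeometry Abelian

/-- cohomology vanishing is invariant under isomorphisms of modules. -/
theorem subsingleton_HH_of_iso {X : Scheme.{u}} {M N : X.Modules} (e : M ≅ N) (q : ℕ)
    (h : Subsingleton (Coh.HH X M q)) : Subsingleton (Coh.HH X N q) := by
  let e' := (SheafOfModules.toSheaf X.ringCatSheaf).mapIso e
  have hx : ∀ z : Coh.HH X N q, z = (Ext.comp (Ext.comp z (Ext.mk₀ e'.inv) (add_zero q))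
      (Ext.mk₀ e'.hom) (add_zero q)) := by
    intro z
    rw [Ext.comp_assoc_of_third_deg_zero, Ext.mk₀_comp_mk₀, Iso.inv_hom_id, Ext.comp_mk₀_id]
  refine ⟨fun x y => ?_⟩
  rw [hx x, hx y]
  congr 1
  exact Subsingleton.elim (α := Coh.HH X M q) _ _

/-- `H^q(P^n_R, O) = 0` for `q > 0`. -/
theorem subsingleton_HH_structure (n : ℕ) (R : Type u) [CommRing R] (q : ℕ) (hq : 0 < q) :
    Subsingleton (Coh.HH (Proj (CohB1.polyGrading n R))
      (Coh.structureModule (Proj (CohB1.polyGrading n R))) q) := by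
  refine subsingleton_HH_of_iso (TW.twistZeroIso (CohB1.polyGrading n R)) q ?_
  apply subsingleton_HH_twist_all n R 0 q
  · rintro ⟨rfl, -⟩; exact absurd hq (lt_irrefl 0)
  · rintro ⟨-, h⟩
    have : (0 : ℤ) ≤ (n : ℤ) := Int.natCast_nonneg n
    omega

end Groth.Agent.LD.PN
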