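import Mathlib
import Groth.Agent.Lib.Lead.PN.OverBridge
import Groth.Agent.Lib.Lead.PN.H0
import Groth.Agent.Lib.Lead.SC.Restrict
import Groth.Agent.Lib.Lead.SC.RPushBasis
open AlgebraicGeometry CategoryTheory Limits TopologicalSpace Opposite Abelian

/-!
Charts of `P^r_Y` over affine opens of `Y`, and the relative cohomology of `O(d)`.
-/

namespace Groth.Agent.LD.PN.OC

universe u

open Groth.Agent.LD Twist

variable (r : ℕ) {R : Type u} [CommRing R] {Y : Scheme.{u}} (g : Spec (CommRingCat.of R) ⟶ Y)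

lemma chart_cond :
    Groth.Agent.H1.ProjTw.projBC r (OB.zHom R) ≫ CohB1.ProjSpace.toSpec r (ULift.{u} ℤ) =
      (CohB1.ProjSpace.toSpec r R ≫ g) ≫ specULiftZIsTerminal.from Y := by
  rw [(OB.isPullback_bridge r R).w, Category.assoc]
  congr 1
  exact specULiftZIsTerminal.hom_ext _ _

/-- the chart `P^r_R ⟶ P^r_Y` over `g : Spec R ⟶ Y`. -/
noncomputable def chart : CohB1.ProjSpace r R ⟶ CohB1.ProjSpaceOver r Y :=
  pullback.lift (Groth.Agent.H1.ProjTw.projBC r (OB.zHom R)) (CohB1.ProjSpace.toSpec r R ≫ g)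
    (chart_cond r g)

@[reassoc (attr := simp)]
lemma chart_fst :
    chart r g ≫ pullback.fst (CohB1.ProjSpace.toSpec r (ULift.{u} ℤ))
      (specULiftZIsTerminal.from Y) = Groth.Agent.H1.ProjTw.projBC r (OB.zHom R) :=
  pullback.lift_fst _ _ _

@[reassoc (attr := simp)]
lemma chart_toBase :
    chart r g ≫ CohB1.ProjSpaceOver.toBase r Y = CohB1.ProjSpace.toSpec r R ≫ g :=
  pullback.lift_snd _ _ _

theorem isPullback_chart :
    IsPullback (chart r g) (CohB1.ProjSpace.toSpec r R) (CohB1.ProjSpaceOver.toBase r Y) g := by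
  have hbig : IsPullback (chart r g ≫ pullback.fst (CohB1.ProjSpace.toSpec r (ULift.{u} ℤ))
      (specULiftZIsTerminal.from Y)) (CohB1.ProjSpace.toSpec r R)
      (CohB1.ProjSpace.toSpec r (ULift.{u} ℤ)) (g ≫ specULiftZIsTerminal.from Y) := by
    rw [chart_fst]
    have : g ≫ specULiftZIsTerminal.from Y =
        specULiftZIsTerminal.from (Spec (CommRingCat.of R)) := specULiftZIsTerminal.hom_ext _ _
    rw [this]
    exact OB.isPullback_bridge r R
  exact IsPullback.of_right hbig (chart_toBase r g)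
    (IsPullback.of_hasPullback (CohB1.ProjSpace.toSpec r (ULift.{u} ℤ))
      (specULiftZIsTerminal.from Y))

/-- `chart^* O(d) ≅ O(d)`. -/
noncomputable def chartTwistIso (d : ℤ) :
    (Scheme.Modules.pullback (chart r g)).obj (Twist.twistOver r Y d) ≅
      Twist.twist (CohB1.polyGrading r R) d :=
  ((Scheme.Modules.pullbackComp (chart r g)
      (pullback.fst (CohB1.ProjSpace.toSpec r (ULift.{u} ℤ))
        (specULiftZIsTerminal.from Y))).app
    (Twist.twistProjSpace r (ULift.{u} ℤ) d)) ≪≫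
  (Scheme.Modules.pullbackCongr (chart_fst r g)).app _ ≪≫
  Groth.Agent.H1.ProjTw.projBCTwistIso r (OB.zHom R) d

instance isOpenImmersion_chart [IsOpenImmersion g] : IsOpenImmersion (chart r g) :=
  MorphismProperty.of_isPullback (P := @IsOpenImmersion) (isPullback_chart r g).flip inferInstance

lemma range_chart :
    Set.range (chart r g) = (CohB1.ProjSpaceOver.toBase r Y) ⁻¹' Set.range g := by
  have h := isPullback_chart r g
  have h1 : chart r g = h.isoPullback.hom ≫ pullback.fst _ _ := h.isoPullback_hom_fst.symm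
  have hsurj : Set.range h.isoPullback.hom = Set.univ :=
    Set.range_eq_univ.mpr h.isoPullback.hom.homeomorph.surjective
  rw [h1, Scheme.Hom.comp_base, TopCat.coe_comp, Set.range_comp, hsurj, Set.image_univ,
    Scheme.Pullback.range_fst]

lemma opensRange_chart [IsOpenImmersion g] :
    (chart r g).opensRange = (CohB1.ProjSpaceOver.toBase r Y) ⁻¹ᵁ g.opensRange := by
  ext x
  change x ∈ Set.range (chart r g) ↔ _
  rw [range_chart]
  rfl

/-- **local vanishing**: the cohomology of `O(d)` over the preimage of an affine open. -/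
theorem subsingleton_ext_twistOver (Y : Scheme.{u}) (V : Y.Opens) (hV : IsAffineOpen V) (d : ℤ)
    (q : ℕ) (h₀ : ¬ (q = 0 ∧ 0 ≤ d)) (hn : ¬ (q = r ∧ d ≤ -((r : ℤ) + 1))) :
    Subsingleton (Ext (SC.ZU (Opens.grothendieckTopology (CohB1.ProjSpaceOver r Y))
      ((CohB1.ProjSpaceOver.toBase r Y) ⁻¹ᵁ V)) (Coh.toAb (Twist.twistOver r Y d)) q) := by
  have hvan := subsingleton_HH_twist_all r Γ(Y, V) d q h₀ hn
  obtain ⟨e⟩ := SC.HH_restrict_equiv (chart r hV.fromSpec) (Twist.twistOver r Y d) q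
  rw [opensRange_chart, hV.opensRange_fromSpec] at e
  have e2 : (Twist.twistOver r Y d).restrict (chart r hV.fromSpec) ≅
      Twist.twist (CohB1.polyGrading r Γ(Y, V)) d :=
    (Scheme.Modules.restrictFunctorIsoPullback (chart r hV.fromSpec)).app _ ≪≫
      chartTwistIso r hV.fromSpec d
  have hsub : Subsingleton (Coh.HH (CohB1.ProjSpace r Γ(Y, V))
      ((Twist.twistOver r Y d).restrict (chart r hV.fromSpec)) q) :=
    subsingleton_HH_of_iso e2.symm q hvan
  exact e.symm.toEquiv.subsingleton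

/-- **relative cohomology of `O(d)` on `P^r_Y`** (any base scheme `Y`). -/
theorem isZero_RpushAb_twistOver (Y : Scheme.{u}) (d : ℤ)
    (q : ℕ) (h₀ : ¬ (q = 0 ∧ 0 ≤ d)) (hn : ¬ (q = r ∧ d ≤ -((r : ℤ) + 1))) :
    IsZero ((Coh.RpushAb (CohB1.ProjSpaceOver.toBase r Y) q).obj
      (Coh.toAb (Twist.twistOver r Y d))) := by
  refine SC.isZero_RpushAb_of_basis _ _ q {V | IsAffineOpen V} (Scheme.isBasis_affineOpens Y) ?_
  intro V hV
  exact subsingleton_ext_twistOver r Y V hV d q h₀ hn

end Groth.Agent.LD.PN.OC
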