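import Groth.Agent.Lib.Lead.PN.LaurentNeg
import Mathlib.Algebra.MonoidAlgebra.Module
import Mathlib.RingTheory.MvPolynomial.Homogeneous

/-! # The negative part of the Laurent polynomial ring in degree `-(n+1+k)` is the module of
homogeneous polynomials of degree `k`. -/

universe u
open AddMonoidAlgebra

namespace Groth.Agent.LD.PN

variable (n : ℕ) (R : Type u) [CommRing R]

/-- `m ↦ -m - (1, …, 1)`. -/
noncomputable def negF (m : Fin (n+1) →₀ ℕ) : Fin (n+1) →₀ ℤ :=
  Finsupp.equivFunOnFinite.symm fun j => -(m j : ℤ) - 1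

variable {n} in
@[simp] lemma negF_apply (m : Fin (n+1) →₀ ℕ) (j : Fin (n+1)) : negF n m j = -(m j : ℤ) - 1 := rfl

lemma negF_injective : Function.Injective (negF n) := by
  intro m m' h
  ext j
  have := DFunLike.congr_fun h j
  simp only [negF_apply] at this
  omega

variable {n} in
lemma degree_negF (m : Fin (n+1) →₀ ℕ) :
    Finsupp.degree (negF n m) = -((Finsupp.degree m : ℕ) : ℤ) - ((n : ℤ) + 1) := by
  rw [Finsupp.degree_eq_sum, Finsupp.degree_eq_sum]
  simp only [negF_apply]
  rw [Finset.sum_sub_distrib, Finset.sum_neg_distrib]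
  push_cast
  simp

/-- the map `X^m ↦ T^{-m-1}`. -/
noncomputable def negMap : MvPolynomial (Fin (n+1)) R →ₗ[R] Lau n R :=
  AddMonoidAlgebra.mapDomainLinearMap R R (negF n)

variable {n R} in
lemma coeff_negMap (b : MvPolynomial (Fin (n+1)) R) (m : Fin (n+1) →₀ ℕ) :
    (negMap n R b).coeff (negF n m) = MvPolynomial.coeff m b := by
  change (Finsupp.mapDomain (negF n)
    (AddMonoidAlgebra.coeff (show AddMonoidAlgebra R (Fin (n+1) →₀ ℕ) from b))) (negF n m) = _
  rw [Finsupp.mapDomain_apply (negF_injective n)]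
  rfl

variable {n R} in
lemma exists_of_coeff_negMap_ne_zero (b : MvPolynomial (Fin (n+1)) R) (e : Fin (n+1) →₀ ℤ)
    (h : (negMap n R b).coeff e ≠ 0) : ∃ m, negF n m = e ∧ MvPolynomial.coeff m b ≠ 0 := by
  by_cases hr : e ∈ Set.range (negF n)
  · obtain ⟨m, rfl⟩ := hr
    exact ⟨m, rfl, by rwa [coeff_negMap] at h⟩
  · exfalso
    apply h
    change (Finsupp.mapDomain (negF n)
      (AddMonoidAlgebra.coeff (show AddMonoidAlgebra R (Fin (n+1) →₀ ℕ) from b))) e = 0
    exact Finsupp.mapDomain_notin_range _ _ hr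

lemma negMap_injective : Function.Injective (negMap n R) := by
  intro b b' h
  apply MvPolynomial.ext
  intro m
  rw [← coeff_negMap, ← coeff_negMap, h]

variable {n R} in
lemma negMap_mem (k : ℕ) (b : MvPolynomial (Fin (n+1)) R) (hb : b.IsHomogeneous k) :
    negMap n R b ∈ Nset n R (-((n : ℤ) + 1 + k)) := by
  intro e he
  obtain ⟨m, rfl, hm⟩ := exists_of_coeff_negMap_ne_zero b e he
  have h1 : Finsupp.weight (1 : Fin (n+1) → ℕ) m = k := hb hm
  have h4 : Finsupp.weight (1 : Fin (n+1) → ℕ) m = Finsupp.degree m := by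
    rw [Finsupp.degree_eq_weight_one]; rfl
  refine ⟨?_, fun j => ?_⟩
  · rw [degree_negF, ← h4, h1]
    ring
  · rw [negF_apply]
    omega

variable {n R} in
lemma exists_negMap_eq (k : ℕ) (g : Lau n R) (hg : g ∈ Nset n R (-((n : ℤ) + 1 + k))) :
    ∃ b : MvPolynomial (Fin (n+1)) R, b.IsHomogeneous k ∧ negMap n R b = g := by
  classical
  have hr : ∀ e : Fin (n+1) →₀ ℤ, g.coeff e ≠ 0 → e ∈ Set.range (negF n) := by
    intro e he
    refine ⟨Finsupp.equivFunOnFinite.symm fun i => (-(e i) - 1).toNat, ?_⟩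
    ext i
    rw [negF_apply]
    change -((((-(e i) - 1).toNat : ℕ) : ℤ)) - 1 = e i
    have := (hg e he).2 i
    rw [Int.toNat_of_nonneg (by omega)]
    ring
  let b0 : (Fin (n+1) →₀ ℕ) →₀ R :=
    Finsupp.comapDomain (negF n) g.coeff ((negF_injective n).injOn)
  let b : MvPolynomial (Fin (n+1)) R := AddMonoidAlgebra.ofCoeff b0
  have hb : negMap n R b = g := by
    apply coeff_injective
    change Finsupp.mapDomain (negF n) b0 = _
    apply Finsupp.mapDomain_comapDomain _ (negF_injective n)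
    intro e he
    exact hr e (Finsupp.mem_support_iff.1 he)
  refine ⟨b, ?_, hb⟩
  intro m hm
  have h1 : g.coeff (negF n m) ≠ 0 := by rwa [← hb, coeff_negMap]
  have h2 := (hg _ h1).1
  rw [degree_negF] at h2
  have h4 : Finsupp.weight (1 : Fin (n+1) → ℕ) m = Finsupp.degree m := by
    rw [Finsupp.degree_eq_weight_one]; rfl
  change Finsupp.weight 1 m = _
  rw [h4]
  have : ((Finsupp.degree m : ℕ) : ℤ) = k := by linarith
  exact_mod_cast this

/-- **homogeneous polynomials of degree `k` are the negative Laurent polynomials of degree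
`-(n+1+k)`**. -/
noncomputable def negPolyEquiv (k : ℕ) :
    ↥(MvPolynomial.homogeneousSubmodule (Fin (n+1)) R k) ≃ₗ[R]
      Nset n R (-((n : ℤ) + 1 + k)) :=
  LinearEquiv.ofBijective
    (((negMap n R).comp (MvPolynomial.homogeneousSubmodule (Fin (n+1)) R k).subtype).codRestrict
      (Nset n R (-((n : ℤ) + 1 + k)))
      (fun b => negMap_mem k b.1 ((MvPolynomial.mem_homogeneousSubmodule _ _).1 b.2)))
    ⟨fun b b' h => Subtype.ext (negMap_injective n R (congrArg Subtype.val h)),
     fun g => by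
      obtain ⟨b, hb, hbg⟩ := exists_negMap_eq k g.1 g.2
      exact ⟨⟨b, (MvPolynomial.mem_homogeneousSubmodule _ _).2 hb⟩, Subtype.ext hbg⟩⟩

end Groth.Agent.LD.PN
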