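import Groth.Agent.Lib.Lead.PN.ThetaSmul
import Groth.Agent.Lib.Lead.PN.NegPoly

/-! # `H⁰(P^0_R, O(d))` for negative `d`. -/

universe u
open CategoryTheory AlgebraicGeometry TopologicalSpace Opposite Limits AddMonoidAlgebra

namespace Groth.Agent.LD.PN

variable (R : Type u) [CommRing R] (d : ℤ)

open Twist TW

lemma Ui_zero_eq_top :
    (Ui (n := 0) (R := R) 0 : Opens (ProjectiveSpectrum.top (CohB1.polyGrading 0 R))) = ⊤ := by
  rw [eq_top_iff]
  intro x _
  obtain ⟨f, ⟨i, rfl⟩, hx⟩ := exists_mem_basicOpen_of_span (irrelevant_eq_span 0 R) x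
  have hi : i = 0 := Fin.ext (by have := i.2; omega)
  subst hi
  exact hx

lemma thetaG_add (s t : sectN (𝒜 := CohB1.polyGrading 0 R) d (op ⊤)) :
    thetaG d 0 (s + t) = thetaG d 0 s + thetaG d 0 t :=
  theta_add (single_fact 0) d rfl (resSec le_top s) (resSec le_top t)

lemma thetaG_mem_Nset (hd : d < 0) (s : sectN (𝒜 := CohB1.polyGrading 0 R) d (op ⊤)) :
    thetaG d 0 s ∈ Nset 0 R d := by
  intro e he
  have h1 := (thetaG_mem d 0 s e he).1
  refine ⟨h1, fun j => ?_⟩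
  have hj : j = 0 := Fin.ext (by have := j.2; omega)
  subst hj
  rw [Finsupp.degree_eq_sum, Fin.sum_univ_succ] at h1
  simp only [Finset.univ_eq_empty, Finset.sum_empty, add_zero] at h1
  omega

lemma exists_thetaG_eq (ℓ : Lau 0 R) (hℓ : ℓ ∈ Nset 0 R d) :
    ∃ s : sectN (𝒜 := CohB1.polyGrading 0 R) d (op ⊤), thetaG d 0 s = ℓ := by
  have hM : ℓ ∈ Mset 0 R (Finsupp.single 0 1) d := by
    apply mem_Mset_of_mem_Nset _ d ℓ hℓ
    intro j
    have hj : j = 0 := Fin.ext (by have := j.2; omega)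
    subst hj
    simp
  obtain ⟨s, hs⟩ := exists_theta_eq (single_fact (0 : Fin 1)) d
    (rfl : Ui (n := 0) (R := R) 0 = _) ℓ hM
  have hle : (⊤ : Opens (ProjectiveSpectrum.top (CohB1.polyGrading 0 R))) ≤ Ui 0 :=
    (Ui_zero_eq_top R).ge
  refine ⟨resSec hle s, ?_⟩
  rw [thetaG]
  have : resSec le_top (resSec hle s) = s := by
    apply sectN_ext
    intro x
    rfl
  rw [this]
  exact hs

/-- the Laurent polynomial of a global section of `O(d)` on `P^0`, `d < 0`. -/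
noncomputable def thetaGN0 (hd : d < 0) :
    sectN (𝒜 := CohB1.polyGrading 0 R) d (op ⊤) → Nset 0 R d :=
  fun s => ⟨thetaG d 0 s, thetaG_mem_Nset R d hd s⟩

lemma thetaGN0_add (hd : d < 0) (s t : sectN (𝒜 := CohB1.polyGrading 0 R) d (op ⊤)) :
    thetaGN0 R d hd (s + t) = thetaGN0 R d hd s + thetaGN0 R d hd t :=
  Subtype.ext (thetaG_add R d s t)

/-- the Laurent polynomial of a global section of `O(d)` on `P^0`, `d < 0`, additive. -/
noncomputable def thetaGN (hd : d < 0) :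
    sectN (𝒜 := CohB1.polyGrading 0 R) d (op ⊤) →+ Nset 0 R d :=
  AddMonoidHom.mk' (thetaGN0 R d hd) (thetaGN0_add R d hd)

lemma thetaGN_val (hd : d < 0) (s : sectN (𝒜 := CohB1.polyGrading 0 R) d (op ⊤)) :
    (thetaGN R d hd s).1 = thetaG d 0 s := rfl

lemma thetaGN_bijective (hd : d < 0) : Function.Bijective (thetaGN R d hd) := by
  constructor
  · intro s t h
    have h' := congrArg Subtype.val h
    rw [thetaGN_val, thetaGN_val] at h'
    exact thetaG_injective d 0 h'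
  · intro g
    have h := exists_thetaG_eq R d g.1 g.2
    exact ⟨h.choose, Subtype.ext h.choose_spec⟩

/-- global sections of `O(d)` on `P^0` for `d < 0`. -/
noncomputable def secZeroEquiv (hd : d < 0) :
    sectN (𝒜 := CohB1.polyGrading 0 R) d (op ⊤) ≃+ Nset 0 R d :=
  AddEquiv.ofBijective (thetaGN R d hd) (thetaGN_bijective R d hd)

lemma secZeroEquiv_val (hd : d < 0) (s : sectN (𝒜 := CohB1.polyGrading 0 R) d (op ⊤)) :
    (secZeroEquiv R d hd s).1 = thetaG d 0 s := rfl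

/-- `H⁰(P^0, O(d))` for `d < 0`, additively. -/
noncomputable def H0ZeroAddEquiv (hd : d < 0) :
    Coh.HH (CohB1.ProjSpace 0 R) (Twist.twistProjSpace 0 R d) 0 ≃+ Nset 0 R d :=
  (Sheaf.H.equiv₀ (Coh.toAb (Twist.twistProjSpace 0 R d))
    (isTerminalTop (α := (CohB1.ProjSpace 0 R).Opens))).trans (secZeroEquiv R d hd)

theorem H0ZeroAddEquiv_smul (hd : d < 0) (c : R)
    (x : Coh.HH (CohB1.ProjSpace 0 R) (Twist.twistProjSpace 0 R d) 0) :
    H0ZeroAddEquiv R d hd (c • x) = c • H0ZeroAddEquiv R d hd x := by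
  have h1 := equiv₀_smul (Twist.twistProjSpace 0 R d)
    (Coh.toGlobal (CohB1.ProjSpace.toSpec 0 R) c) x
  apply Subtype.ext
  rw [Submodule.coe_smul]
  change thetaG d 0 (Sheaf.H.equiv₀ (Coh.toAb (Twist.twistProjSpace 0 R d))
    (isTerminalTop (α := (CohB1.ProjSpace 0 R).Opens)) (c • x)) =
    c • thetaG d 0 (Sheaf.H.equiv₀ (Coh.toAb (Twist.twistProjSpace 0 R d))
    (isTerminalTop (α := (CohB1.ProjSpace 0 R).Opens)) x)
  refine (congrArg (thetaG d 0) h1).trans ?_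
  set s : sectN (𝒜 := CohB1.polyGrading 0 R) d (op ⊤) :=
    Sheaf.H.equiv₀ (Coh.toAb (Twist.twistProjSpace 0 R d))
      (isTerminalTop (α := (CohB1.ProjSpace 0 R).Opens)) x with hs
  rw [thetaG, thetaG]
  apply theta_smul (single_fact (0 : Fin 1)) d (rfl : Ui (n := 0) (R := R) 0 = _) c
  intro y
  rw [resSec_val, resSec_val]
  have h2 := smul_sec_val (𝒜 := CohB1.polyGrading 0 R) (k := d) (W := ⊤)
    (Coh.toGlobal (CohB1.ProjSpace.toSpec 0 R) c) s ⟨y.1, trivial⟩
  refine h2.trans ?_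
  congr 1
  exact toGlobal_val (n := 0) c y.1

/-- **`H⁰(P^0_R, O(-(1+k)))`** is the module of homogeneous polynomials of degree `k` in one
variable. -/
noncomputable def H0ZeroLinearEquiv (k : ℕ) :
    Coh.HH (CohB1.ProjSpace 0 R) (Twist.twistProjSpace 0 R (-(((0 : ℕ) : ℤ) + 1 + k))) 0 ≃ₗ[R]
      ↥(MvPolynomial.homogeneousSubmodule (Fin (0 + 1)) R k) :=
  ((H0ZeroAddEquiv R _ (by push_cast; omega)).toLinearEquiv
    (H0ZeroAddEquiv_smul R _ (by push_cast; omega))).trans (negPolyEquiv 0 R k).symm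

end Groth.Agent.LD.PN
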