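import Groth.Agent.Lib.Lead.PN.TopLin
import Groth.Agent.Lib.Lead.PN.TopZero
import Groth.Agent.Lib.Lead.PN.H0Lin
import Groth.Agent.Lib.Lead.CohLES.Finite
import Groth.Agent.Lib.Lead.QC.Coh
import Groth.Agent.Lib.Lead.QC.AmpleIso
import Groth.Agent.Lib.Lead.QC.InvEpi
import Groth.Agent.Lib.Lead.TW.SerreGen
import Groth.Agent.Lib.Lead.QC.SigmaFin

/-! # Finiteness of the cohomology of coherent modules on projective space over a noetherian
ring. -/

universe u
open CategoryTheory AlgebraicGeometry TopologicalSpace Opposite Limits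

namespace Groth.Agent.LD.PN

variable (n : ℕ) (R : Type u) [CommRing R]

open Twist TW CH

instance finite_homogeneousSubmodule (k : ℕ) :
    Module.Finite R ↥(MvPolynomial.homogeneousSubmodule (Fin (n+1)) R k) :=
  Module.Finite.of_fg (MvPolynomial.homogeneousSubmodule_fg (Fin (n+1)) R k)

/-- the cohomology of `O(d)` on projective space is a finite module. -/
theorem finite_HH_twist (d : ℤ) (i : ℕ) :
    Module.Finite R (Coh.HH (CohB1.ProjSpace n R) (Twist.twistProjSpace n R d) i) := by
  by_cases h₀ : i = 0 ∧ 0 ≤ d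
  · obtain ⟨rfl, hd⟩ := h₀
    obtain ⟨k, rfl⟩ := Int.eq_ofNat_of_zero_le hd
    exact Module.Finite.equiv (H0LinearEquiv (n := n) (R := R) k).symm
  by_cases hn : i = n ∧ d ≤ -((n : ℤ) + 1)
  · obtain ⟨rfl, hd⟩ := hn
    obtain ⟨k, rfl⟩ : ∃ k : ℕ, d = -((i : ℤ) + 1 + k) :=
      ⟨(-d - ((i : ℤ) + 1)).toNat, by rw [Int.toNat_of_nonneg (by omega)]; ring⟩
    rcases i with _ | m
    · exact Module.Finite.equiv (H0ZeroLinearEquiv R k).symm
    · exact Module.Finite.equiv (HHTopLinearEquiv R m k).symm
  · haveI : Subsingleton (Coh.HH (CohB1.ProjSpace n R) (Twist.twistProjSpace n R d) i) :=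
      subsingleton_HH_twist_all n R d i h₀ hn
    infer_instance

instance : IsScalarTower R (CohB1.polyGrading n R 0) (MvPolynomial (Fin (n+1)) R) :=
  ⟨fun r p q => by
    change ((r • p : CohB1.polyGrading n R 0) : MvPolynomial (Fin (n+1)) R) * q =
      r • ((p : MvPolynomial (Fin (n+1)) R) * q)
    rw [Submodule.coe_smul, smul_mul_assoc]⟩

instance : Algebra.FiniteType (CohB1.polyGrading n R 0) (MvPolynomial (Fin (n+1)) R) :=
  Algebra.FiniteType.of_restrictScalars_finiteType R _ _

lemma algebraMap_zero_surjective :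
    Function.Surjective (algebraMap R (CohB1.polyGrading n R 0)) := by
  intro p
  have hp : (p : MvPolynomial (Fin (n+1)) R).IsHomogeneous 0 :=
    (MvPolynomial.mem_homogeneousSubmodule _ _).1 p.2
  have h1 : (p : MvPolynomial (Fin (n+1)) R).totalDegree = 0 :=
    Nat.le_zero.1 hp.totalDegree_le
  refine ⟨MvPolynomial.coeff 0 p.1, Subtype.ext ?_⟩
  exact (MvPolynomial.totalDegree_eq_zero_iff_eq_C.1 h1).symm

instance [IsNoetherianRing R] : IsNoetherianRing (CohB1.polyGrading n R 0) :=
  isNoetherianRing_of_surjective R _ (algebraMap R (CohB1.polyGrading n R 0))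
    (algebraMap_zero_surjective n R)

set_option backward.isDefEq.respectTransparency false in
instance locallyOfFiniteType_toSpecZero :
    LocallyOfFiniteType (Proj.toSpecZero (CohB1.polyGrading n R)) := inferInstance

instance isLocallyNoetherian_projSpace [IsNoetherianRing R] :
    IsLocallyNoetherian (CohB1.ProjSpace n R) := by
  change IsLocallyNoetherian (Proj (CohB1.polyGrading n R))
  exact LocallyOfFiniteType.isLocallyNoetherian (Proj.toSpecZero (CohB1.polyGrading n R))

/-- every quasi-coherent module of finite type on projective space is a quotient of a finite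
direct sum of copies of `O(-m)`, for all large `m`. -/
theorem exists_epi_sigma_twist (F : (Proj (CohB1.polyGrading n R)).Modules)
    (hF : F.IsQuasicoherent) (hFT : F.IsFiniteType) :
    ∃ m₀ : ℕ, ∀ m : ℕ, m₀ ≤ m → ∃ (k : ℕ)
      (p : (∐ fun _ : Fin k => twist (CohB1.polyGrading n R) (-(m : ℤ))) ⟶ F), Epi p := by
  classical
  haveI : F.IsQuasicoherent := hF
  have hs1 : ∀ f ∈ (Finset.univ.image (MvPolynomial.X : Fin (n+1) → MvPolynomial (Fin (n+1)) R)),
      f ∈ CohB1.polyGrading n R 1 := by
    intro f hf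
    obtain ⟨i, -, rfl⟩ := Finset.mem_image.1 hf
    exact X_mem i
  have hs : (HomogeneousIdeal.irrelevant (CohB1.polyGrading n R)).toIdeal =
      Ideal.span ((Finset.univ.image
        (MvPolynomial.X : Fin (n+1) → MvPolynomial (Fin (n+1)) R) : Finset _) : Set _) := by
    rw [irrelevant_eq_span, Finset.coe_image, Finset.coe_univ, Set.image_univ]
  obtain ⟨N₀, h⟩ := exists_epi_free_twistBy (𝒜 := CohB1.polyGrading n R) _ hs1 hs F hFT
  refine ⟨N₀, fun m hm => ?_⟩
  obtain ⟨k, q, hq⟩ := h m hm
  have hM := isInvertible_twist n R (-(m : ℤ))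
  let ε : CohB1.tensorMod (twist (CohB1.polyGrading n R) (m : ℤ))
      (twist (CohB1.polyGrading n R) (-(m : ℤ))) ≅ QC.unitMod (Proj (CohB1.polyGrading n R)) :=
    mulTensorIso hs1 hs (m : ℤ) (-(m : ℤ)) ≪≫ twistCongr (by simp) ≪≫
      twistZeroIso (CohB1.polyGrading n R)
  obtain ⟨p, hp⟩ := QC.exists_epi_sigma_of_inverse F (twist (CohB1.polyGrading n R) (m : ℤ))
    (twist (CohB1.polyGrading n R) (-(m : ℤ))) hM ε q hq
  exact ⟨k, p, hp⟩

/-- the cohomology of quasi-coherent modules on `P^n` vanishes above degree `n`. -/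
theorem subsingleton_HH_of_lt (M : (Proj (CohB1.polyGrading n R)).Modules) [M.IsQuasicoherent]
    (i : ℕ) (hi : n < i) : Subsingleton (Coh.HH (Proj (CohB1.polyGrading n R)) M i) := by
  classical
  obtain ⟨p, rfl⟩ : ∃ p, i = p + 1 := ⟨i - 1, by omega⟩
  refine SC.subsingleton_HH_of_affine_cover (Proj (CohB1.polyGrading n R)) M
    (Finset.univ.image (UU n R)) ?_ ?_ p ?_
  · intro W hW
    obtain ⟨v, -, rfl⟩ := Finset.mem_image.1 hW
    exact Proj.isAffineOpen_basicOpen _ _ (X_mem v.down) one_pos
  · rw [Finset.sup_image, ← iSup_UU n R]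
    exact Finset.sup_univ_eq_iSup _
  · refine Finset.card_image_le.trans ?_
    simp
    omega

/-- the structure morphism, for `Proj` of the polynomial ring. -/
noncomputable instance overProj : (Proj (CohB1.polyGrading n R)).Over (Spec (CommRingCat.of R)) :=
  ⟨CohB1.ProjSpace.toSpec n R⟩

theorem finite_HH_twist' (d : ℤ) (i : ℕ) :
    Module.Finite R (Coh.HH (Proj (CohB1.polyGrading n R)) (twist (CohB1.polyGrading n R) d) i) :=
  finite_HH_twist n R d i

instance isLocallyNoetherian_proj [IsNoetherianRing R] :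
    IsLocallyNoetherian (Proj (CohB1.polyGrading n R)) :=
  isLocallyNoetherian_projSpace n R

theorem finite_HH_coh' [IsNoetherianRing R] (M : (Proj (CohB1.polyGrading n R)).Modules)
    (hM : Coh.IsCoh M) (i : ℕ) : Module.Finite R (Coh.HH (Proj (CohB1.polyGrading n R)) M i) := by
  refine CL.finite_HH_of_devissage R (fun M => Coh.IsCoh M) ?_ n ?_ M hM i
  · intro M hM
    obtain ⟨m₀, h⟩ := exists_epi_sigma_twist n R M hM.1 hM.2
    obtain ⟨k, p, hp⟩ := h m₀ le_rfl
    have hEqc : (∐ fun _ : Fin k => twist (CohB1.polyGrading n R) (-(m₀ : ℤ))).IsQuasicoherent :=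
      QC.qc_sigma_fin _ k
    have hEft : (∐ fun _ : Fin k => twist (CohB1.polyGrading n R) (-(m₀ : ℤ))).IsFiniteType :=
      QC.isFiniteType_sigma_fin _
        (QC.isFiniteType_of_isInvertible _ (isInvertible_twist n R (-(m₀ : ℤ)))) k
    have hKqc : (kernel p).IsQuasicoherent := QC.qc_kernel p hEqc hM.1
    refine ⟨ShortComplex.mk (kernel.ι p) p (kernel.condition p), ?_, ⟨Iso.refl _⟩,
      ⟨hKqc, QC.isFiniteType_of_mono (kernel.ι p) hKqc hEqc hEft⟩, fun i => ?_⟩
    · exact { exact := ShortComplex.exact_of_f_is_kernel _ (kernelIsKernel p)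
              mono_f := inferInstanceAs (Mono (kernel.ι p))
              epi_g := hp }
    · haveI := finite_HH_twist' n R (-(m₀ : ℤ)) i
      exact CL.finite_HH_sigma R (twist (CohB1.polyGrading n R) (-(m₀ : ℤ))) k i
  · intro M hM i hi
    haveI : M.IsQuasicoherent := hM.1
    exact subsingleton_HH_of_lt n R M i hi

/-- **Serre's finiteness theorem on projective space**: the cohomology of a coherent module on
`P^n_R`, `R` noetherian, is a finite `R`-module. -/
theorem finite_HH_coh [IsNoetherianRing R] (M : (CohB1.ProjSpace n R).Modules)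
    (hM : Coh.IsCoh M) (i : ℕ) : Module.Finite R (Coh.HH (CohB1.ProjSpace n R) M i) :=
  finite_HH_coh' n R M hM i

end Groth.Agent.LD.PN
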