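import Groth.Agent.Lib.Lead.PN.Duality
import Groth.Agent.Lib.Lead.PN.Finite
import Groth.Agent.Lib.Lead.CohLES.Dual

/-! # `O(-n-1)` is a dualizing module on `P^n` for coherent modules. -/

universe u
open CategoryTheory AlgebraicGeometry TopologicalSpace Opposite Limits AddMonoidAlgebra

namespace Groth.Agent.LD.PN

variable (n : ℕ) (R : Type u) [CommRing R]

open Twist TW CH CL

/-- every morphism `O(d) ⟶ O(d')` on `P^n`, `d' = k + d`, is the multiplication by a
homogeneous polynomial of degree `k`. -/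
theorem exists_isMulBy' {d d' : ℤ} (k : ℕ) (hd : d' = k + d)
    (φ : twist (CohB1.polyGrading n R) d ⟶ twist (CohB1.polyGrading n R) d') :
    ∃ f : MvPolynomial (Fin (n+1)) R, f ∈ CohB1.polyGrading n R k ∧ IsMulBy φ f := by
  have hk : -d + d' = (k : ℤ) := by omega
  obtain ⟨f, hf⟩ := globalOf_surjective (n := n) (R := R) k
    (castSec hk (multSec (X_range_mem n R) (irrelevant_eq_span n R) φ))
  refine ⟨f.1, f.2, fun W t y => ?_⟩
  rw [hom_val (X_range_mem n R) (irrelevant_eq_span n R) φ t y]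
  congr 1
  rw [← castSec_val hk, ← hf, globalOf_val]
  rfl

/-- the multiplication by a homogeneous polynomial of degree `k` as a morphism `O(d) ⟶ O(d')`. -/
theorem exists_hom_isMulBy' {d d' : ℤ} (k : ℕ) (hd : d' = k + d)
    (f : MvPolynomial (Fin (n+1)) R) (hf : f ∈ CohB1.polyGrading n R k) :
    ∃ φ : twist (CohB1.polyGrading n R) d ⟶ twist (CohB1.polyGrading n R) d',
      IsMulBy φ f := by
  obtain ⟨φ, hφ⟩ := exists_hom_of_sec hd (globalOf (CohB1.polyGrading n R) ⟨f, hf⟩)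
  refine ⟨φ, fun W t y => (hφ W t y).trans ?_⟩
  rw [globalOf_val]
  rfl

/-- duality for the twisting sheaves from the formula for the pairing. -/
theorem isDualFor_of_pairing (k : ℕ) (d d' : ℤ) (hd : d' = k + d)
    (hd' : d = -((n : ℤ) + 1 + k))
    (E : Coh.HH (Proj (CohB1.polyGrading n R)) (twist (CohB1.polyGrading n R) d) n ≃ₗ[R]
      Nset n R d)
    (t : Coh.HH (Proj (CohB1.polyGrading n R)) (twist (CohB1.polyGrading n R) d') n →ₗ[R] R)
    (hmap : ∀ (φ : twist (CohB1.polyGrading n R) d ⟶ twist (CohB1.polyGrading n R) d')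
      (f : MvPolynomial (Fin (n+1)) R), f ∈ CohB1.polyGrading n R k → IsMulBy φ f →
      ∀ x, t (HHmap R φ n x) = pairL f d (E x)) :
    IsDualFor R n (twist (CohB1.polyGrading n R) d') t (twist (CohB1.polyGrading n R) d) := by
  intro ψ
  obtain ⟨f, hf, hfL⟩ := exists_pairL_eq' k d hd' (ψ.comp E.symm.toLinearMap)
  have hfmem : f ∈ CohB1.polyGrading n R k := (MvPolynomial.mem_homogeneousSubmodule _ _).2 hf
  obtain ⟨φ, hφ⟩ := exists_hom_isMulBy' n R k hd f hfmem
  have hψ : ∀ x, ψ x = pairL f d (E x) := by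
    intro x
    rw [hfL]
    change ψ x = ψ (E.symm (E x))
    rw [LinearEquiv.symm_apply_apply]
  refine ⟨φ, fun x => ?_, fun φ₁ hφ₁ => ?_⟩
  · rw [hψ x]
    exact (hmap φ f hfmem hφ x).symm
  · obtain ⟨f₁, hf₁mem, hφ₁m⟩ := exists_isMulBy' n R k hd φ₁
    have hff : f₁ = f := by
      apply pairL_injective' k d hd' f₁ f
        ((MvPolynomial.mem_homogeneousSubmodule _ _).1 hf₁mem) hf
      apply LinearMap.ext
      intro g
      obtain ⟨x, rfl⟩ := E.surjective g
      rw [← hψ x, hφ₁ x]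
      exact (hmap φ₁ f₁ hf₁mem hφ₁m x).symm
    subst hff
    exact hφ₁m.ext hφ

/-- duality for `O(-(m+2+k))` on `P^{m+1}`. -/
theorem isDualFor_twist_succ (m k : ℕ) :
    IsDualFor R (m+1) (twist (CohB1.polyGrading (m+1) R) (-(((m+1 : ℕ) : ℤ) + 1)))
      (trL R (-(((m+1 : ℕ) : ℤ) + 1)) m)
      (twist (CohB1.polyGrading (m+1) R) (-(((m+1 : ℕ) : ℤ) + 1 + k))) := by
  refine isDualFor_of_pairing (m+1) R k _ _ (by ring) rfl
    ((HHTopEquiv R (-(((m+1 : ℕ) : ℤ) + 1 + k)) m).toLinearEquiv (HHTopEquiv_smul R _ m))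
    (trL R (-(((m+1 : ℕ) : ℤ) + 1)) m) ?_
  intro φ f hf hφ x
  exact trL_map R m k (by ring) φ f hf hφ x

/-- the map induced on `H⁰(P^0, -)` by the multiplication by a homogeneous polynomial. -/
theorem H0Zero_map {d d' : ℤ} (hd : d < 0) (hd' : d' < 0) (k : ℕ) (hk : d' = k + d)
    (φ : twist (CohB1.polyGrading 0 R) d ⟶ twist (CohB1.polyGrading 0 R) d')
    (f : MvPolynomial (Fin (0+1)) R) (hf : f ∈ CohB1.polyGrading 0 R k) (hφ : IsMulBy φ f)
    (x : Coh.HH (CohB1.ProjSpace 0 R) (Twist.twistProjSpace 0 R d) 0) :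
    (H0ZeroAddEquiv R d' hd' (Sheaf.H.map
      ((SheafOfModules.toSheaf (CohB1.ProjSpace 0 R).ringCatSheaf).map φ) 0 x)).1 =
      ιL 0 R f * (H0ZeroAddEquiv R d hd x).1 := by
  have h1 := Sheaf.H.equiv₀_naturality (isTerminalTop (α := (CohB1.ProjSpace 0 R).Opens))
    ((SheafOfModules.toSheaf (CohB1.ProjSpace 0 R).ringCatSheaf).map φ) x
  change thetaG d' 0 (Sheaf.H.equiv₀ (Coh.toAb (Twist.twistProjSpace 0 R d'))
    (isTerminalTop (α := (CohB1.ProjSpace 0 R).Opens)) _) =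
    ιL 0 R f * thetaG d 0 (Sheaf.H.equiv₀ (Coh.toAb (Twist.twistProjSpace 0 R d))
    (isTerminalTop (α := (CohB1.ProjSpace 0 R).Opens)) x)
  refine (congrArg (thetaG d' 0) h1.symm).trans ?_
  set s : sectN (𝒜 := CohB1.polyGrading 0 R) d (op ⊤) :=
    Sheaf.H.equiv₀ (Coh.toAb (Twist.twistProjSpace 0 R d))
      (isTerminalTop (α := (CohB1.ProjSpace 0 R).Opens)) x with hs
  rw [thetaG, thetaG]
  apply theta_mul (single_fact (0 : Fin 1)) d d' k hk (rfl : Ui (n := 0) (R := R) 0 = _) f hf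
  intro y
  rw [resSec_val, resSec_val]
  exact hφ ⊤ s ⟨y.1, trivial⟩

/-- the linear form "coefficient of `T^{-1}`" on `H⁰(P^0, O(d))`, `d < 0`. -/
noncomputable def tr0 (d : ℤ) (hd : d < 0) :
    Coh.HH (CohB1.ProjSpace 0 R) (Twist.twistProjSpace 0 R d) 0 →ₗ[R] R :=
  (coefL 0 R d).comp
    ((H0ZeroAddEquiv R d hd).toLinearEquiv (H0ZeroAddEquiv_smul R d hd)).toLinearMap

lemma tr0_apply (d : ℤ) (hd : d < 0)
    (x : Coh.HH (CohB1.ProjSpace 0 R) (Twist.twistProjSpace 0 R d) 0) :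
    tr0 R d hd x = coefL 0 R d (H0ZeroAddEquiv R d hd x) := rfl

theorem tr0_map {d d' : ℤ} (hd : d < 0) (hd' : d' < 0) (k : ℕ) (hk : d' = k + d)
    (φ : twist (CohB1.polyGrading 0 R) d ⟶ twist (CohB1.polyGrading 0 R) d')
    (f : MvPolynomial (Fin (0+1)) R) (hf : f ∈ CohB1.polyGrading 0 R k) (hφ : IsMulBy φ f)
    (x : Coh.HH (CohB1.ProjSpace 0 R) (Twist.twistProjSpace 0 R d) 0) :
    tr0 R d' hd' (Sheaf.H.map
      ((SheafOfModules.toSheaf (CohB1.ProjSpace 0 R).ringCatSheaf).map φ) 0 x) =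
      pairL f d (H0ZeroAddEquiv R d hd x) := by
  rw [tr0_apply, coefL_apply, H0Zero_map R hd hd' k hk φ f hf hφ x, pairL_apply]

/-- duality for `O(-(1+k))` on `P^0`. -/
theorem isDualFor_twist_zero (k : ℕ) :
    IsDualFor R 0 (twist (CohB1.polyGrading 0 R) (-(((0 : ℕ) : ℤ) + 1)))
      (tr0 R (-(((0 : ℕ) : ℤ) + 1)) (by simp))
      (twist (CohB1.polyGrading 0 R) (-(((0 : ℕ) : ℤ) + 1 + k))) := by
  have hd : (-(((0 : ℕ) : ℤ) + 1 + k)) < 0 := by push_cast; omega
  refine isDualFor_of_pairing 0 R k _ _ (by ring) rfl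
    ((H0ZeroAddEquiv R _ hd).toLinearEquiv (H0ZeroAddEquiv_smul R _ hd))
    (tr0 R (-(((0 : ℕ) : ℤ) + 1)) (by simp)) ?_
  intro φ f hf hφ x
  exact tr0_map R hd (by simp) k (by ring) φ f hf hφ x

/-- the trace `H^n(P^n, O(-n-1)) → R`. -/
noncomputable def trN : (n : ℕ) →
    (Coh.HH (CohB1.ProjSpace n R) (Twist.twistProjSpace n R (-((n : ℤ) + 1))) n →ₗ[R] R)
  | 0 => tr0 R (-(((0 : ℕ) : ℤ) + 1)) (by simp)
  | m+1 => trL R (-(((m+1 : ℕ) : ℤ) + 1)) m

/-- the trace, on `Proj` of the polynomial ring. -/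
noncomputable def trN' (n : ℕ) :
    Coh.HH (Proj (CohB1.polyGrading n R)) (twist (CohB1.polyGrading n R) (-((n : ℤ) + 1))) n
      →ₗ[R] R := trN R n

theorem isDualFor_twist (k : ℕ) :
    IsDualFor R n (twist (CohB1.polyGrading n R) (-((n : ℤ) + 1))) (trN' R n)
      (twist (CohB1.polyGrading n R) (-((n : ℤ) + 1 + k))) := by
  cases n with
  | zero => exact isDualFor_twist_zero R k
  | succ m => exact isDualFor_twist_succ R m k

/-- **`O(-n-1)` with the trace is dualizing for coherent modules on `P^n_R`**, `R` noetherian. -/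
theorem isDualFor_coh [IsNoetherianRing R] (F : (Proj (CohB1.polyGrading n R)).Modules)
    (hF : Coh.IsCoh F) :
    IsDualFor R n (twist (CohB1.polyGrading n R) (-((n : ℤ) + 1))) (trN' R n) F := by
  refine isDualFor_of_devissage n (trN' R n) (fun M => Coh.IsCoh M) ?_ ?_ F hF
  · intro M hM
    obtain ⟨m₀, h⟩ := exists_epi_sigma_twist n R M hM.1 hM.2
    obtain ⟨k, p, hp⟩ := h (m₀ + (n+1)) (by omega)
    have e : (-((m₀ + (n+1) : ℕ) : ℤ)) = -((n : ℤ) + 1 + m₀) := by push_cast; ring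
    revert p
    rw [e]
    intro p hp
    have hEqc : (∐ fun _ : Fin k =>
        twist (CohB1.polyGrading n R) (-((n : ℤ) + 1 + m₀))).IsQuasicoherent :=
      QC.qc_sigma_fin _ k
    have hEft : (∐ fun _ : Fin k =>
        twist (CohB1.polyGrading n R) (-((n : ℤ) + 1 + m₀))).IsFiniteType :=
      QC.isFiniteType_sigma_fin _
        (QC.isFiniteType_of_isInvertible _ (isInvertible_twist n R _)) k
    have hKqc : (kernel p).IsQuasicoherent := QC.qc_kernel p hEqc hM.1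
    refine ⟨ShortComplex.mk (kernel.ι p) p (kernel.condition p), ?_, ⟨Iso.refl _⟩,
      ⟨hKqc, QC.isFiniteType_of_mono (kernel.ι p) hKqc hEqc hEft⟩, ?_⟩
    · exact { exact := ShortComplex.exact_of_f_is_kernel _ (kernelIsKernel p)
              mono_f := inferInstanceAs (Mono (kernel.ι p))
              epi_g := hp }
    · exact isDualFor_sigma n (trN' R n) _ k (isDualFor_twist n R m₀)
  · intro M hM
    haveI : M.IsQuasicoherent := hM.1
    exact subsingleton_HH_of_lt n R M (n+1) (by omega)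

end Groth.Agent.LD.PN
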