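import Groth.Agent.Lib.Lead.PN.Finite
import Groth.Agent.Lib.Lead.QC.TensorExact

/-! # Serre vanishing on projective space over a noetherian ring. -/

universe u
open CategoryTheory AlgebraicGeometry TopologicalSpace Opposite Limits

namespace Groth.Agent.LD.PN

variable (n : ℕ) (R : Type u) [CommRing R]

open Twist TW CH

/-- `O(a) ⊗ O(b) ≅ O(c)` for `a + b = c`. -/
noncomputable def twistMulIso (a b c : ℤ) (h : a + b = c) :
    CohB1.tensorMod (twist (CohB1.polyGrading n R) a) (twist (CohB1.polyGrading n R) b) ≅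
      twist (CohB1.polyGrading n R) c :=
  mulTensorIso (X_range_mem n R) (irrelevant_eq_span n R) a b ≪≫ twistCongr h

/-- the twist `F(d) = F ⊗ O(d)`. -/
noncomputable abbrev tw (F : (Proj (CohB1.polyGrading n R)).Modules) (d : ℤ) :
    (Proj (CohB1.polyGrading n R)).Modules :=
  CohB1.tensorMod F (twist (CohB1.polyGrading n R) d)

/-- `H^i((∐ O(a)) ⊗ O(d)) = 0` for `i > 0` and `a + d ≥ 0`. -/
theorem subsingleton_HH_sigma_twist (a d : ℤ) (h : 0 ≤ a + d) (k i : ℕ) (hi : 0 < i) :
    Subsingleton (Coh.HH (Proj (CohB1.polyGrading n R))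
      (tw n R (∐ fun _ : Fin k => twist (CohB1.polyGrading n R) a) d) i) := by
  apply QC.subsingleton_HH_sigma_tensor _ _ (isInvertible_twist n R d)
  refine CL.subsingleton_of_iso (twistMulIso n R a d (a + d) rfl).symm i ?_
  apply subsingleton_HH_twist_all n R (a + d) i
  · rintro ⟨rfl, -⟩; exact absurd hi (lt_irrefl 0)
  · rintro ⟨-, h'⟩
    have : (0 : ℤ) ≤ (n : ℤ) := Int.natCast_nonneg n
    omega

/-- **Serre vanishing on `P^n_R`** (one degree at a time). -/
theorem serre_vanishing_aux [IsNoetherianRing R] (j : ℕ) :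
    ∀ (i : ℕ), 0 < i → n + 1 ≤ i + j → ∀ (F : (Proj (CohB1.polyGrading n R)).Modules),
      Coh.IsCoh F → ∃ d₀ : ℤ, ∀ d : ℤ, d₀ ≤ d →
        Subsingleton (Coh.HH (Proj (CohB1.polyGrading n R)) (tw n R F d) i) := by
  induction j with
  | zero =>
    intro i _ hin F hF
    refine ⟨0, fun d _ => ?_⟩
    haveI : F.IsQuasicoherent := hF.1
    haveI : (twist (CohB1.polyGrading n R) d).IsQuasicoherent :=
      QC.qc_of_isInvertible _ (isInvertible_twist n R d)
    exact subsingleton_HH_of_lt n R _ i (by omega)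
  | succ j ih =>
    intro i hi hin F hF
    obtain ⟨m₀, h⟩ := exists_epi_sigma_twist n R F hF.1 hF.2
    obtain ⟨k, p, hp⟩ := h m₀ le_rfl
    have hEqc : (∐ fun _ : Fin k => twist (CohB1.polyGrading n R) (-(m₀ : ℤ))).IsQuasicoherent :=
      QC.qc_sigma_fin _ k
    have hEft : (∐ fun _ : Fin k => twist (CohB1.polyGrading n R) (-(m₀ : ℤ))).IsFiniteType :=
      QC.isFiniteType_sigma_fin _
        (QC.isFiniteType_of_isInvertible _ (isInvertible_twist n R (-(m₀ : ℤ)))) k
    have hKqc : (kernel p).IsQuasicoherent := QC.qc_kernel p hEqc hF.1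
    have hK : Coh.IsCoh (kernel p) :=
      ⟨hKqc, QC.isFiniteType_of_mono (kernel.ι p) hKqc hEqc hEft⟩
    have hS : (ShortComplex.mk (kernel.ι p) p (kernel.condition p)).ShortExact :=
      { exact := ShortComplex.exact_of_f_is_kernel _ (kernelIsKernel p)
        mono_f := inferInstanceAs (Mono (kernel.ι p))
        epi_g := hp }
    obtain ⟨d₁, hd₁⟩ := ih (i + 1) (Nat.succ_pos i) (by omega) (kernel p) hK
    refine ⟨max d₁ (m₀ : ℤ), fun d hd => ?_⟩
    have hT := QC.shortExact_tensorMap_of_isInvertible hS _ (isInvertible_twist n R d)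
    exact CL.subsingleton_right hT i
      (subsingleton_HH_sigma_twist n R (-(m₀ : ℤ)) d (by
        have := le_max_right d₁ (m₀ : ℤ)
        omega) k i hi)
      (hd₁ d ((le_max_left _ _).trans hd))

/-- **Serre vanishing on `P^n_R`**: for a coherent module `F` on projective space over a
noetherian ring, `H^i(F(d)) = 0` for all `i > 0` and all `d ≫ 0`. -/
theorem serre_vanishing' [IsNoetherianRing R] (F : (Proj (CohB1.polyGrading n R)).Modules)
    (hF : Coh.IsCoh F) : ∃ d₀ : ℤ, ∀ d : ℤ, d₀ ≤ d → ∀ i : ℕ, 0 < i →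
      Subsingleton (Coh.HH (Proj (CohB1.polyGrading n R)) (tw n R F d) i) := by
  have key : ∀ N : ℕ, ∃ d₀ : ℤ, ∀ d : ℤ, d₀ ≤ d → ∀ i : ℕ, 0 < i → i ≤ N →
      Subsingleton (Coh.HH (Proj (CohB1.polyGrading n R)) (tw n R F d) i) := by
    intro N
    induction N with
    | zero => exact ⟨0, fun d _ i hi hi0 => absurd hi (by omega)⟩
    | succ N ih =>
      obtain ⟨d₁, h₁⟩ := ih
      obtain ⟨d₂, h₂⟩ := serre_vanishing_aux n R (n + 1) (N + 1) (Nat.succ_pos N) (by omega) F hF
      refine ⟨max d₁ d₂, fun d hd i hi hiN => ?_⟩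
      rcases Nat.lt_or_ge i (N + 1) with h | h
      · exact h₁ d ((le_max_left _ _).trans hd) i hi (by omega)
      · have : i = N + 1 := le_antisymm hiN h
        subst this
        exact h₂ d ((le_max_right _ _).trans hd)
  obtain ⟨d₀, h⟩ := key n
  refine ⟨d₀, fun d hd i hi => ?_⟩
  rcases Nat.lt_or_ge n i with h' | h'
  · haveI : F.IsQuasicoherent := hF.1
    haveI : (twist (CohB1.polyGrading n R) d).IsQuasicoherent :=
      QC.qc_of_isInvertible _ (isInvertible_twist n R d)
    exact subsingleton_HH_of_lt n R _ i h'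
  · exact h d hd i hi h'

theorem serre_vanishing [IsNoetherianRing R] (F : (CohB1.ProjSpace n R).Modules)
    (hF : Coh.IsCoh F) : ∃ d₀ : ℤ, ∀ d : ℤ, d₀ ≤ d → ∀ i : ℕ, 0 < i →
      Subsingleton (Coh.HH (CohB1.ProjSpace n R)
        (CohB1.tensorMod F (Twist.twistProjSpace n R d)) i) :=
  serre_vanishing' n R F hF

end Groth.Agent.LD.PN
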