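import Groth.Agent.Lib.Lead.TW.MulX
import Groth.Agent.Lib.Lead.KS.Chase
import Groth.Agent.Lib.Lead.PN.SerreVanish

/-! # The Koszul complex on projective space and Castelnuovo–Mumford regularity.

Kernel note: the fields of `kbase` are the constants `kG`, `kt` (and not lambdas), and `kt` is only
ever unfolded through the propositional equation `kt_eq`: comparing `kt l e ≫ kt m (e+1)` with its
unfolded form by `rfl` makes the kernel explode. -/

universe u
open CategoryTheory AlgebraicGeometry TopologicalSpace Opposite Limits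

namespace Groth.Agent.LD.PN

variable (n : ℕ) (R : Type u) [CommRing R]

open Twist TW CH

/-- the variable `X_l`, as an element of degree one. -/
noncomputable def Xd (l : Fin (n+1)) : CohB1.polyGrading n R 1 := ⟨MvPolynomial.X l, X_mem l⟩

theorem tt_aux (F : (Proj (CohB1.polyGrading n R)).Modules) (l m : Fin (n+1)) (e : ℤ) :
    KoszTw.tensorMap (𝟙 F) (mulX (Xd n R l) e) ≫ KoszTw.tensorMap (𝟙 F) (mulX (Xd n R m) (e+1)) =
    KoszTw.tensorMap (𝟙 F) (mulX (Xd n R m) e) ≫ KoszTw.tensorMap (𝟙 F) (mulX (Xd n R l) (e+1)) := by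
  have h1 := KoszTw.tensorMap_comp (𝟙 F) (𝟙 F) (mulX (Xd n R l) e) (mulX (Xd n R m) (e+1))
  have h1' := KoszTw.tensorMap_comp (𝟙 F) (𝟙 F) (mulX (Xd n R m) e) (mulX (Xd n R l) (e+1))
  have h2 := mulX_comm (Xd n R l) (Xd n R m) e
  have h3 := congrArg (KoszTw.tensorMap (𝟙 F ≫ 𝟙 F)) h2
  exact h1.symm.trans (h3.trans h1')

/-- the twist `F(e) = F ⊗ O(e)`. -/
noncomputable def kG (F : (Proj (CohB1.polyGrading n R)).Modules) (e : ℤ) :
    (Proj (CohB1.polyGrading n R)).Modules := CohB1.tensorMod F (twist (CohB1.polyGrading n R) e)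

/-- multiplication by `X_l : F(e) ⟶ F(e+1)`. -/
noncomputable def kt (F : (Proj (CohB1.polyGrading n R)).Modules) (l : Fin (n+1)) (e : ℤ) :
    kG n R F e ⟶ kG n R F (e+1) := KoszTw.tensorMap (𝟙 F) (mulX (Xd n R l) e)

theorem kG_eq (F : (Proj (CohB1.polyGrading n R)).Modules) (e : ℤ) :
    kG n R F e = CohB1.tensorMod F (twist (CohB1.polyGrading n R) e) := rfl

theorem kt_eq (F : (Proj (CohB1.polyGrading n R)).Modules) (l : Fin (n+1)) (e : ℤ) :
    kt n R F l e = KoszTw.tensorMap (𝟙 F) (mulX (Xd n R l) e) := rfl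

theorem kt_comm (F : (Proj (CohB1.polyGrading n R)).Modules) (l m : Fin (n+1)) (e : ℤ) :
    kt n R F l e ≫ kt n R F m (e+1) = kt n R F m e ≫ kt n R F l (e+1) := by
  rw [kt_eq, kt_eq, kt_eq, kt_eq]
  exact tt_aux n R F l m e

/-- the Koszul base of a module `F` on `P^n`: the twists `F(e)` with the multiplications by the
variables. -/
noncomputable def kbase (F : (Proj (CohB1.polyGrading n R)).Modules) :
    KS.Base (Proj (CohB1.polyGrading n R)) (Fin (n+1)) where
  G := kG n R F
  t := kt n R F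
  tt := kt_comm n R F

theorem kbase_G (F : (Proj (CohB1.polyGrading n R)).Modules) (e : ℤ) :
    (kbase n R F).G e = kG n R F e := rfl

theorem kbase_t (F : (Proj (CohB1.polyGrading n R)).Modules) (l : Fin (n+1)) (e : ℤ) :
    (kbase n R F).t l e = kt n R F l e := rfl

/-- the standard open `D₊(X_l)`. -/
noncomputable def DX (l : Fin (n+1)) : (Proj (CohB1.polyGrading n R)).Opens :=
  Proj.basicOpen (CohB1.polyGrading n R) (MvPolynomial.X l)

lemma exists_mem_DX (x : Proj (CohB1.polyGrading n R)) :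
    ∃ l ∈ List.finRange (n+1), x ∈ DX n R l := by
  obtain ⟨f, ⟨i, rfl⟩, hx⟩ := exists_mem_basicOpen_of_span (irrelevant_eq_span n R) x
  exact ⟨i, List.mem_finRange i, hx⟩

lemma kt_bij (F : (Proj (CohB1.polyGrading n R)).Modules) (l : Fin (n+1)) (e : ℤ)
    (W : (Proj (CohB1.polyGrading n R)).Opens) (hW : W ≤ DX n R l) :
    Function.Bijective ((kt n R F l e).app W) := by
  obtain ⟨u, hu⟩ := exists_isUnitSec_one (𝒜 := CohB1.polyGrading n R) (MvPolynomial.X l)
    (X_mem l) e (le_refl (ProjectiveSpectrum.basicOpen (CohB1.polyGrading n R) (MvPolynomial.X l)))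
  rw [kt_eq]
  exact QC.bijective_tensorMap_app F (mulX (Xd n R l) e) (V := DX n R l) hu.isBasisOver
    (fun W' hW' => mulX_app_bijective (Xd n R l) e W' hW') W hW

lemma kbase_bij (F : (Proj (CohB1.polyGrading n R)).Modules) (l : Fin (n+1)) (e : ℤ)
    (W : (Proj (CohB1.polyGrading n R)).Opens) (hW : W ≤ DX n R l) :
    Function.Bijective (((kbase n R F).t l e).app W) := by
  rw [kbase_t]
  exact kt_bij n R F l e W hW

/-- **exactness of the Koszul complex on `P^n`**, for an arbitrary module `F`. -/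
theorem kbase_exact (F : (Proj (CohB1.polyGrading n R)).Modules) (e p : ℤ) :
    (ShortComplex.mk (((kbase n R F).koszul (List.finRange (n+1))).d e p)
      (((kbase n R F).koszul (List.finRange (n+1))).d e (p+1))
      (((kbase n R F).koszul (List.finRange (n+1))).dd e p)).Exact :=
  (kbase n R F).koszul_exact (List.finRange (n+1)) (DX n R) (exists_mem_DX n R)
    (kbase_bij n R F) e p

lemma qc_twist (e : ℤ) : (twist (CohB1.polyGrading n R) e).IsQuasicoherent :=
  QC.qc_of_isInvertible _ (isInvertible_twist n R e)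

lemma kG_qc (F : (Proj (CohB1.polyGrading n R)).Modules) [F.IsQuasicoherent] (e : ℤ) :
    (kG n R F e).IsQuasicoherent := by
  haveI := qc_twist n R e
  exact QC.tensorMod_isQuasicoherent F _

lemma koszul_qc (F : (Proj (CohB1.polyGrading n R)).Modules) [F.IsQuasicoherent]
    (L : List (Fin (n+1))) (e p : ℤ) : (((kbase n R F).koszul L).K e p).IsQuasicoherent :=
  (kbase n R F).koszul_prop (fun M => M.IsQuasicoherent)
    (fun Z hZ => QC.qc_of_iso ((isZero_zero _).iso hZ) (SC.qc_zero _))
    (fun A C hA hC => SC.qc_biprod A C hA hC) L e p (fun e' _ => kG_qc n R F e')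

lemma kbase_hN (F : (Proj (CohB1.polyGrading n R)).Modules) [F.IsQuasicoherent]
    (L : List (Fin (n+1))) (e p : ℤ) (i : ℕ) (hi : n < i) :
    Subsingleton (Coh.HH (Proj (CohB1.polyGrading n R))
      (kernel (((kbase n R F).koszul L).d e p)) i) := by
  haveI := QC.qc_kernel (((kbase n R F).koszul L).d e p) (koszul_qc n R F L e p)
    (koszul_qc n R F L e (p+1))
  exact subsingleton_HH_of_lt n R _ i hi

/-- **Mumford's vanishing step**: `H^s(F(g)) = 0` as soon as `H^{s+j}(F(g-1-j)) = 0` for all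
`j ≥ 0`. -/
theorem mumford_vanish (F : (Proj (CohB1.polyGrading n R)).Modules) [F.IsQuasicoherent]
    (s : ℕ) (g : ℤ)
    (hv : ∀ j : ℕ, ∀ e' : ℤ, e' + 1 + j = g →
      Subsingleton (Coh.HH (Proj (CohB1.polyGrading n R)) (kG n R F e') (s + j))) :
    Subsingleton (Coh.HH (Proj (CohB1.polyGrading n R)) (kG n R F g) s) :=
  (kbase n R F).koszul_vanish (List.finRange (n+1)) (kbase_exact n R F) n
    (kbase_hN n R F _) s g hv

/-- Castelnuovo–Mumford regularity (without upper bound on the degree). -/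
def IsReg (F : (Proj (CohB1.polyGrading n R)).Modules) (m : ℤ) : Prop :=
  ∀ i : ℕ, 1 ≤ i → Subsingleton (Coh.HH (Proj (CohB1.polyGrading n R)) (kG n R F (m - i)) i)

theorem isReg_succ (F : (Proj (CohB1.polyGrading n R)).Modules) [F.IsQuasicoherent] (m : ℤ)
    (h : IsReg n R F m) : IsReg n R F (m + 1) := by
  intro i hi
  refine mumford_vanish n R F i (m + 1 - i) (fun j e' he' => ?_)
  have h1 := h (i + j) (by omega)
  have h2 : m - ((i + j : ℕ) : ℤ) = e' := by push_cast; omega
  rw [h2] at h1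
  exact h1

theorem isReg_of_le (F : (Proj (CohB1.polyGrading n R)).Modules) [F.IsQuasicoherent] (m r : ℤ)
    (hr : m ≤ r) (h : IsReg n R F m) : IsReg n R F r := by
  induction r, hr using Int.le_induction with
  | base => exact h
  | succ r _ ih => exact isReg_succ n R F r ih

/-- regularity with the upper bound `i ≤ n` implies regularity. -/
theorem isReg_of_bounded (F : (Proj (CohB1.polyGrading n R)).Modules) [F.IsQuasicoherent] (m : ℤ)
    (h : ∀ i : ℕ, 1 ≤ i → i ≤ n →
      Subsingleton (Coh.HH (Proj (CohB1.polyGrading n R)) (kG n R F (m - i)) i)) :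
    IsReg n R F m := by
  intro i hi
  rcases Nat.lt_or_ge n i with h' | h'
  · haveI := kG_qc n R F (m - i)
    exact subsingleton_HH_of_lt n R _ i h'
  · exact h i hi h'

end Groth.Agent.LD.PN
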