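import Groth.Agent.Lib.Lead.PN.TopLin
import Groth.Agent.Lib.Lead.PN.H0Lin
import Mathlib.Algebra.Order.Antidiag.FinsuppEquiv
import Mathlib.RingTheory.Binomial
import Mathlib.LinearAlgebra.Dimension.Constructions

/-! # The Euler characteristic of `O(n)` on projective space over a field. -/

universe u
open CategoryTheory AlgebraicGeometry

namespace Groth.Agent.LD.PN

/-- the dimension of the space of homogeneous polynomials. -/
theorem finrank_homogeneousSubmodule (K : Type u) [Field K] (N n : ℕ) :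
    Module.finrank K ↥(MvPolynomial.homogeneousSubmodule (Fin (N+1)) K n) = (n + N).choose N := by
  classical
  rw [MvPolynomial.homogeneousSubmodule_eq_finsupp_supported]
  have hset : {d : Fin (N+1) →₀ ℕ | d.degree = n} =
      ↑((Finset.univ : Finset (Fin (N+1))).finsuppAntidiag n) := by
    ext d
    simp only [Set.mem_setOf_eq, Finset.mem_coe, Finset.mem_finsuppAntidiag, Finset.subset_univ,
      and_true]
    rw [Finsupp.degree_eq_sum]
  rw [hset]
  rw [LinearEquiv.finrank_eq (AddMonoidAlgebra.supportedEquivFinsupp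
    (R := K) (S := K) (↑((Finset.univ : Finset (Fin (N+1))).finsuppAntidiag n) :
      Set (Fin (N+1) →₀ ℕ)))]
  rw [Module.finrank_finsupp_self]
  have hc : Fintype.card (↑(↑((Finset.univ : Finset (Fin (N+1))).finsuppAntidiag n) :
      Set (Fin (N+1) →₀ ℕ))) = ((Finset.univ : Finset (Fin (N+1))).finsuppAntidiag n).card := by
    rw [← Fintype.card_coe]
    exact Fintype.card_congr (Equiv.refl _)
  rw [hc, Finset.card_finsuppAntidiag_nat_eq_choose]
  simp only [Finset.card_univ, Fintype.card_fin]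
  rw [show N + 1 + n - 1 = n + N by omega, Nat.choose_symm_add]

lemma finrank_HH_eq_zero (K : Type u) [Field K] (r : ℕ) (n : ℤ) (q : ℕ)
    (h₀ : ¬ (q = 0 ∧ 0 ≤ n)) (hn : ¬ (q = r ∧ n ≤ -((r : ℤ) + 1))) :
    Module.finrank K (Coh.HH (CohB1.ProjSpace r K) (Twist.twistProjSpace r K n) q) = 0 := by
  haveI : Subsingleton (Coh.HH (CohB1.ProjSpace r K) (Twist.twistProjSpace r K n) q) :=
    subsingleton_HH_twist_all r K n q h₀ hn
  exact Module.finrank_zero_of_subsingleton

/-- **the Euler characteristic of `O(n)` on `P^r_K`**. -/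
theorem euler_twist (K : Type u) [Field K] (r : ℕ) (hr : 0 < r) (n : ℤ) :
    ((Finset.range (r + 1)).sum fun j => (-1 : ℤ) ^ j *
        (Module.finrank K (Coh.HH (CohB1.ProjSpace r K) (Twist.twistProjSpace r K n) j) : ℤ)) =
      Ring.choose (n + r) r := by
  obtain ⟨m, rfl⟩ := Nat.exists_eq_succ_of_ne_zero hr.ne'
  rw [Finset.sum_eq_add (0 : ℕ) (m+1) (by omega)
    (by
      intro j _ hj
      rw [finrank_HH_eq_zero K (m+1) n j (fun h => hj.1 h.1) (fun h => hj.2 h.1)]
      simp)
    (fun h => absurd (Finset.mem_range.2 (by omega)) h)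
    (fun h => absurd (Finset.mem_range.2 (by omega)) h)]
  by_cases h0 : 0 ≤ n
  · -- nonnegative twists
    obtain ⟨d, rfl⟩ := Int.eq_ofNat_of_zero_le h0
    rw [finrank_HH_eq_zero K (m+1) d (m+1) (fun h => by omega) (fun h => by omega)]
    rw [LinearEquiv.finrank_eq (H0LinearEquiv (m+1) K d), finrank_homogeneousSubmodule]
    simp only [pow_zero, one_mul, Nat.cast_zero, mul_zero, add_zero]
    rw [← Nat.cast_add, Ring.choose_natCast]
  · by_cases h1 : n ≤ -(((m+1 : ℕ) : ℤ) + 1)
    · -- very negative twists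
      obtain ⟨k, hk⟩ : ∃ k : ℕ, n = -(((m+1 : ℕ) : ℤ) + 1 + k) := by
        refine ⟨(-n - (((m+1 : ℕ) : ℤ) + 1)).toNat, ?_⟩
        rw [Int.toNat_of_nonneg (by omega)]
        ring
      subst hk
      rw [finrank_HH_eq_zero K (m+1) _ 0 (fun h => by omega) (fun h => by omega)]
      rw [LinearEquiv.finrank_eq (HHTopLinearEquiv K m k), finrank_homogeneousSubmodule]
      simp only [Nat.cast_zero, mul_zero, zero_add]
      have e1 : -(((m+1 : ℕ) : ℤ) + 1 + (k : ℤ)) + ((m+1 : ℕ) : ℤ) = -((1 : ℤ) + k) := by ring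
      rw [e1, Ring.choose_neg, Units.smul_def, Int.coe_negOnePow_natCast, smul_eq_mul]
      have e2 : ((1 : ℤ) + k + ((m.succ : ℕ) : ℤ) - 1) = ((k + (m+1) : ℕ) : ℤ) := by
        push_cast; ring
      rw [e2, Ring.choose_natCast]
    · -- the gap
      rw [finrank_HH_eq_zero K (m+1) n 0 (fun h => by omega) (fun h => by omega),
        finrank_HH_eq_zero K (m+1) n (m+1) (fun h => by omega) (fun h => h1 h.2)]
      simp only [Nat.cast_zero, mul_zero, add_zero]
      obtain ⟨t, ht⟩ := Int.eq_ofNat_of_zero_le (show 0 ≤ n + ((m+1 : ℕ) : ℤ) by omega)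
      rw [ht, Ring.choose_natCast, Nat.choose_eq_zero_of_lt (by omega)]
      rfl

end Groth.Agent.LD.PN
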