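import Groth.Agent.Lib.Lead.PN.ClosedSub
import Groth.Agent.Lib.Lead.PN.SerreVanish

/-! # Serre vanishing and Euler characteristics on closed subschemes of projective space. -/

universe u
open CategoryTheory AlgebraicGeometry TopologicalSpace Opposite Limits

namespace Groth.Agent.LD.PN

variable (r : ℕ) (A : Type u) [CommRing A] [IsNoetherianRing A]

open Twist TW CH

variable {X : Scheme.{u}} (i : X ⟶ Proj (CohB1.polyGrading r A)) [IsClosedImmersion i]

/-- **Serre vanishing on a closed subscheme of projective space.** -/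
theorem serre_vanishing_on (F : X.Modules) (hF : Coh.IsCoh F) :
    ∃ N : ℤ, ∀ n : ℤ, N ≤ n → ∀ j : ℕ, 0 < j → Subsingleton (Coh.HH X (twOn r A i F n) j) := by
  obtain ⟨N, hN⟩ := serre_vanishing' r A _ (isCoh_push r A i F hF)
  exact ⟨N, fun n hn j hj => (subsingleton_HH_twOn_iff r A i F n j).mpr (hN n hn j hj)⟩

variable [X.Over (Spec (CommRingCat.of A))]

/-- for `n ≫ 0` the Euler characteristic of `F(n)` is the length of its module of sections. -/
theorem euler_eq_length_H0 (F : X.Modules) (hF : Coh.IsCoh F) :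
    ∃ N : ℤ, ∀ n : ℤ, N ≤ n →
      ((Finset.range (r + 1)).sum fun j => (-1 : ℤ) ^ j *
        ((Module.length A (Coh.HH X (twOn r A i F n) j)).toNat : ℤ)) =
      ((Module.length A (Coh.HH X (twOn r A i F n) 0)).toNat : ℤ) := by
  obtain ⟨N, hN⟩ := serre_vanishing_on r A i F hF
  refine ⟨N, fun n hn => ?_⟩
  rw [Finset.sum_range_succ']
  have h0 : ∀ j ∈ Finset.range r, (-1 : ℤ) ^ (j + 1) *
      ((Module.length A (Coh.HH X (twOn r A i F n) (j + 1))).toNat : ℤ) = 0 := by
    intro j _
    haveI := hN n hn (j + 1) (Nat.succ_pos j)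
    rw [Module.length_eq_zero]
    simp
  rw [Finset.sum_eq_zero h0]
  simp

/-- the same over `ℚ`. -/
theorem euler_eq_length_H0_rat (F : X.Modules) (hF : Coh.IsCoh F) :
    ∃ N : ℤ, ∀ n : ℤ, N ≤ n →
      ((Finset.range (r + 1)).sum fun j => (-1 : ℚ) ^ j *
        ((Module.length A (Coh.HH X (twOn r A i F n) j)).toNat : ℚ)) =
      ((Module.length A (Coh.HH X (twOn r A i F n) 0)).toNat : ℚ) := by
  obtain ⟨N, hN⟩ := euler_eq_length_H0 r A i F hF
  refine ⟨N, fun n hn => ?_⟩
  have h := congrArg (Int.cast (R := ℚ)) (hN n hn)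
  push_cast at h
  exact h

/-- a polynomial which is non-negative at all large integers has non-negative leading
coefficient. -/
theorem leadingCoeff_nonneg_of_eventually (P : Polynomial ℚ) (N : ℤ)
    (h : ∀ n : ℤ, N ≤ n → 0 ≤ P.eval (n : ℚ)) : 0 ≤ P.leadingCoeff := by
  by_contra hneg
  push Not at hneg
  by_cases hdeg : P.natDegree = 0
  · obtain ⟨c, rfl⟩ := Polynomial.natDegree_eq_zero.mp hdeg
    have := h N le_rfl
    rw [Polynomial.eval_C] at this
    rw [Polynomial.leadingCoeff_C] at hneg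
    linarith
  · have hdeg' : 0 < P.degree :=
      Polynomial.natDegree_pos_iff_degree_pos.mp (Nat.pos_of_ne_zero hdeg)
    have ht := Polynomial.tendsto_atBot_of_leadingCoeff_nonpos P hdeg' hneg.le
    have ht' : Filter.Tendsto (fun m : ℕ => P.eval (m : ℚ)) Filter.atTop Filter.atBot :=
      ht.comp tendsto_natCast_atTop_atTop
    have h1 := (Filter.tendsto_atBot.mp ht' (-1))
    have h2 : ∀ᶠ m : ℕ in Filter.atTop, N.toNat ≤ m := Filter.eventually_ge_atTop N.toNat
    obtain ⟨m, hm1, hm2⟩ := (h1.and h2).exists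
    have hNm : N ≤ (m : ℤ) := by omega
    have := h (m : ℤ) hNm
    have hcast : ((m : ℤ) : ℚ) = (m : ℚ) := by push_cast; rfl
    rw [hcast] at this
    linarith

/-- the Hilbert polynomial of a coherent module on a closed subscheme of projective space has
non-negative leading coefficient. -/
theorem leadingCoeff_nonneg_of_euler (F : X.Modules) (hF : Coh.IsCoh F) (P : Polynomial ℚ)
    (hP : ∀ n : ℤ, ((Finset.range (r + 1)).sum fun j => (-1 : ℚ) ^ j *
        ((Module.length A (Coh.HH X (twOn r A i F n) j)).toNat : ℚ)) = P.eval (n : ℚ)) :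
    0 ≤ P.leadingCoeff := by
  obtain ⟨N, hN⟩ := euler_eq_length_H0_rat r A i F hF
  refine leadingCoeff_nonneg_of_eventually P N (fun n hn => ?_)
  rw [← hP n, hN n hn]
  exact Nat.cast_nonneg _

end Groth.Agent.LD.PN
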