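import Mathlib
import Groth.Agent.Lib.Lead.PN.OverBridge
import Groth.Agent.Lib.Lead.PN.ClosedSubEuler
import Groth.Agent.Lib.Lead.QC.Mon
import Groth.Agent.Lib.Lead.QC.PullInv
import Groth.Agent.Lib.Lead.AS.Vanish
import Groth.Agent.Lib.Helper5.VAmple.J
open AlgebraicGeometry CategoryTheory Limits TopologicalSpace Opposite

/-!
Serre vanishing for an ample invertible module on a proper scheme over a Noetherian ring
(the implication "ample ⇒ cohomologically ample").
-/

namespace Groth.Agent.LD.PN.AmS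

universe u

open Groth.Agent.LD Groth.Agent.LD.QC Twist

lemma isClosedImmersion_of_comp_proper {X P S : Scheme.{u}} (i : X ⟶ P) (g : P ⟶ S)
    [IsImmersion i] [IsSeparated g] [IsProper (i ≫ g)] : IsClosedImmersion i := by
  haveI : IsProper i := IsProper.of_comp i g
  exact IsClosedImmersion.of_isPreimmersion i (i.isClosedMap.isClosed_range)

variable (k : ℕ) (R : Type u) [CommRing R]

/-- `(bridge⁻¹)^* O(d) ≅ O(d)` on `P^k_{Spec R}`. -/
noncomputable def bridgeTwistIsoInv (d : ℤ) :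
    (Scheme.Modules.pullback (OB.bridge k R).inv).obj (twist (CohB1.polyGrading k R) d) ≅
      Twist.twistOver k (Spec (CommRingCat.of R)) d :=
  (Scheme.Modules.pullback (OB.bridge k R).inv).mapIso (OB.bridgeTwistIso k R d).symm ≪≫
  (Scheme.Modules.pullbackComp (OB.bridge k R).inv (OB.bridge k R).hom).app _ ≪≫
  (Scheme.Modules.pullbackCongr (OB.bridge k R).inv_hom_id).app _ ≪≫
  (Scheme.Modules.pullbackId _).app _

variable [IsNoetherianRing R] {X : Scheme.{u}}

theorem serre_vanishing_veryAmple (i : X ⟶ Proj (CohB1.polyGrading k R)) [IsClosedImmersion i]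
    (L : X.Modules) (hL : PicF.IsInvertible L) (d : ℕ) (hd : 0 < d)
    (e : CohB1.tensorPow L d ≅ (Scheme.Modules.pullback i).obj (twist (CohB1.polyGrading k R) 1))
    (M : X.Modules) (hM : Coh.IsCoh M) :
    ∃ n₀ : ℕ, ∀ n : ℕ, n₀ ≤ n → ∀ p : ℕ, 0 < p →
      Subsingleton (Coh.HH X (CohB1.tensorMod M (CohB1.tensorPow L n)) p) := by
  haveI : M.IsQuasicoherent := hM.1
  haveI : L.IsQuasicoherent := qc_of_isInvertible L hL
  have hcoh : ∀ r : ℕ, Coh.IsCoh (CohB1.tensorMod M (CohB1.tensorPow L r)) := fun r =>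
    ⟨tensorMod_isQuasicoherent _ _,
      isFiniteType_tensorMod_of_isInvertible M hM.2 _ (isInvertible_tensorPow hL r)⟩
  choose N hN using fun r : ℕ =>
    serre_vanishing_on k R i (CohB1.tensorMod M (CohB1.tensorPow L r)) (hcoh r)
  let Q : ℕ := (Finset.range d).sup fun r => (N r).toNat
  refine ⟨d * Q, fun n hn p hp => ?_⟩
  have hq : Q ≤ n / d := (Nat.le_div_iff_mul_le hd).mpr (by rw [Nat.mul_comm]; exact hn)
  have hr : n % d < d := Nat.mod_lt n hd
  have hNr : N (n % d) ≤ ((n / d : ℕ) : ℤ) := by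
    have h1 : (N (n % d)).toNat ≤ Q :=
      Finset.le_sup (f := fun r => (N r).toNat) (Finset.mem_range.mpr hr)
    have h2 : N (n % d) ≤ ((N (n % d)).toNat : ℤ) := Int.self_le_toNat _
    have h3 : ((N (n % d)).toNat : ℤ) ≤ ((n / d : ℕ) : ℤ) := by exact_mod_cast h1.trans hq
    exact h2.trans h3
  have hvan := hN (n % d) ((n / d : ℕ) : ℤ) hNr p hp
  -- the module isomorphism
  obtain ⟨e1⟩ := TW.nonempty_twist_iso_tensorPow (X_range_mem k R) (irrelevant_eq_span k R) (n / d)
  have e2 : (Scheme.Modules.pullback i).obj (twist (CohB1.polyGrading k R) ((n / d : ℕ) : ℤ)) ≅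
      CohB1.tensorPow (CohB1.tensorPow L d) (n / d) :=
    (Scheme.Modules.pullback i).mapIso e1 ≪≫
      pbTensorPowIso i _ (isInvertible_twist k R 1) (n / d) ≪≫ tensorPowCongr e.symm (n / d)
  have m1 : IsMon M L (twOn k R i (CohB1.tensorMod M (CohB1.tensorPow L (n % d)))
      ((n / d : ℕ) : ℤ)) (1 + 0 + (n / d) * 0) (0 + n % d + (n / d) * d) :=
    (((isMon_left M L).tensor (isMon_powRight M L (n % d))).tensor
      ((isMon_powRight M L d).pow (n / d))).of_iso (tensorIso' (Iso.refl _) e2.symm)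
  have m2 : IsMon M L (CohB1.tensorMod M (CohB1.tensorPow L n)) (1 + 0) (0 + n) :=
    (isMon_left M L).tensor (isMon_powRight M L n)
  have hidx : 0 + n % d + (n / d) * d = 0 + n := by
    rw [Nat.zero_add, Nat.zero_add, Nat.mul_comm]; exact Nat.mod_add_div n d
  obtain ⟨e3⟩ := (m1.cast (by simp) hidx).iso m2
  exact Groth.Agent.LD.AS.subsingleton_HH_of_iso' e3 p hvan

end Groth.Agent.LD.PN.AmS
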