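import Mathlib
import Groth.Agent.Lib.Lead.PN.AmpleSerre
import Groth.Agent.Lib.Lead.SC.RPushCover
import Groth.Agent.Lib.Lead.QC.RestrictOpen
import Groth.Agent.Lib.Lead.QC.SubExt
open AlgebraicGeometry CategoryTheory Limits TopologicalSpace Opposite

/-!
Serre vanishing for ample invertible modules: absolute (over a Noetherian ring) and relative
(higher direct images along a proper morphism to a Noetherian scheme).
-/

namespace Groth.Agent.LD.PN.AmS

universe u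

open Groth.Agent.LD Groth.Agent.LD.QC Twist

/-- **Serre vanishing** for an ample invertible module on a proper scheme over a Noetherian ring. -/
theorem serre_vanishing_of_isAmple (R : Type u) [CommRing R] [IsNoetherianRing R]
    {X : Scheme.{u}} (f : X ⟶ Spec (CommRingCat.of R)) [IsProper f] (L : X.Modules)
    (hL : PicF.IsInvertible L) (hA : CohB1.IsAmple L) (M : X.Modules) (hM : Coh.IsCoh M) :
    ∃ n₀ : ℕ, ∀ n : ℕ, n₀ ≤ n → ∀ p : ℕ, 0 < p →
      Subsingleton (Coh.HH X (CohB1.tensorMod M (CohB1.tensorPow L n)) p) := by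
  obtain ⟨n₀, hn₀⟩ := (Groth.Agent.H5.VAmple.ample_iff_some_power_veryAmple f L hL).2 hA
  obtain ⟨k, i, hi, hcomp, ⟨e⟩⟩ := hn₀ (max n₀ 1) (le_max_left _ _)
  haveI := hi
  haveI := Groth.Agent.H5.AG.isProper_toBase k (Spec (CommRingCat.of R))
  have hcomp' : i ≫ CohB1.ProjSpaceOver.toBase k (Spec (CommRingCat.of R)) = f := hcomp
  haveI : IsProper (i ≫ CohB1.ProjSpaceOver.toBase k (Spec (CommRingCat.of R))) := by
    rw [hcomp']; infer_instance
  haveI := isClosedImmersion_of_comp_proper i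
    (CohB1.ProjSpaceOver.toBase k (Spec (CommRingCat.of R)))
  have e' : CohB1.tensorPow L (max n₀ 1) ≅
      (Scheme.Modules.pullback (i ≫ (OB.bridge k R).inv)).obj
        (Twist.twist (CohB1.polyGrading k R) 1) :=
    e ≪≫ (Scheme.Modules.pullback i).mapIso (bridgeTwistIsoInv k R 1).symm ≪≫
      (Scheme.Modules.pullbackComp i (OB.bridge k R).inv).app _
  exact serre_vanishing_veryAmple k R (i ≫ (OB.bridge k R).inv) L hL (max n₀ 1)
    (lt_of_lt_of_le Nat.one_pos (le_max_right _ _)) e' M hM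

variable {X S : Scheme.{u}} (f : X ⟶ S)

/-- Serre vanishing over an affine open of a Noetherian base. -/
theorem serre_vanishing_preimage [IsProper f] [IsLocallyNoetherian S] (L : X.Modules)
    (hL : PicF.IsInvertible L) (M : X.Modules) (hM : Coh.IsCoh M) (W : S.Opens)
    (hW : IsAffineOpen W) (ha : CohB1.IsAmple (L.restrict (f ⁻¹ᵁ W).ι)) :
    ∃ n₀ : ℕ, ∀ n : ℕ, n₀ ≤ n → ∀ p : ℕ, 0 < p →
      Subsingleton (Coh.HH (f ⁻¹ᵁ W).toScheme
        ((CohB1.tensorMod M (CohB1.tensorPow L n)).restrict (f ⁻¹ᵁ W).ι) p) := by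
  haveI : IsNoetherianRing Γ(S, W) := IsLocallyNoetherian.component_noetherian ⟨W, hW⟩
  haveI : IsProper (f ∣_ W) :=
    MorphismProperty.of_isPullback (P := @IsProper) (isPullback_morphismRestrict f W).flip
      inferInstance
  let f' : (f ⁻¹ᵁ W).toScheme ⟶ Spec (CommRingCat.of Γ(S, W)) := (f ∣_ W) ≫ hW.isoSpec.hom
  haveI : IsProper f' := by
    change IsProper ((f ∣_ W) ≫ hW.isoSpec.hom)
    infer_instance
  haveI : M.IsQuasicoherent := hM.1
  have hcoh : Coh.IsCoh (M.restrict (f ⁻¹ᵁ W).ι) :=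
    ⟨qc_restrict _ M, isFiniteType_restrict _ M hM.2⟩
  obtain ⟨n₀, hn₀⟩ := serre_vanishing_of_isAmple Γ(S, W) f' (L.restrict (f ⁻¹ᵁ W).ι)
    (isInvertible_restrict _ hL) ha (M.restrict (f ⁻¹ᵁ W).ι) hcoh
  refine ⟨n₀, fun n hn p hp => ?_⟩
  have e : CohB1.tensorMod (M.restrict (f ⁻¹ᵁ W).ι)
      (CohB1.tensorPow (L.restrict (f ⁻¹ᵁ W).ι) n) ≅
      (CohB1.tensorMod M (CohB1.tensorPow L n)).restrict (f ⁻¹ᵁ W).ι :=
    tensorIso' (Iso.refl _) (restrictTensorPowIso (f ⁻¹ᵁ W).ι L n) ≪≫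
      restrictTensorIso (f ⁻¹ᵁ W).ι M (CohB1.tensorPow L n)
  exact Groth.Agent.LD.AS.subsingleton_HH_of_iso' e p (hn₀ n hn p hp)

/-- **relative Serre vanishing**: `R^p f_* (M ⊗ L^n) = 0` for `n ≫ 0`, `p > 0`, when `f` is proper
over a Noetherian base and `L` is relatively ample. -/
theorem relative_serre_vanishing [IsProper f] [IsNoetherian S] (L : X.Modules)
    (hL : PicF.IsInvertible L)
    (ha : ∀ W : S.Opens, IsAffineOpen W → CohB1.IsAmple (L.restrict (f ⁻¹ᵁ W).ι))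
    (M : X.Modules) (hM : Coh.IsCoh M) :
    ∃ n₀ : ℕ, ∀ n : ℕ, n₀ ≤ n → ∀ p : ℕ, 0 < p →
      IsZero ((Coh.RpushAb f p).obj (Coh.toAb (CohB1.tensorMod M (CohB1.tensorPow L n)))) := by
  classical
  have hloc : ∀ W : S.Opens, IsAffineOpen W → ∃ n₀ : ℕ, ∀ n : ℕ, n₀ ≤ n → ∀ p : ℕ, 0 < p →
      Subsingleton (Coh.HH (f ⁻¹ᵁ W).toScheme
        ((CohB1.tensorMod M (CohB1.tensorPow L n)).restrict (f ⁻¹ᵁ W).ι) p) :=
    fun W hW => serre_vanishing_preimage f L hL M hM W hW (ha W hW)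
  choose! nW hnW using hloc
  have haff : ∀ x : S, ∃ W : S.Opens, IsAffineOpen W ∧ x ∈ W := by
    intro x
    obtain ⟨_, ⟨W, hW, rfl⟩, hxW, -⟩ := (Scheme.isBasis_affineOpens S).exists_subset_of_mem_open
      (Set.mem_univ x) isOpen_univ
    exact ⟨W, hW, hxW⟩
  choose Wx hWx hxWx using haff
  obtain ⟨t, ht⟩ := CompactSpace.elim_nhds_subcover (fun x => ((Wx x : S.Opens) : Set S))
    (fun x => (Wx x).2.mem_nhds (hxWx x))
  haveI : M.IsQuasicoherent := hM.1
  haveI : L.IsQuasicoherent := qc_of_isInvertible L hL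
  refine ⟨t.sup (fun x => nW (Wx x)), fun n hn p hp => ?_⟩
  haveI : (CohB1.tensorMod M (CohB1.tensorPow L n)).IsQuasicoherent :=
    tensorMod_isQuasicoherent _ _
  apply SC.isZero_RpushAb_of_affine_cover f _ p
  intro y
  have hy : y ∈ ⋃ x ∈ t, ((Wx x : S.Opens) : Set S) := by rw [ht]; trivial
  obtain ⟨x, hxt, hyx⟩ := Set.mem_iUnion₂.mp hy
  exact ⟨Wx x, hWx x, hyx, hnW (Wx x) (hWx x) n
    ((Finset.le_sup (f := fun x => nW (Wx x)) hxt).trans hn) p hp⟩

end Groth.Agent.LD.PN.AmS
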