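import Mathlib
import Groth.Agent.Lib.Lead.PN.AmpleSerreRel
import Groth.Agent.Lib.Lead.SC.AmpleCrit
import Groth.Agent.Lib.Lead.QC.SerreSupp
import Groth.Agent.Lib.Lead.QC.ProjFormula
import Groth.Agent.Lib.Lead.QC.PullAmple
import Groth.Agent.Lib.Lead.CohLES.PushEquiv
import Groth.Agent.Lib.Lead.CohLES.Vanish
import Groth.Agent.S0027
open AlgebraicGeometry CategoryTheory Limits TopologicalSpace Opposite

/-!
Ampleness on a proper scheme over a Noetherian ring can be tested on integral closed subschemes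
(dévissage + the cohomological criterion).
-/

namespace Groth.Agent.LD.PN.AmD

universe u

open Groth.Agent.LD Groth.Agent.LD.QC

variable {X : Scheme.{u}}

/-- eventual vanishing of the higher cohomology of the twists `F ⊗ L^n`. -/
def EV (L F : X.Modules) : Prop :=
  ∃ n₀ : ℕ, ∀ n : ℕ, n₀ ≤ n → ∀ p : ℕ, 0 < p →
    Subsingleton (Coh.HH X (CohB1.tensorMod F (CohB1.tensorPow L n)) p)

lemma EV.of_iso {L F F' : X.Modules} (e : F ≅ F') (h : EV L F) : EV L F' := by
  obtain ⟨n₀, hn₀⟩ := h
  exact ⟨n₀, fun n hn p hp =>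
    AS.subsingleton_HH_of_iso' (tensorIso' e (Iso.refl _)) p (hn₀ n hn p hp)⟩

lemma EV.ext {L : X.Modules} (hL : PicF.IsInvertible L) {S : ShortComplex X.Modules}
    (hS : S.ShortExact) (h₁ : EV L S.X₁) (h₃ : EV L S.X₃) : EV L S.X₂ := by
  obtain ⟨n₁, hn₁⟩ := h₁
  obtain ⟨n₃, hn₃⟩ := h₃
  refine ⟨max n₁ n₃, fun n hn p hp => ?_⟩
  have hS' := shortExact_tensorMap_of_isInvertible hS (CohB1.tensorPow L n)
    (isInvertible_tensorPow hL n)
  exact CL.subsingleton_mid hS' p (hn₁ n ((le_max_left _ _).trans hn) p hp)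
    (hn₃ n ((le_max_right _ _).trans hn) p hp)

/-- the pullback of an ample module along an affine morphism is ample. -/
theorem isAmple_pullback_of_isAffineHom {X' : Scheme.{u}} (g : X' ⟶ X) [IsAffineHom g]
    (L : X.Modules) (hL : CohB1.IsAmple L) :
    CohB1.IsAmple ((Scheme.Modules.pullback g).obj L) := by
  haveI : CompactSpace X := hL.2.1
  haveI : CompactSpace X' := QuasiCompact.compactSpace_of_compactSpace g
  apply isAmple_pullback_of_affine_nhds g L hL
  intro x'
  obtain ⟨_, ⟨W, hW, rfl⟩, hxW, -⟩ := (Scheme.isBasis_affineOpens X).exists_subset_of_mem_open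
    (Set.mem_univ (g x')) isOpen_univ
  exact ⟨W, g ⁻¹ᵁ W, hxW, hW.preimage g, le_rfl⟩


/-- eventual vanishing for direct images from closed subschemes on which `L` is ample. -/
theorem EV_push (A : Type u) [CommRing A] [IsNoetherianRing A]
    (f : X ⟶ Spec (CommRingCat.of A)) [IsProper f]
    {Z : Scheme.{u}} (i : Z ⟶ X) [IsClosedImmersion i] (L : X.Modules)
    (hL : PicF.IsInvertible L) (hi : CohB1.IsAmple ((Scheme.Modules.pullback i).obj L))
    (G : Z.Modules) (hG : Coh.IsCoh G) : EV L ((Scheme.Modules.pushforward i).obj G) := by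
  obtain ⟨n₀, hn₀⟩ := AmS.serre_vanishing_of_isAmple A (i ≫ f) _
    (isInvertible_pullback i hL) hi G hG
  refine ⟨n₀, fun n hn p hp => ?_⟩
  have e : CohB1.tensorMod ((Scheme.Modules.pushforward i).obj G) (CohB1.tensorPow L n) ≅
      (Scheme.Modules.pushforward i).obj
        (CohB1.tensorMod G (CohB1.tensorPow ((Scheme.Modules.pullback i).obj L) n)) :=
    projIso i G (CohB1.tensorPow L n) (isInvertible_tensorPow hL n) ≪≫
      (Scheme.Modules.pushforward i).mapIso (tensorIso' (Iso.refl _) (pbTensorPowIso i L hL n))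
  have h1 := (CL.subsingleton_HH_push_iff i _ p).mpr (hn₀ n hn p hp)
  exact AS.subsingleton_HH_of_iso' e.symm p h1

/-- **ampleness can be tested on integral closed subschemes.** -/
theorem isAmple_of_integral_closed (A : Type u) [CommRing A] [IsNoetherianRing A]
    (f : X ⟶ Spec (CommRingCat.of A)) [IsProper f] (L : X.Modules) (hL : PicF.IsInvertible L)
    (h : ∀ (Z : Scheme.{u}) (i : Z ⟶ X), IsClosedImmersion i → IsIntegral Z →
      CohB1.IsAmple ((Scheme.Modules.pullback i).obj L)) : CohB1.IsAmple L := by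
  haveI : IsLocallyNoetherian X := LocallyOfFiniteType.isLocallyNoetherian f
  haveI : CompactSpace X := QuasiCompact.compactSpace_of_compactSpace f
  haveI : IsNoetherian X := {}
  by_cases hne : Nonempty X
  · have key : ∀ M : X.Modules, Coh.IsCoh M → EV L M := by
      intro M hM
      refine Groth.Agent.S0027.result X (EV L) (fun M N ⟨e⟩ hM => hM.of_iso e)
        (fun S hS _ _ _ h1 h3 => EV.ext hL hS h1 h3) ?_ M hM
      intro Z i hi hZ I ι hmono hqc
      haveI := hi
      haveI := hmono
      haveI : IsLocallyNoetherian Z := LocallyOfFiniteType.isLocallyNoetherian i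
      have hcoh : Coh.IsCoh I := isCoh_of_mono ι hqc
        ⟨qc_of_isInvertible _ (isInvertible_unit Z),
          isFiniteType_of_isInvertible _ (isInvertible_unit Z)⟩
      exact EV_push A f i L hL (h Z i hi hZ) I hcoh
    apply SC.isAmple_of_h1Zero L hL
    intro I ι hmono hqc
    haveI := hmono
    have hcoh : Coh.IsCoh I := isCoh_of_mono ι hqc
      ⟨qc_of_isInvertible _ (isInvertible_unit X),
        isFiniteType_of_isInvertible _ (isInvertible_unit X)⟩
    obtain ⟨n₀, hn₀⟩ := key I hcoh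
    exact ⟨n₀, SC.h1Zero_of_HH _ (hn₀ (n₀ + 1) (Nat.le_succ _) 1 Nat.one_pos)⟩
  · exact ⟨hL, inferInstance, fun x => (hne ⟨x⟩).elim⟩

end Groth.Agent.LD.PN.AmD
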