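import Mathlib
import Groth.Agent.Lib.Lead.PN.AmpleDev
import Groth.Agent.Lib.Lead.QC.AmpleIso
open AlgebraicGeometry CategoryTheory Limits TopologicalSpace Opposite

/-!
Factoring reduced closed subschemes through closed subschemes containing them, and consequences
for ampleness (irreducible components; ideals with `I * J = 0`).
-/

namespace Groth.Agent.LD.PN.AmD

universe u

open Groth.Agent.LD Groth.Agent.LD.QC

variable {X Z : Scheme.{u}}

/-- a morphism from a reduced scheme kills every ideal sheaf whose support contains its image. -/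
theorem le_ker_of_isReduced (i : Z ⟶ X) [QuasiCompact i] [IsReduced Z] (I : X.IdealSheafData)
    (h : Set.range i ⊆ (I.support : Set X)) : I ≤ i.ker := by
  rw [Scheme.IdealSheafData.le_def]
  intro U a ha
  rw [Scheme.Hom.ker_apply, RingHom.mem_ker]
  rw [← basicOpen_eq_bot_iff, ← Scheme.preimage_basicOpen]
  rw [eq_bot_iff]
  intro z hz
  have hz' : i z ∈ X.basicOpen a := hz
  have hzU : i z ∈ U.1 := X.basicOpen_le a hz'
  have hs : i z ∈ I.support := h ⟨z, rfl⟩
  rw [Scheme.IdealSheafData.mem_support_iff_of_mem hzU, Scheme.mem_zeroLocus_iff] at hs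
  exact (hs a ha hz').elim

/-- the induced closed immersion into the closed subscheme. -/
theorem exists_lift_of_isReduced (i : Z ⟶ X) [IsClosedImmersion i] [IsReduced Z]
    (I : X.IdealSheafData) (h : Set.range i ⊆ (I.support : Set X)) :
    ∃ g : Z ⟶ I.subscheme, IsClosedImmersion g ∧ g ≫ I.subschemeι = i := by
  have H : I.subschemeι.ker ≤ i.ker := by
    rw [Scheme.IdealSheafData.ker_subschemeι]
    exact le_ker_of_isReduced i I h
  refine ⟨IsClosedImmersion.lift I.subschemeι i H, ?_, IsClosedImmersion.lift_fac _ _ H⟩
  haveI : IsClosedImmersion (IsClosedImmersion.lift I.subschemeι i H ≫ I.subschemeι) := by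
    rw [IsClosedImmersion.lift_fac]; infer_instance
  exact IsClosedImmersion.of_comp _ I.subschemeι

/-- ampleness passes to reduced closed subschemes contained in a closed subscheme on which
the module is ample. -/
theorem isAmple_pullback_of_lift (i : Z ⟶ X) [IsClosedImmersion i] [IsReduced Z]
    (I : X.IdealSheafData) (h : Set.range i ⊆ (I.support : Set X)) (L : X.Modules)
    (hI : CohB1.IsAmple ((Scheme.Modules.pullback I.subschemeι).obj L)) :
    CohB1.IsAmple ((Scheme.Modules.pullback i).obj L) := by
  obtain ⟨g, hg, hgi⟩ := exists_lift_of_isReduced i I h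
  haveI := hg
  have h1 := isAmple_pullback_of_isAffineHom g _ hI
  have e : (Scheme.Modules.pullback g).obj ((Scheme.Modules.pullback I.subschemeι).obj L) ≅
      (Scheme.Modules.pullback i).obj L :=
    (Scheme.Modules.pullbackComp g I.subschemeι).app L ≪≫
      (Scheme.Modules.pullbackCongr hgi).app L
  exact isAmple_of_iso e h1

end Groth.Agent.LD.PN.AmD
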