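import Groth.Agent.Lib.Lead.PN.RegExt
import Groth.Agent.Lib.Lead.PN.Finite
import Groth.Agent.Lib.Lead.QC.ProjFormula
import Groth.Agent.Lib.Lead.QC.PushFin
import Groth.Agent.Lib.Lead.CohLES.PushEquiv

/-! # Closed subschemes of projective space: transfer of cohomology to `P^n`. -/

universe u
open CategoryTheory AlgebraicGeometry TopologicalSpace Opposite Limits

namespace Groth.Agent.LD.PN

/-- isomorphic modules have linearly isomorphic cohomology. -/
noncomputable def _root_.Groth.Agent.LD.CL.HHisoEquiv {Y : Scheme.{u}} (A : Type u) [CommRing A]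
    [Y.Over (Spec (CommRingCat.of A))] {M N : Y.Modules} (e : M ≅ N) (j : ℕ) :
    Coh.HH Y M j ≃ₗ[A] Coh.HH Y N j :=
  LinearEquiv.ofLinear (CL.HHmap A e.hom j) (CL.HHmap A e.inv j)
    (by rw [← CL.HHmap_comp, Iso.inv_hom_id, CL.HHmap_id])
    (by rw [← CL.HHmap_comp, Iso.hom_inv_id, CL.HHmap_id])

variable (n : ℕ) (R : Type u) [CommRing R]

open Twist TW CH

variable {X : Scheme.{u}} (i : X ⟶ Proj (CohB1.polyGrading n R))

/-- `F(d) = F ⊗ i^* O(d)`. -/
noncomputable def twOn (F : X.Modules) (d : ℤ) : X.Modules :=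
  CohB1.tensorMod F ((Scheme.Modules.pullback i).obj (twist (CohB1.polyGrading n R) d))

/-- `i_* (F(d)) ≅ (i_* F)(d)`. -/
noncomputable def pushTwistIso (F : X.Modules) (d : ℤ) :
    (Scheme.Modules.pushforward i).obj (twOn n R i F d) ≅
      kG n R ((Scheme.Modules.pushforward i).obj F) d :=
  (QC.projIso i F _ (isInvertible_twist n R d)).symm

lemma pushTwistIso_naturality {F F' : X.Modules} (φ : F ⟶ F') (d : ℤ) :
    (Scheme.Modules.pushforward i).map
        (KoszTw.tensorMap φ (𝟙 ((Scheme.Modules.pullback i).obj (twist (CohB1.polyGrading n R) d)))) ≫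
      (pushTwistIso n R i F' d).hom =
    (pushTwistIso n R i F d).hom ≫
      KoszTw.tensorMap ((Scheme.Modules.pushforward i).map φ) (𝟙 (twist (CohB1.polyGrading n R) d)) := by
  have h := QC.projHom_naturality i (twist (CohB1.polyGrading n R) d) (isInvertible_twist n R d) φ
  change _ ≫ (QC.projIso i F' _ (isInvertible_twist n R d)).inv =
    (QC.projIso i F _ (isInvertible_twist n R d)).inv ≫ _
  rw [Iso.comp_inv_eq, Category.assoc, Iso.eq_inv_comp]
  exact h.symm

variable [IsClosedImmersion i]

/-- direct images of coherent modules along closed immersions are coherent. -/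
theorem isCoh_push (F : X.Modules) (hF : Coh.IsCoh F) :
    Coh.IsCoh ((Scheme.Modules.pushforward i).obj F) := by
  haveI : F.IsQuasicoherent := hF.1
  exact ⟨QC.qc_pushforward i F, QC.isFiniteType_pushforward_of_isFinite i F hF.2⟩

/-- the direct image along a closed immersion is exact. -/
theorem shortExact_push {S : ShortComplex X.Modules} (hS : S.ShortExact) :
    (S.map (Scheme.Modules.pushforward i)).ShortExact := by
  haveI : PreservesLimitsOfSize.{0, 0} (Scheme.Modules.pushforward i) :=
    (Scheme.Modules.pullbackPushforwardAdjunction i).rightAdjoint_preservesLimits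
  haveI : PreservesFiniteLimits (Scheme.Modules.pushforward i) :=
    PreservesLimitsOfSize.preservesFiniteLimits.{0, 0} _
  haveI := hS.mono_f
  haveI := hS.epi_g
  haveI : Mono (S.map (Scheme.Modules.pushforward i)).f := by
    change Mono ((Scheme.Modules.pushforward i).map S.f); infer_instance
  haveI : Epi (S.map (Scheme.Modules.pushforward i)).g := by
    change Epi ((Scheme.Modules.pushforward i).map S.g)
    haveI := SC.preservesEpi_push_of_isClosedEmbedding i.base i.isClosedEmbedding
    haveI h1 : Epi ((SheafOfModules.toSheaf X.ringCatSheaf).map S.g) :=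
      @QC.toSheaf_map_epi _ _ _ X.ringCatSheaf _ _ _ _ S.g hS.epi_g
    have h2 : Epi ((SC.pushAb i.base).map ((SheafOfModules.toSheaf X.ringCatSheaf).map S.g)) :=
      inferInstance
    haveI : (SC.toAbF (Proj (CohB1.polyGrading n R))).Faithful :=
      inferInstanceAs (SheafOfModules.toSheaf (Proj (CohB1.polyGrading n R)).ringCatSheaf).Faithful
    exact (SC.toAbF (Proj (CohB1.polyGrading n R))).epi_of_epi_map h2
  exact ShortComplex.ShortExact.mk
    (hS.exact.map_of_mono_of_preservesKernel _ hS.mono_f inferInstance)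

/-- vanishing of `H^j(X, F(d))` is vanishing of `H^j(P, (i_* F)(d))`. -/
theorem subsingleton_HH_twOn_iff (F : X.Modules) (d : ℤ) (j : ℕ) :
    Subsingleton (Coh.HH X (twOn n R i F d) j) ↔
      Subsingleton (Coh.HH (Proj (CohB1.polyGrading n R))
        (kG n R ((Scheme.Modules.pushforward i).obj F) d) j) := by
  rw [← CL.subsingleton_HH_push_iff i (twOn n R i F d) j]
  exact ⟨fun h => CL.subsingleton_of_iso (pushTwistIso n R i F d) j h,
    fun h => CL.subsingleton_of_iso (pushTwistIso n R i F d).symm j h⟩

section Linear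
variable [X.Over (Spec (CommRingCat.of R))] [i.IsOver (Spec (CommRingCat.of R))]

/-- `H^j(X, F(d)) ≃ H^j(P, (i_* F)(d))`, linearly over the base ring. -/
noncomputable def HHtwEquiv (F : X.Modules) (d : ℤ) (j : ℕ) :
    Coh.HH X (twOn n R i F d) j ≃ₗ[R]
      Coh.HH (Proj (CohB1.polyGrading n R)) (kG n R ((Scheme.Modules.pushforward i).obj F) d) j :=
  LinearEquiv.trans (CL.HHpushEquiv i R (twOn n R i F d) j)
    (CL.HHisoEquiv R (pushTwistIso n R i F d) j)

end Linear

end Groth.Agent.LD.PN
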