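import Groth.Agent.Lib.Lead.PN.Finite
import Groth.Agent.Lib.Lead.FBC.Final2
import Groth.Agent.Lib.Lead.QC.TensorQC
import Groth.Prelude.Def_Curv2

/-! # Projective space is quasi-compact; field base change of cohomology on it. -/

universe u
open CategoryTheory AlgebraicGeometry TopologicalSpace Opposite Limits TensorProduct

namespace Groth.Agent.LD.PN

variable (n : ℕ) (R : Type u) [CommRing R]

open Twist TW CH

instance compactSpace_projPoly : CompactSpace (Proj (CohB1.polyGrading n R)) := by
  classical
  refine compactSpace_proj (𝒜 := CohB1.polyGrading n R)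
    (Finset.univ.image (MvPolynomial.X : Fin (n+1) → MvPolynomial (Fin (n+1)) R)) ?_ ?_
  · intro f hf
    obtain ⟨i, -, rfl⟩ := Finset.mem_image.1 hf
    exact X_mem i
  · rw [irrelevant_eq_span n R]
    congr 1
    ext f
    simp

instance compactSpace_projSpace : CompactSpace (CohB1.ProjSpace n R) :=
  compactSpace_projPoly n R

instance quasiSeparatedSpace_projSpace : QuasiSeparatedSpace (CohB1.ProjSpace n R) :=
  quasiSeparatedSpace_proj (𝒜 := CohB1.polyGrading n R)

/-- base change of cohomology vanishing along a field extension. -/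
theorem subsingleton_HH_bc_iff (k : Type u) [Field k] (k' : Type u) [Field k'] [Algebra k k']
    (X : Scheme.{u}) [X.Over (Spec (CommRingCat.of k))] [CompactSpace X] [QuasiSeparatedSpace X]
    (G : X.Modules) [G.IsQuasicoherent] (i : ℕ) :
    Subsingleton (Coh.HH (Curv2.bc k X k')
        ((Scheme.Modules.pullback (Curv2.bcFst k X k')).obj G) i) ↔
      Subsingleton (Coh.HH X G i) := by
  letI : Module k (Coh.HH X G i) := Module.compHom _ (Coh.toGlobal (X ↘ Spec (CommRingCat.of k)))
  letI : Module k' (Coh.HH (Curv2.bc k X k')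
      ((Scheme.Modules.pullback (Curv2.bcFst k X k')).obj G) i) :=
    Module.compHom _ (Coh.toGlobal (Curv2.bcSnd k X k'))
  obtain ⟨e⟩ := FBC.flat_base_change (Curv2.bcFst k X k') (X ↘ Spec (CommRingCat.of k))
    (Curv2.bcSnd k X k') (IsPullback.of_hasPullback _ _) G i
  rw [← e.toEquiv.subsingleton_congr]
  exact Module.FaithfullyFlat.subsingleton_tensorProduct_iff_right k k'

end Groth.Agent.LD.PN
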