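import Groth.Agent.Lib.Lead.PN.ChiKoszul
import Groth.Agent.Lib.Lead.Alg.FwdDiffPoly

/-! # Existence of the Hilbert polynomial on `P^n` and its closed subschemes over an Artinian
ring. -/

universe u
open CategoryTheory AlgebraicGeometry TopologicalSpace Opposite Limits

namespace Groth.Agent.LD.PN

open Twist TW CH

variable (n : ℕ) (R : Type u) [CommRing R] [IsArtinianRing R]

/-- **the Hilbert polynomial** of a coherent module on `P^n_R`. -/
theorem exists_hilbert_polynomial (F : (Proj (CohB1.polyGrading n R)).Modules)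
    (hF : Coh.IsCoh F) :
    ∃ Q : Polynomial ℚ, ∀ m : ℤ, ((chi n R (kG n R F m) : ℤ) : ℚ) = Q.eval (m : ℚ) := by
  apply Alg.exists_poly_of_alt_sum (n + 1) (fun m => ((chi n R (kG n R F m) : ℤ) : ℚ))
  intro e
  have h := chi_koszul_relation n R F hF e
  have h' := congrArg (Int.cast (R := ℚ)) h
  push_cast at h'
  exact h'

variable {X : Scheme.{u}} (i : X ⟶ Proj (CohB1.polyGrading n R)) [IsClosedImmersion i]
  [X.Over (Spec (CommRingCat.of R))] [i.IsOver (Spec (CommRingCat.of R))]

/-- **the Hilbert polynomial** of a coherent module on a closed subscheme of `P^n_R`. -/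
theorem exists_hilbert_polynomial_on (F : X.Modules) (hF : Coh.IsCoh F) :
    ∃ Q : Polynomial ℚ, ∀ m : ℤ,
      ((Finset.range (n + 1)).sum fun j => (-1 : ℚ) ^ j *
        ((Module.length R (Coh.HH X (twOn n R i F m) j)).toNat : ℚ)) = Q.eval (m : ℚ) := by
  obtain ⟨Q, hQ⟩ := exists_hilbert_polynomial n R _ (isCoh_push n R i F hF)
  refine ⟨Q, fun m => ?_⟩
  rw [← hQ m]
  unfold chi CL.chiLE Alg.len
  push_cast
  refine Finset.sum_congr rfl (fun j _ => ?_)
  rw [(HHtwEquiv n R i F m j).length_eq]

end Groth.Agent.LD.PN
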