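import Groth.Agent.Lib.Lead.PN.MulSurj2
import Groth.Agent.Lib.Lead.QC.GlobGenTwist

/-! # An `m`-regular module `F` on projective space has `F(m)` globally generated. -/

universe u
open CategoryTheory AlgebraicGeometry TopologicalSpace Opposite Limits TensorProduct

namespace Groth.Agent.LD.PN

variable (n : ℕ) (R : Type u) [CommRing R]

open Twist TW CH

/-- **Mumford**: if `F` is `m`-regular, then `F(m)` is generated by its global sections. -/
theorem epi_homOfFamily_of_isReg (F : (Proj (CohB1.polyGrading n R)).Modules) [F.IsQuasicoherent]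
    (hFT : F.IsFiniteType) (m : ℤ) (h : IsReg n R F m) :
    Epi (QC.homOfFamily (kG n R F m) (fun a : Γ(kG n R F m, ⊤) => a)) := by
  classical
  haveI : (kG n R F m).IsQuasicoherent := kG_qc n R F m
  have hGFT : (kG n R F m).IsFiniteType :=
    QC.isFiniteType_tensorMod_of_isInvertible F hFT _ (isInvertible_twist n R m)
  have hs1 : ∀ f ∈ (Finset.univ.image (MvPolynomial.X : Fin (n+1) → MvPolynomial (Fin (n+1)) R)),
      f ∈ CohB1.polyGrading n R 1 := by
    intro f hf
    obtain ⟨i, -, rfl⟩ := Finset.mem_image.1 hf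
    exact X_mem i
  have hs : (HomogeneousIdeal.irrelevant (CohB1.polyGrading n R)).toIdeal =
      Ideal.span ((Finset.univ.image
        (MvPolynomial.X : Fin (n+1) → MvPolynomial (Fin (n+1)) R) : Finset _) : Set _) := by
    rw [irrelevant_eq_span, Finset.coe_image, Finset.coe_univ, Set.image_univ]
  obtain ⟨N₀, hN⟩ := exists_epi_free_twistBy (𝒜 := CohB1.polyGrading n R) _ hs1 hs
    (kG n R F m) hGFT
  obtain ⟨K, p, hp⟩ := hN N₀ le_rfl
  have hsurj := mul_surj_all n R F m m le_rfl h N₀
  exact QC.epi_homOfFamily_of_twist (kG n R F m) (twist (CohB1.polyGrading n R) (N₀ : ℤ))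
    (isInvertible_twist n R (N₀ : ℤ)) hsurj p hp

theorem isGloballyGenerated_of_isReg (F : (Proj (CohB1.polyGrading n R)).Modules)
    [F.IsQuasicoherent] (hFT : F.IsFiniteType) (m : ℤ) (h : IsReg n R F m) :
    Curv2.IsGloballyGenerated (kG n R F m) :=
  ⟨_, _, epi_homOfFamily_of_isReg n R F hFT m h⟩

end Groth.Agent.LD.PN
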