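import Groth.Agent.Lib.Lead.PN.ClosedSubReg
import Groth.Agent.Lib.Lead.PN.GlobGen
import Groth.Agent.Lib.Lead.QC.PushGG

/-! # Global generation of regular modules on closed subschemes of projective space. -/

universe u
open CategoryTheory AlgebraicGeometry TopologicalSpace Opposite Limits

namespace Groth.Agent.LD.PN

variable (n : ℕ) (k : Type u) [Field k]

open Twist TW CH

variable {X : Scheme.{u}} (i : X ⟶ Proj (CohB1.polyGrading n k)) [IsClosedImmersion i]

omit [IsClosedImmersion i] in
theorem isCoh_twOn (F : X.Modules) (hF : Coh.IsCoh F) (d : ℤ) : Coh.IsCoh (twOn n k i F d) := by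
  haveI : F.IsQuasicoherent := hF.1
  have hL := QC.isInvertible_pullback i (isInvertible_twist n k d)
  haveI := QC.qc_of_isInvertible _ hL
  exact ⟨inferInstanceAs (CohB1.tensorMod F _).IsQuasicoherent,
    QC.isFiniteType_tensorMod_of_isInvertible F hF.2 _ hL⟩

lemma isGloballyGenerated_of_iso {Y : Scheme.{u}} {M N : Y.Modules} (e : M ≅ N)
    (h : Curv2.IsGloballyGenerated M) : Curv2.IsGloballyGenerated N := by
  obtain ⟨ι, p, hp⟩ := h
  exact ⟨ι, p ≫ e.hom, epi_comp _ _⟩

/-- **an `m`-regular coherent module on a closed subscheme of projective space is generated by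
its global sections after twisting by `m`.** -/
theorem isGloballyGenerated_twOn (F : X.Modules) (hF : Coh.IsCoh F) (m : ℤ)
    (h : ∀ q : ℕ, 1 ≤ q → Subsingleton (Coh.HH X (twOn n k i F (m - q)) q)) :
    Curv2.IsGloballyGenerated (twOn n k i F m) := by
  have hFP := isCoh_push n k i F hF
  haveI : ((Scheme.Modules.pushforward i).obj F).IsQuasicoherent := hFP.1
  have hreg : IsReg n k ((Scheme.Modules.pushforward i).obj F) m := (isReg_push_iff n k i F m).mpr h
  have h1 := isGloballyGenerated_of_isReg n k _ hFP.2 m hreg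
  have h2 := isGloballyGenerated_of_iso (pushTwistIso n k i F m).symm h1
  exact QC.isGloballyGenerated_of_push i _ (isCoh_twOn n k i F hF m).2 h2

end Groth.Agent.LD.PN
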