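import Groth.Agent.Lib.Lead.PN.Finite
import Groth.Agent.Lib.Lead.QC.PullAmple
import Groth.Agent.Lib.Lead.QC.PullInv
import Groth.Agent.Lib.Lead.TW.Ample
import Groth.Agent.Lib.Lead.SC.LocFreeVanish

/-! # Quasi-projective schemes: a scheme immersed in `P^n_R` (`R` noetherian) is noetherian and
carries an ample invertible module with an inverse. -/

universe u
open CategoryTheory AlgebraicGeometry TopologicalSpace Opposite Limits

namespace Groth.Agent.LD.PN

variable (n : ℕ) (R : Type u) [CommRing R]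

open Twist TW CH

theorem exists_ample_of_immersion [IsNoetherianRing R] {X : Scheme.{u}}
    (ι : X ⟶ Proj (CohB1.polyGrading n R)) [IsImmersion ι] :
    IsLocallyNoetherian X ∧ ∃ L L' : X.Modules, CohB1.IsAmple L ∧
      Nonempty (CohB1.tensorMod L L' ≅ QC.unitMod X) := by
  classical
  have hs1 : ∀ f ∈ (Finset.univ.image (MvPolynomial.X : Fin (n+1) → MvPolynomial (Fin (n+1)) R)),
      f ∈ CohB1.polyGrading n R 1 := by
    intro f hf
    obtain ⟨i, -, rfl⟩ := Finset.mem_image.1 hf
    exact X_mem i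
  have hs : (HomogeneousIdeal.irrelevant (CohB1.polyGrading n R)).toIdeal =
      Ideal.span ((Finset.univ.image
        (MvPolynomial.X : Fin (n+1) → MvPolynomial (Fin (n+1)) R) : Finset _) : Set _) := by
    rw [irrelevant_eq_span, Finset.coe_image, Finset.coe_univ, Set.image_univ]
  haveI : CompactSpace (Proj (CohB1.polyGrading n R)) := compactSpace_proj _ hs1 hs
  haveI : IsNoetherian (Proj (CohB1.polyGrading n R)) := {}
  haveI hXN : IsLocallyNoetherian X := LocallyOfFiniteType.isLocallyNoetherian ι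
  haveI : NoetherianSpace X := ι.isEmbedding.isInducing.noetherianSpace
  have hamp := isAmple_twist_one (𝒜 := CohB1.polyGrading n R) _ hs1 hs
  have hqa : Mor2.IsQuasiAffine ι := by
    refine ⟨inferInstance, fun V hV => ?_⟩
    haveI : IsAffine (V : Scheme.{u}) := hV
    haveI : CompactSpace ((ι ⁻¹ᵁ V : X.Opens) : Scheme.{u}) :=
      isCompact_iff_compactSpace.1 (NoetherianSpace.isCompact _)
    exact Scheme.IsQuasiAffine.of_isImmersion (ι ∣_ V)
  have hL := QC.isAmple_pullback_of_isQuasiAffine ι _ hamp hqa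
  refine ⟨hXN, (Scheme.Modules.pullback ι).obj (twist (CohB1.polyGrading n R) 1),
    (Scheme.Modules.pullback ι).obj (twist (CohB1.polyGrading n R) (-1)), hL, ⟨?_⟩⟩
  let ε : CohB1.tensorMod (twist (CohB1.polyGrading n R) (1 : ℤ))
      (twist (CohB1.polyGrading n R) (-(1 : ℤ))) ≅ QC.unitMod (Proj (CohB1.polyGrading n R)) :=
    mulTensorIso hs1 hs (1 : ℤ) (-(1 : ℤ)) ≪≫ twistCongr (by simp) ≪≫
      twistZeroIso (CohB1.polyGrading n R)
  exact (QC.pbTensorIso ι _ _ (isInvertible_twist n R 1) (isInvertible_twist n R (-1))).symm ≪≫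
    (Scheme.Modules.pullback ι).mapIso ε ≪≫ QC.pbUnitIso ι

/-- on a scheme immersed in projective space over a noetherian ring, vanishing of the higher
cohomology of finite locally free modules above `m` implies the same for coherent modules. -/
theorem subsingleton_HH_coh_of_locFree_of_immersion [IsNoetherianRing R] {X : Scheme.{u}}
    (ι : X ⟶ CohB1.ProjSpace n R) [IsImmersion ι] (m : ℕ)
    (h : ∀ E : X.Modules, FlatMod.IsFinLocFree E → ∀ i : ℕ, m < i → Subsingleton (Coh.HH X E i))
    (F : X.Modules) (hF : Coh.IsCoh F) (i : ℕ) (hi : m < i) :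
    Subsingleton (Coh.HH X F i) := by
  obtain ⟨hN, L, L', hL, ⟨ε⟩⟩ := @exists_ample_of_immersion n R _ _ X ι ‹_›
  haveI := hN
  exact SC.subsingleton_HH_coh_of_locFree L L' hL ε m h F hF i hi

end Groth.Agent.LD.PN
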