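import Groth.Agent.Lib.Lead.QC.TwistBack
import Groth.Agent.Lib.Lead.PN.Koszul
import Groth.Agent.Lib.Lead.SC.SerreCrit
import Groth.Agent.Lib.Lead.QC.Ext

/-! # Extensions of line bundles on `P^n`, `n ≥ 2`, split. -/

universe u
open CategoryTheory AlgebraicGeometry TopologicalSpace Opposite Limits

namespace Groth.Agent.LD.PN

variable (n : ℕ) (R : Type u) [CommRing R]

open Twist TW CH

/-- a short exact sequence `0 → A → E → B → 0` with `B ≅ O(b)` and `H¹(A(-b)) = 0` splits. -/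
theorem nonempty_splitting_of_h1 (b : ℤ)
    (S : ShortComplex (Proj (CohB1.polyGrading n R)).Modules) (hS : S.ShortExact)
    [S.X₁.IsQuasicoherent]
    (hb : Nonempty (S.X₃ ≅ twist (CohB1.polyGrading n R) b))
    (hH : Subsingleton (Coh.HH (Proj (CohB1.polyGrading n R))
      (CohB1.tensorMod S.X₁ (twist (CohB1.polyGrading n R) (-b))) 1)) :
    Nonempty S.Splitting := by
  obtain ⟨β⟩ := hb
  haveI h3q : S.X₃.IsQuasicoherent := QC.qc_of_iso β.symm (qc_twist n R b)
  haveI h2q : S.X₂.IsQuasicoherent := QC.qc_of_shortExact S hS inferInstance h3q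
  have hL := isInvertible_twist n R (-b)
  have hL' := isInvertible_twist n R b
  haveI := qc_twist n R (-b)
  haveI := qc_twist n R b
  let e : CohB1.tensorMod (twist (CohB1.polyGrading n R) (-b)) (twist (CohB1.polyGrading n R) b) ≅
      QC.unitMod (Proj (CohB1.polyGrading n R)) :=
    twistMulIso n R (-b) b 0 (by ring) ≪≫ twistZeroIso (CohB1.polyGrading n R)
  have hS' := QC.shortExact_tensorMap_of_isInvertible hS _ hL
  have hsurj := SC.surjective_app_top_of_h1Zero hS' (SC.h1Zero_of_HH _ hH)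
  let ψ : CohB1.tensorMod S.X₃ (twist (CohB1.polyGrading n R) (-b)) ≅
      QC.unitMod (Proj (CohB1.polyGrading n R)) :=
    QC.tensorIso' β (Iso.refl _) ≪≫ twistMulIso n R b (-b) 0 (by ring) ≪≫
      twistZeroIso (CohB1.polyGrading n R)
  obtain ⟨t, ht⟩ := hsurj (QC.sectionOfHom ψ.inv)
  have hσ : (ψ.hom ≫ QC.homOfSection _ t) ≫
      KoszTw.tensorMap S.g (𝟙 (twist (CohB1.polyGrading n R) (-b))) = 𝟙 _ := by
    rw [Category.assoc, QC.homOfSection_comp]
    have ht' : (KoszTw.tensorMap S.g (𝟙 (twist (CohB1.polyGrading n R) (-b)))).app ⊤ t =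
        QC.sectionOfHom ψ.inv := ht
    rw [ht', QC.homOfSection_sectionOfHom, Iso.hom_inv_id]
  obtain ⟨s, hs⟩ := QC.exists_section_of_twist _ _ e hL hL' S.g _ hσ
  exact ⟨ShortComplex.Splitting.ofExactOfSection S hS.exact s hs hS.mono_f⟩

/-- **extensions of `O(b)` by `O(a)` on `P^n`, `n ≥ 2`, split.** -/
theorem nonempty_splitting (hn : 2 ≤ n) (a b : ℤ)
    (S : ShortComplex (Proj (CohB1.polyGrading n R)).Modules) (hS : S.ShortExact)
    (ha : Nonempty (S.X₁ ≅ twist (CohB1.polyGrading n R) a))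
    (hb : Nonempty (S.X₃ ≅ twist (CohB1.polyGrading n R) b)) : Nonempty S.Splitting := by
  obtain ⟨α⟩ := ha
  haveI h1q : S.X₁.IsQuasicoherent := QC.qc_of_iso α.symm (qc_twist n R a)
  apply nonempty_splitting_of_h1 n R b S hS hb
  refine CL.subsingleton_of_iso (QC.tensorIso' α (Iso.refl _) ≪≫
    twistMulIso n R a (-b) (a - b) (by ring)).symm 1 ?_
  apply subsingleton_HH_twist_all n R (a - b) 1
  · rintro ⟨h, -⟩
    exact absurd h one_ne_zero
  · rintro ⟨h, -⟩
    omega

end Groth.Agent.LD.PN
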