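import Groth.Agent.Lib.Lead.PN.Laurent

/-! # The embedding of `R[X][1/X^c]` into the Laurent polynomial ring. -/

universe u
open AddMonoidAlgebra

namespace Groth.Agent.LD.PN

variable {n : ℕ} {R : Type u} [CommRing R]

/-- the monomial `X^c`. -/
noncomputable abbrev G (c : Fin (n+1) →₀ ℕ) : MvPolynomial (Fin (n+1)) R :=
  MvPolynomial.monomial c (1 : R)

lemma ιL_G (c : Fin (n+1) →₀ ℕ) : ιL n R (G c) = mono n R (castE n c) := ιL_monomial c 1

lemma ιL_G_pow (c : Fin (n+1) →₀ ℕ) (k : ℕ) : ιL n R (G c ^ k) = mono n R (k • castE n c) := by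
  induction k with
  | zero => simp [mono_zero]
  | succ k ih => rw [pow_succ, map_mul, ih, ιL_G, mono_mul_mono, succ_nsmul]

lemma isUnit_ιL_G (c : Fin (n+1) →₀ ℕ) : IsUnit (ιL n R (G c)) := by
  rw [ιL_G]; exact isUnit_mono _

/-- the embedding `R[X][1/X^c] → R[X^{±1}]`. -/
noncomputable def lam (c : Fin (n+1) →₀ ℕ) :
    Localization.Away (G c : MvPolynomial (Fin (n+1)) R) →+* Lau n R :=
  IsLocalization.Away.lift (G c) (isUnit_ιL_G c)

lemma lam_algebraMap (c : Fin (n+1) →₀ ℕ) (b : MvPolynomial (Fin (n+1)) R) :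
    lam c (algebraMap (MvPolynomial (Fin (n+1)) R) (Localization.Away (G c : MvPolynomial (Fin (n+1)) R)) b) =
      ιL n R b :=
  IsLocalization.Away.lift_eq _ _ b

lemma lam_mk (c : Fin (n+1) →₀ ℕ) (b : MvPolynomial (Fin (n+1)) R) (k : ℕ) :
    lam c (Localization.mk b (⟨G c ^ k, k, rfl⟩ : Submonoid.powers (G c))) =
      ιL n R b * mono n R (-(k • castE n c)) := by
  have h1 : Localization.mk b (⟨G c ^ k, k, rfl⟩ : Submonoid.powers (G c)) *
      algebraMap (MvPolynomial (Fin (n+1)) R)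
        (Localization.Away (G c : MvPolynomial (Fin (n+1)) R)) (G c ^ k) =
      algebraMap (MvPolynomial (Fin (n+1)) R)
        (Localization.Away (G c : MvPolynomial (Fin (n+1)) R)) b := by
    rw [Localization.mk_eq_mk']
    exact IsLocalization.mk'_spec _ b _
  have h2 := congrArg (lam c) h1
  rw [map_mul, lam_algebraMap, lam_algebraMap, ιL_G_pow] at h2
  rw [← h2, mul_assoc, mul_comm (mono n R (k • castE n c)), mono_neg_mul, mul_one]

lemma lam_injective (c : Fin (n+1) →₀ ℕ) : Function.Injective (lam (R := R) c) := by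
  rw [injective_iff_map_eq_zero]
  intro ℓ hℓ
  obtain ⟨⟨b, s⟩, rfl⟩ := IsLocalization.mk'_surjective
    (Submonoid.powers (G c : MvPolynomial (Fin (n+1)) R)) ℓ
  obtain ⟨s, k, rfl⟩ := s
  rw [← Localization.mk_eq_mk'] at hℓ ⊢
  change lam c (Localization.mk b (⟨G c ^ k, k, rfl⟩ :
    Submonoid.powers (G c : MvPolynomial (Fin (n+1)) R))) = 0 at hℓ
  rw [lam_mk] at hℓ
  have h1 : ιL n R b = 0 := by
    have := congrArg (· * mono n R (k • castE n c)) hℓ
    simp only [zero_mul] at this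
    rwa [mul_assoc, mono_neg_mul, mul_one] at this
  have h2 : b = 0 := ιL_injective n R (h1.trans (map_zero _).symm)
  rw [h2]
  exact Localization.mk_zero _

end Groth.Agent.LD.PN
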