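import Groth.Agent.Lib.Lead.PN.Rep2
import Groth.Agent.Lib.Lead.PN.Lam
import Groth.Prelude.Def_CohB1

/-! # Sections of `O(d)` on projective space over `D₊(X^c)` as Laurent polynomials. -/

universe u
open CategoryTheory AlgebraicGeometry TopologicalSpace Opposite

namespace Groth.Agent.LD.PN

variable (n : ℕ) (R : Type u) [CommRing R]

open Twist TW

variable {n R}

lemma G_mem (c : Fin (n+1) →₀ ℕ) : (G c : MvPolynomial (Fin (n+1)) R) ∈ (CohB1.polyGrading n R) (Finsupp.degree c) :=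
  (MvPolynomial.mem_homogeneousSubmodule _ _).2 (MvPolynomial.isHomogeneous_monomial 1 rfl)

lemma X_mem (v : Fin (n+1)) : (MvPolynomial.X v : MvPolynomial (Fin (n+1)) R) ∈ (CohB1.polyGrading n R) 1 :=
  (MvPolynomial.mem_homogeneousSubmodule _ _).2 (MvPolynomial.isHomogeneous_X R v)

lemma G_add_single (c' : Fin (n+1) →₀ ℕ) (v : Fin (n+1)) :
    (G (c' + Finsupp.single v 1) : MvPolynomial (Fin (n+1)) R) = G c' * MvPolynomial.X v := by
  rw [G, MvPolynomial.monomial_add_single, pow_one]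

lemma G_add (c c'' : Fin (n+1) →₀ ℕ) :
    (G (c + c'') : MvPolynomial (Fin (n+1)) R) = G c * G c'' := by
  rw [G, G, G, MvPolynomial.monomial_mul, one_mul]

lemma degree_add_single (c' : Fin (n+1) →₀ ℕ) (v : Fin (n+1)) :
    Finsupp.degree (c' + Finsupp.single v 1) = Finsupp.degree c' + 1 := by
  rw [map_add, Finsupp.degree_single]

variable (n R) in
open Classical in
/-- the Laurent polynomial of a section of `O(d)` over `V ⊆ D₊(X^c)`. -/
noncomputable def theta (c : Fin (n+1) →₀ ℕ) (d : ℤ) {V : Opens (ProjectiveSpectrum.top (CohB1.polyGrading n R))}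
    (hV : V ≤ ProjectiveSpectrum.basicOpen (CohB1.polyGrading n R) (G c)) (s : sectN (𝒜 := (CohB1.polyGrading n R)) d (op V)) : Lau n R :=
  if h : ∃ ℓ, IsHomog (CohB1.polyGrading n R) (G c) (Finsupp.degree c) d ℓ ∧ IsRep (G c) hV s ℓ then lam c h.choose
  else 0

section

variable {c c' : Fin (n+1) →₀ ℕ} {v : Fin (n+1)} (hc : c = c' + Finsupp.single v 1) (d : ℤ)
  {V : Opens (ProjectiveSpectrum.top (CohB1.polyGrading n R))} (hV : V = ProjectiveSpectrum.basicOpen (CohB1.polyGrading n R) (G c))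

include hc in
theorem exists_isRep (s : sectN (𝒜 := (CohB1.polyGrading n R)) d (op V)) :
    ∃ ℓ, IsHomog (CohB1.polyGrading n R) (G c) (Finsupp.degree c) d ℓ ∧ IsRep (G c) hV.le s ℓ := by
  subst hc
  rw [degree_add_single]
  exact exists_rep (X_mem v) (G_mem c') (G_add_single c' v) d hV s

include hc in
theorem theta_eq (s : sectN (𝒜 := (CohB1.polyGrading n R)) d (op V)) {ℓ : Localization.Away (G c)}
    (h : IsHomog (CohB1.polyGrading n R) (G c) (Finsupp.degree c) d ℓ) (h' : IsRep (G c) hV.le s ℓ) :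
    theta n R c d hV.le s = lam c ℓ := by
  have hex : ∃ ℓ, IsHomog (CohB1.polyGrading n R) (G c) (Finsupp.degree c) d ℓ ∧ IsRep (G c) hV.le s ℓ := ⟨ℓ, h, h'⟩
  rw [theta, dif_pos hex]
  congr 1
  obtain ⟨h1, h1'⟩ := hex.choose_spec
  generalize hex.choose = ℓ₀ at h1 h1' ⊢
  clear hex
  subst hc
  subst hV
  rw [degree_add_single] at h h1
  apply rep_unique (X_mem v) (G_mem c') (G_add_single c' v) h1 h
  intro x
  rw [← h1' x, ← h' x]

include hc in
theorem theta_add (s t : sectN (𝒜 := (CohB1.polyGrading n R)) d (op V)) :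
    theta n R c d hV.le (s + t) = theta n R c d hV.le s + theta n R c d hV.le t := by
  obtain ⟨ℓ, h, h'⟩ := exists_isRep hc d hV s
  obtain ⟨ℓ₂, h₂, h₂'⟩ := exists_isRep hc d hV t
  rw [theta_eq hc d hV s h h', theta_eq hc d hV t h₂ h₂',
    theta_eq hc d hV (s + t) (h.add (G_mem c) h₂) (fun x => by
      rw [map_add, ← h' x, ← h₂' x]; rfl), map_add]

include hc in
theorem theta_injective : Function.Injective (theta n R c d hV.le) := by
  intro s t hst
  obtain ⟨ℓ, h, h'⟩ := exists_isRep hc d hV s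
  obtain ⟨ℓ₂, h₂, h₂'⟩ := exists_isRep hc d hV t
  rw [theta_eq hc d hV s h h', theta_eq hc d hV t h₂ h₂'] at hst
  have := lam_injective c hst
  subst this
  apply sectN_ext
  intro x
  rw [h' x, h₂' x]

include hc in
theorem theta_mem_Mset (s : sectN (𝒜 := (CohB1.polyGrading n R)) d (op V)) :
    theta n R c d hV.le s ∈ Mset n R c d := by
  obtain ⟨ℓ, h, h'⟩ := exists_isRep hc d hV s
  rw [theta_eq hc d hV s h h']
  obtain ⟨k, j, b, hb, hj, rfl⟩ := h
  change lam c (Localization.mk b (⟨G c ^ k, k, rfl⟩ : Submonoid.powers (G c))) ∈ _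
  rw [lam_mk]
  exact mul_mono_mem_Mset c d k j b ((MvPolynomial.mem_homogeneousSubmodule _ _).1 hb) hj

include hc in
theorem exists_theta_eq (ℓ : Lau n R) (hℓ : ℓ ∈ Mset n R c d) :
    ∃ s : sectN (𝒜 := (CohB1.polyGrading n R)) d (op V), theta n R c d hV.le s = ℓ := by
  have hpos : 0 < Finsupp.degree c := by rw [hc, degree_add_single]; exact Nat.succ_pos _
  obtain ⟨k, j, b, hb, hj, rfl⟩ := exists_of_mem_Mset c hpos d ℓ hℓ
  have hH : IsHomog (CohB1.polyGrading n R) (G c) (Finsupp.degree c) d (Localization.mk b (gpow (G c) k)) :=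
    ⟨k, j, b, (MvPolynomial.mem_homogeneousSubmodule _ _).2 hb, hj, rfl⟩
  obtain ⟨s, hs⟩ := exists_sec (G_mem c) hH hV.le
  refine ⟨s, ?_⟩
  rw [theta_eq hc d hV s hH hs]
  exact lam_mk c b k

end

/-- compatibility of `theta` with restriction to a smaller basic open. -/
theorem theta_res {c c' c'' c₂ : Fin (n+1) →₀ ℕ} {v : Fin (n+1)}
    (hc : c = c' + Finsupp.single v 1) (hc₂ : c₂ = c + c'') (d : ℤ)
    {V V₂ : Opens (ProjectiveSpectrum.top (CohB1.polyGrading n R))}
    (hV : V = ProjectiveSpectrum.basicOpen (CohB1.polyGrading n R) (G c))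
    (hV₂ : V₂ = ProjectiveSpectrum.basicOpen (CohB1.polyGrading n R) (G c₂)) (hle : V₂ ≤ V)
    (s : sectN (𝒜 := (CohB1.polyGrading n R)) d (op V)) :
    theta n R c₂ d hV₂.le (resSec hle s) = theta n R c d hV.le s := by
  have hc₂' : c₂ = (c' + c'') + Finsupp.single v 1 := by rw [hc₂, hc, add_right_comm]
  obtain ⟨ℓ, h, h'⟩ := exists_isRep hc d hV s
  obtain ⟨K, j, B, hB, hj, rfl⟩ := h
  have hH : IsHomog (CohB1.polyGrading n R) (G c) (Finsupp.degree c) d
      (Localization.mk B (gpow (G c) K)) := ⟨K, j, B, hB, hj, rfl⟩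
  have hH₂ : IsHomog (CohB1.polyGrading n R) (G c₂) (Finsupp.degree c₂) d
      (Localization.mk (B * G c'' ^ K) (gpow (G c₂) K)) := by
    refine ⟨K, j + K • Finsupp.degree c'', _,
      SetLike.mul_mem_graded hB (SetLike.pow_mem_graded K (G_mem c'')), ?_, rfl⟩
    rw [hc₂, map_add]
    simp only [smul_eq_mul, Nat.cast_add, Nat.cast_mul]
    rw [hj]; ring
  have hR₂ : IsRep (G c₂) hV₂.le (resSec hle s)
      (Localization.mk (B * G c'' ^ K) (gpow (G c₂) K)) := by
    intro x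
    rw [resSec_val, h' ⟨x.1, hle x.2⟩,
      toLoc_mk (G c) x.1 (hV.le (hle x.2)) B K (pow_notMem _ x.1 (hV.le (hle x.2)) K),
      toLoc_mk (G c₂) x.1 (hV₂.le x.2) _ K (pow_notMem _ x.1 (hV₂.le x.2) K),
      Localization.mk_eq_mk_iff]
    apply Localization.r_of_eq
    change G c₂ ^ K * B = G c ^ K * (B * G c'' ^ K)
    rw [hc₂, G_add]
    ring
  rw [theta_eq hc d hV s hH h', theta_eq hc₂' d hV₂ (resSec hle s) hH₂ hR₂]
  change lam c₂ (Localization.mk (B * G c'' ^ K) (⟨G c₂ ^ K, K, rfl⟩ : Submonoid.powers (G c₂))) =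
    lam c (Localization.mk B (⟨G c ^ K, K, rfl⟩ : Submonoid.powers (G c)))
  rw [lam_mk, lam_mk, map_mul, ιL_G_pow, mul_assoc, mono_mul_mono, hc₂, map_add]
  congr 2
  rw [smul_add]
  abel

end Groth.Agent.LD.PN
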