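import Groth.Agent.Lib.Lead.PN.MulSurj

/-! # Surjectivity of the multiplication maps `H^0(F(d)) ⊗ H^0(O(e)) ⟶ H^0(F(d) ⊗ O(e))`. -/

universe u
open CategoryTheory AlgebraicGeometry TopologicalSpace Opposite Limits TensorProduct

namespace Groth.Agent.LD.PN

variable (n : ℕ) (R : Type u) [CommRing R]

open Twist TW CH

/-- `(F ⊗ O(a)) ⊗ O(b) ≅ F ⊗ O(a+b)`. -/
noncomputable def assocIso2 (F : (Proj (CohB1.polyGrading n R)).Modules) [F.IsQuasicoherent]
    (a b : ℤ) :
    CohB1.tensorMod (CohB1.tensorMod F (twist (CohB1.polyGrading n R) a))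
      (twist (CohB1.polyGrading n R) b) ≅
      CohB1.tensorMod F (twist (CohB1.polyGrading n R) (a+b)) :=
  QC.tensorAssoc F (twist (CohB1.polyGrading n R) a) (twist (CohB1.polyGrading n R) b) ≪≫
    QC.tensorIso' (Iso.refl F) (mulTensorIso (X_range_mem n R) (irrelevant_eq_span n R) a b)

/-- twisting shifts the regularity. -/
theorem isReg_kG (F : (Proj (CohB1.polyGrading n R)).Modules) [F.IsQuasicoherent] (m d : ℤ)
    (h : IsReg n R F m) : IsReg n R (kG n R F d) (m - d) := by
  intro i hi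
  have h1 := h i hi
  have h2 : d + (m - d - (i : ℤ)) = m - i := by ring
  rw [← h2] at h1
  exact CL.subsingleton_of_iso (assocIso2 n R F d (m - d - i)).symm i h1

/-- the case `e = 0`: every section of `A ⊗ O(0)` is a pure tensor. -/
theorem tensorSec_zero_surj (A : (Proj (CohB1.polyGrading n R)).Modules) :
    Function.Surjective (QC.tensorSec A (twist (CohB1.polyGrading n R) 0) ⊤) := by
  have he : QC.IsBasisOver (twist (CohB1.polyGrading n R) 0) ⊤
      ((twistZeroIso (CohB1.polyGrading n R)).inv.app ⊤ (1 : Γ(Proj (CohB1.polyGrading n R), ⊤))) :=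
    (QC.isBasisOver_one ⊤).map_of_bijective (twistZeroIso (CohB1.polyGrading n R)).inv
      (fun W _ => QC.app_bijective_of_isIso _ W)
  intro y
  obtain ⟨t, ht⟩ := (QC.bijective_tmul_of_isBasisOver A _ he ⊤ le_rfl).2 y
  exact ⟨t ⊗ₜ _, ht⟩

/-- the inductive step. -/
theorem tensorSec_succ_surj (A : (Proj (CohB1.polyGrading n R)).Modules) [A.IsQuasicoherent]
    (e : ℤ)
    (h1 : Function.Surjective (QC.tensorSec A (twist (CohB1.polyGrading n R) e) ⊤))
    (h2 : Function.Surjective (QC.tensorSec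
      (CohB1.tensorMod A (twist (CohB1.polyGrading n R) e)) (twist (CohB1.polyGrading n R) 1) ⊤)) :
    Function.Surjective (QC.tensorSec A (twist (CohB1.polyGrading n R) (e+1)) ⊤) := by
  have key : ∀ w : Γ(CohB1.tensorMod A (twist (CohB1.polyGrading n R) e), ⊤)
      ⊗[Γ(Proj (CohB1.polyGrading n R), ⊤)] Γ(twist (CohB1.polyGrading n R) 1, ⊤),
      ∃ w', (assocIso n R A e).hom.app ⊤ (QC.tensorSec _ _ ⊤ w) =
        QC.tensorSec A (twist (CohB1.polyGrading n R) (e+1)) ⊤ w' := by
    intro w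
    induction w using TensorProduct.induction_on with
    | zero => exact ⟨0, by rw [map_zero, map_zero, map_zero]⟩
    | add a b ha hb =>
      obtain ⟨a', ha'⟩ := ha
      obtain ⟨b', hb'⟩ := hb
      exact ⟨a' + b', by rw [map_add, map_add, ha', hb', map_add]⟩
    | tmul c t =>
      obtain ⟨v, rfl⟩ := h1 c
      induction v using TensorProduct.induction_on with
      | zero =>
        refine ⟨0, ?_⟩
        rw [map_zero, TensorProduct.zero_tmul, map_zero, map_zero, map_zero]
      | add a b ha hb =>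
        obtain ⟨a', ha'⟩ := ha
        obtain ⟨b', hb'⟩ := hb
        refine ⟨a' + b', ?_⟩
        rw [map_add, TensorProduct.add_tmul, map_add, map_add, ha', hb', map_add]
      | tmul a b =>
        refine ⟨a ⊗ₜ (mulBilin (CohB1.polyGrading n R) e 1 ⊤ b t), ?_⟩
        exact assocIso_tmul n R A e ⊤ a b t
  intro y
  obtain ⟨w, hw⟩ := h2 ((assocIso n R A e).inv.app ⊤ y)
  obtain ⟨w', hw'⟩ := key w
  refine ⟨w', ?_⟩
  rw [← hw', hw, QC.iso_hom_inv_app]

/-- **surjectivity of the multiplication maps** `H^0(F(d)) ⊗ H^0(O(e)) ⟶ H^0(F(d) ⊗ O(e))` for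
an `m`-regular module, `d ≥ m`, `e ≥ 0`. -/
theorem mul_surj_all (F : (Proj (CohB1.polyGrading n R)).Modules) [F.IsQuasicoherent] (m d : ℤ)
    (hd : m ≤ d) (h : IsReg n R F m) (e : ℕ) :
    Function.Surjective (QC.tensorSec (CohB1.tensorMod F (twist (CohB1.polyGrading n R) d))
      (twist (CohB1.polyGrading n R) (e : ℤ)) ⊤) := by
  haveI : (kG n R F d).IsQuasicoherent := kG_qc n R F d
  have hG : IsReg n R (kG n R F d) 0 :=
    isReg_of_le n R _ (m - d) 0 (by omega) (isReg_kG n R F m d h)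
  induction e with
  | zero => exact tensorSec_zero_surj n R _
  | succ e ih =>
    have h2 := mul_surj n R (kG n R F d) (e : ℤ)
      (isReg_of_le n R _ 0 (e : ℤ) (Int.natCast_nonneg e) hG)
    have h3 := tensorSec_succ_surj n R (kG n R F d) (e : ℤ) ih h2
    have h4 : ((e + 1 : ℕ) : ℤ) = (e : ℤ) + 1 := by push_cast; rfl
    rw [h4]
    exact h3

end Groth.Agent.LD.PN
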