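import Groth.Agent.Lib.Lead.PN.H0Lin

/-! # `theta` is linear over the base ring. -/

universe u
open CategoryTheory AlgebraicGeometry TopologicalSpace Opposite AddMonoidAlgebra

namespace Groth.Agent.LD.PN

variable {n : ℕ} {R : Type u} [CommRing R]

open Twist TW

lemma ιL_C_mul (r : R) (b : MvPolynomial (Fin (n+1)) R) :
    ιL n R (MvPolynomial.C r * b) = r • ιL n R b := by
  rw [map_mul]
  have : ιL n R (MvPolynomial.C r) = single 0 r := by
    have := ιL_monomial (n := n) (R := R) 0 r
    rw [map_zero] at this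
    exact this
  rw [this]
  apply coeff_injective
  ext e
  rw [coeff_smul, Finsupp.smul_apply, coeff_single_mul_apply, neg_zero, zero_add, smul_eq_mul]

theorem theta_smul {c c' : Fin (n+1) →₀ ℕ} {v : Fin (n+1)} (hc : c = c' + Finsupp.single v 1)
    (d : ℤ) {V : Opens (ProjectiveSpectrum.top (CohB1.polyGrading n R))}
    (hV : V = ProjectiveSpectrum.basicOpen (CohB1.polyGrading n R) (G c)) (r : R)
    (s t : sectN (𝒜 := (CohB1.polyGrading n R)) d (op V))
    (hst : ∀ x : V, ((t.1 x : twistAt (CohB1.polyGrading n R) d x.1) :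
        Loc (CohB1.polyGrading n R) x.1) =
      Localization.mk (MvPolynomial.C r) 1 * ((s.1 x : twistAt (CohB1.polyGrading n R) d x.1) :
        Loc (CohB1.polyGrading n R) x.1)) :
    theta n R c d hV.le t = r • theta n R c d hV.le s := by
  obtain ⟨ℓ, h, h'⟩ := exists_isRep hc d hV s
  obtain ⟨k, j, b, hb, hj, rfl⟩ := h
  have hH : IsHomog (CohB1.polyGrading n R) (G c) (Finsupp.degree c) d
      (Localization.mk b (gpow (G c) k)) := ⟨k, j, b, hb, hj, rfl⟩
  have hH' : IsHomog (CohB1.polyGrading n R) (G c) (Finsupp.degree c) d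
      (Localization.mk (MvPolynomial.C r * b) (gpow (G c) k)) := by
    refine ⟨k, j, _, ?_, hj, rfl⟩
    rw [← MvPolynomial.smul_eq_C_mul]
    exact Submodule.smul_mem _ r hb
  have hR' : IsRep (G c) hV.le t (Localization.mk (MvPolynomial.C r * b) (gpow (G c) k)) := by
    intro x
    rw [hst x, h' x, toLoc_mk _ x.1 (hV.le x.2) b k (pow_notMem _ x.1 (hV.le x.2) k),
      toLoc_mk _ x.1 (hV.le x.2) _ k (pow_notMem _ x.1 (hV.le x.2) k), Localization.mk_mul]
    congr 1
    exact one_mul _
  rw [theta_eq hc d hV s hH h', theta_eq hc d hV t hH' hR']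
  change lam c (Localization.mk _ (⟨G c ^ k, k, rfl⟩ : Submonoid.powers (G c))) =
    r • lam c (Localization.mk _ (⟨G c ^ k, k, rfl⟩ : Submonoid.powers (G c)))
  rw [lam_mk, lam_mk, ιL_C_mul, smul_mul_assoc]

end Groth.Agent.LD.PN

namespace Groth.Agent.LD.PN

variable {n : ℕ} {R : Type u} [CommRing R]

open Twist TW

/-- pointwise value of the multiplication by a scalar of the base ring on sections of `O(d)`. -/
lemma smulAb_twist_val (d : ℤ) (c : R) (W : (Proj (CohB1.polyGrading n R)).Opens)
    (s : Γ(twist (CohB1.polyGrading n R) d, W)) (x : W) :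
    (((show sectN (𝒜 := CohB1.polyGrading n R) d (op W) from
      (Coh.smulAb (twist (CohB1.polyGrading n R) d)
        (Coh.toGlobal (CohB1.ProjSpace.toSpec n R) c)).hom.app (op W) s).1 x :
      twistAt (CohB1.polyGrading n R) d x.1) : Loc (CohB1.polyGrading n R) x.1) =
    Localization.mk (MvPolynomial.C c) 1 *
      ((show sectN (𝒜 := CohB1.polyGrading n R) d (op W) from s).1 x).1 := by
  have h := smul_sec_val (𝒜 := CohB1.polyGrading n R) (k := d) (W := W)
    (Coh.resTop (Proj (CohB1.polyGrading n R)) (op W)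
      (Coh.toGlobal (CohB1.ProjSpace.toSpec n R) c)) s x
  refine Eq.trans ?_ (h.trans ?_)
  · rfl
  · congr 1
    exact toGlobal_val (n := n) c x.1

end Groth.Agent.LD.PN
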