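import Mathlib

/-! # The Laurent model for the Čech complex of `O(d)` on projective space.

`Lau n R = R[ℤ^{n+1}]` is the ring of Laurent polynomials in `n+1` variables; the polynomial ring
embeds in it (`ιL`).  For an exponent vector `c : Fin (n+1) →₀ ℕ` ("the monomial `g = X^c`") and
`d : ℤ`, `Mset c d` is the set of Laurent polynomials all of whose monomials `X^e` have total degree
`d` and `e j ≥ 0` whenever `c j = 0`: the degree-`d` part of `R[X][1/g]`.  `ρ v` keeps the monomials
`X^e` with `e v ≥ 0` and `e j < 0` for `j < v`. -/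

universe u
open AddMonoidAlgebra

namespace Groth.Agent.LD.PN

variable (n : ℕ) (R : Type u) [CommRing R]

/-- Laurent polynomials in `n+1` variables. -/
abbrev Lau : Type u := AddMonoidAlgebra R (Fin (n+1) →₀ ℤ)

/-- the cast of exponent vectors. -/
noncomputable def castE : (Fin (n+1) →₀ ℕ) →+ (Fin (n+1) →₀ ℤ) :=
  Finsupp.mapRange.addMonoidHom (Nat.castAddMonoidHom ℤ)

variable {n} in
@[simp] lemma castE_apply (e : Fin (n+1) →₀ ℕ) (j : Fin (n+1)) : castE n e j = (e j : ℤ) := by
  simp [castE]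

lemma castE_injective : Function.Injective (castE n) := by
  intro e e' h
  ext j
  have := DFunLike.congr_fun h j
  simpa using this

variable {n} in
lemma degree_castE (e : Fin (n+1) →₀ ℕ) : Finsupp.degree (castE n e) = ((Finsupp.degree e : ℕ) : ℤ) := by
  rw [Finsupp.degree_eq_sum, Finsupp.degree_eq_sum]
  push_cast
  exact Finset.sum_congr rfl fun j _ => castE_apply e j

/-- the embedding of the polynomial ring into the Laurent polynomial ring. -/
noncomputable def ιL : MvPolynomial (Fin (n+1)) R →+* Lau n R :=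
  AddMonoidAlgebra.mapDomainRingHom R (castE n)

lemma ιL_injective : Function.Injective (ιL n R) :=
  AddMonoidAlgebra.mapDomain_injective (castE_injective n)

variable {n R} in
lemma ιL_monomial (e : Fin (n+1) →₀ ℕ) (r : R) :
    ιL n R (MvPolynomial.monomial e r) = single (castE n e) r :=
  AddMonoidAlgebra.mapDomain_single

variable {n R} in
lemma coeff_ιL (b : MvPolynomial (Fin (n+1)) R) (e : Fin (n+1) →₀ ℕ) :
    (ιL n R b).coeff (castE n e) = MvPolynomial.coeff e b := by
  change (mapDomain (castE n) b).coeff (castE n e) = _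
  rw [coeff_mapDomain, Finsupp.mapDomain_apply (castE_injective n)]
  rfl

variable {n R} in
lemma exists_of_coeff_ιL_ne_zero (b : MvPolynomial (Fin (n+1)) R) (e' : Fin (n+1) →₀ ℤ)
    (h : (ιL n R b).coeff e' ≠ 0) : ∃ e, castE n e = e' ∧ MvPolynomial.coeff e b ≠ 0 := by
  by_cases hr : e' ∈ Set.range (castE n)
  · obtain ⟨e, rfl⟩ := hr
    exact ⟨e, rfl, by rwa [coeff_ιL] at h⟩
  · exfalso
    apply h
    change (mapDomain (castE n) b).coeff e' = 0
    rw [coeff_mapDomain]
    exact Finsupp.mapDomain_notin_range _ _ hr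

/-- the Laurent monomial `X^e`. -/
noncomputable abbrev mono (e : Fin (n+1) →₀ ℤ) : Lau n R := single e 1

variable {n R} in
lemma mono_mul_mono (e e' : Fin (n+1) →₀ ℤ) : mono n R e * mono n R e' = mono n R (e + e') := by
  rw [mono, mono, single_mul_single, one_mul]

variable {n R} in
lemma mono_zero : mono n R 0 = 1 := rfl

variable {n R} in
lemma mono_neg_mul (e : Fin (n+1) →₀ ℤ) : mono n R (-e) * mono n R e = 1 := by
  rw [mono_mul_mono, neg_add_cancel, mono_zero]

variable {n R} in
lemma isUnit_mono (e : Fin (n+1) →₀ ℤ) : IsUnit (mono n R e) :=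
  IsUnit.of_mul_eq_one _ (by rw [mul_comm]; exact mono_neg_mul e)

variable {n R} in
lemma coeff_mul_mono (x : Lau n R) (c e : Fin (n+1) →₀ ℤ) :
    (x * mono n R c).coeff e = x.coeff (e - c) := by
  rw [mono, coeff_mul_single_apply, mul_one, sub_eq_add_neg]

/-- the degree-`d` part of the localization of the polynomial ring at the monomial `X^c`. -/
def Mset (c : Fin (n+1) →₀ ℕ) (d : ℤ) : Set (Lau n R) :=
  {ℓ | ∀ e : Fin (n+1) →₀ ℤ, ℓ.coeff e ≠ 0 → Finsupp.degree e = d ∧ ∀ j, c j = 0 → 0 ≤ e j}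

/-- the index set of the `v`-th projection. -/
def Eset (v : Fin (n+1)) (e : Fin (n+1) →₀ ℤ) : Prop := 0 ≤ e v ∧ ∀ j, j < v → e j < 0

open Classical in
/-- the `v`-th projection. -/
noncomputable def ρ (v : Fin (n+1)) : Lau n R →+ Lau n R :=
  (coeffAddEquiv.symm.toAddMonoidHom.comp (Finsupp.filterAddHom (Eset n v))).comp
    coeffAddEquiv.toAddMonoidHom

open Classical in
variable {n R} in
lemma coeff_ρ (v : Fin (n+1)) (ℓ : Lau n R) (e : Fin (n+1) →₀ ℤ) :
    (ρ n R v ℓ).coeff e = if Eset n v e then ℓ.coeff e else 0 := by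
  change (Finsupp.filter (Eset n v) ℓ.coeff) e = _
  rw [Finsupp.filter_apply]

variable {n R} in
/-- (P1) -/
theorem ρ_mem_Mset (v : Fin (n+1)) (c : Fin (n+1) →₀ ℕ) (d : ℤ) (ℓ : Lau n R)
    (h : ℓ ∈ Mset n R (Finsupp.single v 1 + c) d) : ρ n R v ℓ ∈ Mset n R c d := by
  classical
  intro e he
  rw [coeff_ρ] at he
  split_ifs at he with hE
  · obtain ⟨h1, h2⟩ := h e he
    refine ⟨h1, fun j hj => ?_⟩
    by_cases hjv : j = v
    · subst hjv; exact hE.1
    · apply h2 j
      rw [Finsupp.add_apply, hj, Finsupp.single_apply, if_neg (Ne.symm hjv)]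
  · exact absurd rfl he

variable {n R} in
/-- (P2) -/
theorem sum_ρ (c : Fin (n+1) →₀ ℕ) (d : ℤ) (ℓ : Lau n R) (h : ℓ ∈ Mset n R c d)
    (hc : (∃ j, c j = 0) ∨ -((n : ℤ) + 1) < d) : ∑ v, ρ n R v ℓ = ℓ := by
  classical
  apply coeff_injective
  ext e
  rw [coeff_sum, Finsupp.finset_sum_apply]
  simp only [coeff_ρ]
  by_cases he : ℓ.coeff e = 0
  · simp [he]
  · obtain ⟨h1, h2⟩ := h e he
    -- some coordinate of `e` is nonnegative
    have hex : ∃ j, 0 ≤ e j := by
      rcases hc with ⟨j, hj⟩ | hd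
      · exact ⟨j, h2 j hj⟩
      · by_contra hcon
        push Not at hcon
        have : Finsupp.degree e ≤ ∑ _j : Fin (n+1), (-1 : ℤ) := by
          rw [Finsupp.degree_eq_sum]
          exact Finset.sum_le_sum fun j _ => by have := hcon j; omega
        simp at this
        omega
    let S : Finset (Fin (n+1)) := Finset.univ.filter fun j => 0 ≤ e j
    have hS : S.Nonempty := by
      obtain ⟨j, hj⟩ := hex
      exact ⟨j, by simp [S, hj]⟩
    let v0 := S.min' hS
    have hv0 : 0 ≤ e v0 := by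
      have := Finset.min'_mem S hS
      simpa [S] using this
    have hv0' : ∀ j, j < v0 → e j < 0 := by
      intro j hj
      by_contra hcon
      push Not at hcon
      have : j ∈ S := by simp [S, hcon]
      exact absurd (Finset.min'_le S j this) (not_le.2 hj)
    rw [Finset.sum_eq_single v0]
    · rw [if_pos ⟨hv0, hv0'⟩]
    · intro v _ hv
      rw [if_neg]
      rintro ⟨hv1, hv2⟩
      rcases lt_trichotomy v v0 with hlt | heq | hgt
      · exact absurd hv1 (not_le.2 (hv0' v hlt))
      · exact hv heq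
      · exact absurd hv0 (not_le.2 (hv2 v0 hgt))
    · intro h; exact absurd (Finset.mem_univ _) h

variable {n R} in
/-- (A) -/
theorem mul_mono_mem_Mset (c : Fin (n+1) →₀ ℕ) (d : ℤ) (k j : ℕ)
    (b : MvPolynomial (Fin (n+1)) R) (hb : b.IsHomogeneous j)
    (hj : (j : ℤ) = k * (Finsupp.degree c : ℕ) + d) :
    ιL n R b * mono n R (-(k • castE n c)) ∈ Mset n R c d := by
  intro e he
  rw [coeff_mul_mono] at he
  obtain ⟨e0, he0, hne⟩ := exists_of_coeff_ιL_ne_zero b _ he
  have hdeg : Finsupp.degree e0 = j := by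
    by_contra hcon
    exact hne (hb.coeff_eq_zero hcon)
  have hee : e = castE n e0 - k • castE n c := by
    rw [he0]; abel
  constructor
  · rw [hee, map_sub, map_nsmul, degree_castE, degree_castE, hdeg, hj]
    simp
  · intro i hi
    rw [hee, Finsupp.sub_apply, Finsupp.smul_apply, castE_apply, castE_apply, hi]
    simp

variable {n R} in
/-- (B) -/
theorem exists_of_mem_Mset (c : Fin (n+1) →₀ ℕ) (hc : 0 < Finsupp.degree c) (d : ℤ) (ℓ : Lau n R)
    (h : ℓ ∈ Mset n R c d) :
    ∃ (k j : ℕ) (b : MvPolynomial (Fin (n+1)) R), b.IsHomogeneous j ∧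
      (j : ℤ) = k * (Finsupp.degree c : ℕ) + d ∧ ιL n R b * mono n R (-(k • castE n c)) = ℓ := by
  classical
  -- a bound for the negative exponents
  obtain ⟨k, hk, hkd⟩ : ∃ k : ℕ, (∀ e : Fin (n+1) →₀ ℤ, ℓ.coeff e ≠ 0 → ∀ i, -e i ≤ k) ∧ -d ≤ k := by
    refine ⟨(ℓ.coeff.support.sup fun e => Finset.univ.sup fun i => (-e i).toNat) + (-d).toNat,
      ?_, ?_⟩
    · intro e he i
      have h1 : (-e i).toNat ≤ Finset.univ.sup fun i => (-e i).toNat :=
        Finset.le_sup (f := fun i => (-e i).toNat) (Finset.mem_univ i)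
      have h2 : (Finset.univ.sup fun i => (-e i).toNat) ≤
          ℓ.coeff.support.sup fun e => Finset.univ.sup fun i => (-e i).toNat :=
        Finset.le_sup (f := fun e : Fin (n+1) →₀ ℤ => Finset.univ.sup fun i => (-e i).toNat)
          (Finsupp.mem_support_iff.2 he)
      have h3 := Int.self_le_toNat (-e i)
      have h4 : ((-e i).toNat : ℤ) ≤ _ := Int.ofNat_le.2 (h1.trans h2)
      push_cast
      have h5 : (0 : ℤ) ≤ ((-d).toNat : ℤ) := Int.natCast_nonneg _
      linarith
    · have h3 := Int.self_le_toNat (-d)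
      push_cast
      have h5 : (0 : ℤ) ≤ ((ℓ.coeff.support.sup fun e => Finset.univ.sup fun i => (-e i).toNat : ℕ) : ℤ) :=
        Int.natCast_nonneg _
      linarith
  let ℓ' : Lau n R := ℓ * mono n R (k • castE n c)
  have hℓ' : ∀ e : Fin (n+1) →₀ ℤ, ℓ'.coeff e ≠ 0 → e ∈ Set.range (castE n) ∧
      Finsupp.degree e = d + k * (Finsupp.degree c : ℕ) := by
    intro e he
    rw [coeff_mul_mono] at he
    obtain ⟨h1, h2⟩ := h _ he
    have hk' := hk _ he
    constructor
    · refine ⟨Finsupp.equivFunOnFinite.symm fun i => (e i).toNat, ?_⟩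
      ext i
      rw [castE_apply]
      change (((e i).toNat : ℕ) : ℤ) = e i
      apply Int.toNat_of_nonneg
      by_cases hci : c i = 0
      · have := h2 i hci
        rw [Finsupp.sub_apply, Finsupp.smul_apply, castE_apply, hci] at this
        simpa using this
      · have := hk' i
        rw [Finsupp.sub_apply, Finsupp.smul_apply, castE_apply] at this
        have hc1 : (1 : ℤ) ≤ (c i : ℤ) := by
          have : 1 ≤ c i := Nat.one_le_iff_ne_zero.2 hci
          exact_mod_cast this
        have : (k : ℤ) ≤ k • (c i : ℤ) := by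
          rw [nsmul_eq_mul]
          nlinarith
        linarith
    · rw [map_sub, map_nsmul, degree_castE] at h1
      rw [← h1]
      simp
  -- the polynomial
  let b0 : (Fin (n+1) →₀ ℕ) →₀ R :=
    Finsupp.comapDomain (castE n) ℓ'.coeff ((castE_injective n).injOn)
  let b : MvPolynomial (Fin (n+1)) R := AddMonoidAlgebra.ofCoeff b0
  have hb : ιL n R b = ℓ' := by
    apply coeff_injective
    change (mapDomain (castE n) b).coeff = _
    rw [coeff_mapDomain]
    apply Finsupp.mapDomain_comapDomain _ (castE_injective n)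
    intro e he
    exact (hℓ' e (Finsupp.mem_support_iff.1 he)).1
  have hnn : (0 : ℤ) ≤ k * (Finsupp.degree c : ℕ) + d := by
    have h1 : (1 : ℤ) ≤ ((Finsupp.degree c : ℕ) : ℤ) := by exact_mod_cast hc
    have h2 : (0 : ℤ) ≤ (k : ℤ) := Int.natCast_nonneg _
    nlinarith
  refine ⟨k, (k * (Finsupp.degree c : ℕ) + d).toNat, b, ?_, Int.toNat_of_nonneg hnn, ?_⟩
  · intro e he
    have h1 : ℓ'.coeff (castE n e) ≠ 0 := by rwa [← hb, coeff_ιL]
    have h2 := (hℓ' _ h1).2
    rw [degree_castE] at h2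
    have h3 : ((Finsupp.degree e : ℕ) : ℤ) = ((k * (Finsupp.degree c : ℕ) + d).toNat : ℤ) := by
      rw [Int.toNat_of_nonneg hnn, h2]; ring
    have h4 : Finsupp.weight (1 : Fin (n+1) → ℕ) e = Finsupp.degree e := by
      rw [Finsupp.degree_eq_weight_one]; rfl
    change Finsupp.weight 1 e = _
    rw [h4]
    exact_mod_cast h3
  · rw [hb]
    change ℓ * mono n R (k • castE n c) * mono n R (-(k • castE n c)) = ℓ
    rw [mul_assoc, mul_comm (mono n R (k • castE n c)), mono_neg_mul, mul_one]

end Groth.Agent.LD.PN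

namespace Groth.Agent.LD.PN

open AddMonoidAlgebra

variable {n : ℕ} {R : Type u} [CommRing R]

/-- a Laurent polynomial with nonnegative exponents, homogeneous of degree `d`, is a homogeneous
polynomial. -/
theorem exists_ιL_eq (ℓ : Lau n R) (d : ℕ)
    (h : ∀ e : Fin (n+1) →₀ ℤ, ℓ.coeff e ≠ 0 → Finsupp.degree e = (d : ℤ) ∧ ∀ k, 0 ≤ e k) :
    ∃ b : MvPolynomial (Fin (n+1)) R, b.IsHomogeneous d ∧ ιL n R b = ℓ := by
  classical
  have hr : ∀ e : Fin (n+1) →₀ ℤ, ℓ.coeff e ≠ 0 → e ∈ Set.range (castE n) := by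
    intro e he
    refine ⟨Finsupp.equivFunOnFinite.symm fun i => (e i).toNat, ?_⟩
    ext i
    rw [castE_apply]
    change (((e i).toNat : ℕ) : ℤ) = e i
    exact Int.toNat_of_nonneg ((h e he).2 i)
  let b0 : (Fin (n+1) →₀ ℕ) →₀ R :=
    Finsupp.comapDomain (castE n) ℓ.coeff ((castE_injective n).injOn)
  let b : MvPolynomial (Fin (n+1)) R := AddMonoidAlgebra.ofCoeff b0
  have hb : ιL n R b = ℓ := by
    apply coeff_injective
    change (mapDomain (castE n) b).coeff = _
    rw [coeff_mapDomain]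
    apply Finsupp.mapDomain_comapDomain _ (castE_injective n)
    intro e he
    exact hr e (Finsupp.mem_support_iff.1 he)
  refine ⟨b, ?_, hb⟩
  intro e he
  have h1 : ℓ.coeff (castE n e) ≠ 0 := by rwa [← hb, coeff_ιL]
  have h2 := (h _ h1).1
  rw [degree_castE] at h2
  have h4 : Finsupp.weight (1 : Fin (n+1) → ℕ) e = Finsupp.degree e := by
    rw [Finsupp.degree_eq_weight_one]; rfl
  change Finsupp.weight 1 e = _
  rw [h4]
  exact_mod_cast h2

end Groth.Agent.LD.PN
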