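import Groth.Agent.Lib.Lead.PN.H0Lin

/-! # Global functions on projective space. -/

universe u
open CategoryTheory AlgebraicGeometry TopologicalSpace Opposite Limits

namespace Groth.Agent.LD.PN

variable (n : ℕ) (R : Type u) [CommRing R]

open HomogeneousLocalization Twist TW

/-- the constant polynomial as an element of degree zero. -/
noncomputable def constPoly (r : R) : CohB1.polyGrading n R 0 :=
  ⟨MvPolynomial.C r, (MvPolynomial.mem_homogeneousSubmodule _ _).2 (MvPolynomial.isHomogeneous_C _ r)⟩

lemma ofO_toGlobal (r : R) :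
    ofO (𝒜 := CohB1.polyGrading n R) (op ⊤) (Coh.toGlobal (CohB1.ProjSpace.toSpec n R) r) =
      globalOf (CohB1.polyGrading n R) (constPoly n R r) := by
  apply sectN_ext
  intro y
  rw [ofO_val]
  exact toGlobal_val (n := n) r y.1

theorem toGlobal_bijective :
    Function.Bijective (Coh.toGlobal (CohB1.ProjSpace.toSpec n R)) := by
  constructor
  · intro r r' h
    have h1 : globalOf (CohB1.polyGrading n R) (constPoly n R r) =
        globalOf (CohB1.polyGrading n R) (constPoly n R r') := by
      rw [← ofO_toGlobal, ← ofO_toGlobal, h]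
    have h2 := globalOf_injective 0 h1
    exact MvPolynomial.C_injective _ _ (congrArg Subtype.val h2)
  · intro t
    obtain ⟨b, hb⟩ := globalOf_surjective (n := n) (R := R) 0
      (ofO (𝒜 := CohB1.polyGrading n R) (op ⊤) t)
    have hb0 : b.1.IsHomogeneous 0 := (MvPolynomial.mem_homogeneousSubmodule _ _).1 b.2
    obtain ⟨r, hr⟩ : ∃ r, b.1 = MvPolynomial.C r :=
      ⟨_, (MvPolynomial.totalDegree_eq_zero_iff_eq_C).1
        ((MvPolynomial.totalDegree_zero_iff_isHomogeneous _).2 hb0)⟩
    refine ⟨r, ?_⟩
    apply ofO_injective (𝒜 := CohB1.polyGrading n R) (op ⊤)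
    rw [ofO_toGlobal, ← hb]
    congr 1
    exact Subtype.ext hr.symm

/-- `R ≅ Γ(P^n_R, O)`. -/
theorem isIso_toSpec_appTop : IsIso (CohB1.ProjSpace.toSpec n R).appTop := by
  have h : Function.Bijective ((CohB1.ProjSpace.toSpec n R).appTop.hom.comp
      (Scheme.ΓSpecIso (CommRingCat.of R)).inv.hom) := toGlobal_bijective n R
  have h2 : Function.Bijective (Scheme.ΓSpecIso (CommRingCat.of R)).inv.hom :=
    ConcreteCategory.bijective_of_isIso (Scheme.ΓSpecIso (CommRingCat.of R)).inv
  have h3 : Function.Bijective (CohB1.ProjSpace.toSpec n R).appTop.hom := by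
    rw [RingHom.coe_comp] at h
    exact (Function.Bijective.of_comp_iff _ h2).1 h
  exact (ConcreteCategory.isIso_iff_bijective _).2 h3

end Groth.Agent.LD.PN
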