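import Groth.Agent.Lib.Lead.QC.TwistExt
import Groth.Agent.Lib.Lead.PN.SerreVanish
import Groth.Agent.Lib.Lead.TW.Zero

/-! # `Ext` groups out of the twisting sheaves on projective space. -/

universe u
open CategoryTheory AlgebraicGeometry TopologicalSpace Opposite Limits Abelian

namespace Groth.Agent.LD.PN

variable (n : ℕ) (R : Type u) [CommRing R]

open Twist TW CH

/-- `O(a) ⊗ O(-a) ≅ O`. -/
noncomputable def twistInvIso (a : ℤ) :
    CohB1.tensorMod (X := Proj (CohB1.polyGrading n R)) (twist (CohB1.polyGrading n R) a)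
      (twist (CohB1.polyGrading n R) (-a)) ≅ QC.unitMod (Proj (CohB1.polyGrading n R)) :=
  twistMulIso n R a (-a) 0 (by ring) ≪≫ twistZeroIso (CohB1.polyGrading n R)

/-- **`Ext^i(O(a), G) ≃ H^i(G(-a))`** on projective space, for every module `G`. -/
theorem nonempty_ext_twist_equiv [HasExt.{u} (Proj (CohB1.polyGrading n R)).Modules] (a : ℤ)
    (G : (Proj (CohB1.polyGrading n R)).Modules) (i : ℕ) :
    Nonempty (Ext (C := (Proj (CohB1.polyGrading n R)).Modules) (twist (CohB1.polyGrading n R) a) G i ≃+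
      Coh.HH (Proj (CohB1.polyGrading n R)) (tw n R G (-a)) i) :=
  QC.nonempty_ext_invertible_equiv _ _ (twistInvIso n R a) G i

/-- `Ext^i(O(a), O(b)) ≃ H^i(O(b - a))`. -/
theorem nonempty_ext_twist_twist_equiv [HasExt.{u} (Proj (CohB1.polyGrading n R)).Modules]
    (a b : ℤ) (i : ℕ) :
    Nonempty (Ext (C := (Proj (CohB1.polyGrading n R)).Modules) (twist (CohB1.polyGrading n R) a)
      (twist (CohB1.polyGrading n R) b) i ≃+
      Coh.HH (Proj (CohB1.polyGrading n R)) (twist (CohB1.polyGrading n R) (b - a)) i) := by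
  obtain ⟨e⟩ := nonempty_ext_twist_equiv n R a (twist (CohB1.polyGrading n R) b) i
  have h1 : Nonempty (Coh.HH (Proj (CohB1.polyGrading n R))
      (tw n R (twist (CohB1.polyGrading n R) b) (-a)) i ≃+
      Coh.HH (Proj (CohB1.polyGrading n R)) (twist (CohB1.polyGrading n R) (b - a)) i) := by
    let φ : tw n R (twist (CohB1.polyGrading n R) b) (-a) ≅
        (twist (CohB1.polyGrading n R) (b - a) : (Proj (CohB1.polyGrading n R)).Modules) :=
      twistMulIso n R b (-a) (b - a) (by ring)
    refine ⟨{ toFun := CL.HHmapZ φ.hom i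
              invFun := CL.HHmapZ φ.inv i
              left_inv := fun x => ?_
              right_inv := fun x => ?_
              map_add' := fun x y => map_add _ x y }⟩
    · rw [← CL.HHmapZ_comp, φ.hom_inv_id, CL.HHmapZ_id]
    · rw [← CL.HHmapZ_comp, φ.inv_hom_id, CL.HHmapZ_id]
  obtain ⟨e'⟩ := h1
  exact ⟨e.trans e'⟩

/-- vanishing of `Ext^i(O(a), O(b))` outside the two extreme ranges. -/
theorem subsingleton_ext_twist_twist [HasExt.{u} (Proj (CohB1.polyGrading n R)).Modules]
    (a b : ℤ) (i : ℕ) (h₀ : ¬ (i = 0 ∧ a ≤ b)) (hn : ¬ (i = n ∧ b - a ≤ -((n : ℤ) + 1))) :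
    Subsingleton (Ext (C := (Proj (CohB1.polyGrading n R)).Modules) (twist (CohB1.polyGrading n R) a)
      (twist (CohB1.polyGrading n R) b) i) := by
  obtain ⟨e⟩ := nonempty_ext_twist_twist_equiv n R a b i
  haveI := subsingleton_HH_twist_all n R (b - a) i
    (fun h => h₀ ⟨h.1, by have := h.2; omega⟩) hn
  exact e.toEquiv.subsingleton

end Groth.Agent.LD.PN
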