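import Groth.Agent.Lib.Lead.PN.Rep

/-! # Sections of `O(d)` over `D₊(g)`: existence and uniqueness of homogeneous representatives. -/

universe u
open CategoryTheory AlgebraicGeometry TopologicalSpace Opposite

namespace Groth.Agent.LD.PN

variable {R A : Type u} [CommRing R] [CommRing A] [Algebra R A] {𝒜 : ℕ → Submodule R A}
  [GradedAlgebra 𝒜]

open Twist TW HomogeneousLocalization

/-- pointwise values of `awayToSection`. -/
lemma awayToSection_val (g : A) (z : Away 𝒜 g) (x : ProjectiveSpectrum.basicOpen 𝒜 g) :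
    (((show O (𝒜 := 𝒜) (op (ProjectiveSpectrum.basicOpen 𝒜 g)) from
      (Proj.awayToSection 𝒜 g).hom z).1 x).val : Loc 𝒜 x.1) = toLoc g x.1 x.2 z.val :=
  ProjectiveSpectrum.Proj.awayToSection_apply 𝒜 g z x

lemma awayToSection_bijective {g : A} {m : ℕ} (hg : g ∈ 𝒜 m) (hm : 0 < m) :
    Function.Bijective (Proj.awayToSection 𝒜 g).hom := by
  have : IsIso (Proj.awayToSection 𝒜 g) := by
    rw [← Proj.basicOpenIsoAway_hom 𝒜 g hg hm]; infer_instance
  exact ConcreteCategory.bijective_of_isIso (Proj.awayToSection 𝒜 g)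

lemma le_basicOpen_pow' {f : A} {V : Opens (ProjectiveSpectrum.top 𝒜)}
    (hV : V ≤ ProjectiveSpectrum.basicOpen 𝒜 f) (e : ℕ) :
    V ≤ ProjectiveSpectrum.basicOpen 𝒜 (f ^ e) := by
  rcases Nat.eq_zero_or_pos e with rfl | he
  · rw [pow_zero, ProjectiveSpectrum.basicOpen_one]; exact le_top
  · rw [ProjectiveSpectrum.basicOpen_pow 𝒜 f e he]; exact hV

lemma pow_mem_one {f : A} (hf : f ∈ 𝒜 1) (e : ℕ) : f ^ e ∈ 𝒜 e := by
  have := SetLike.pow_mem_graded e hf
  simpa using this

section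

variable {g f g' : A} {m' : ℕ} (hf : f ∈ 𝒜 1) (hg' : g' ∈ 𝒜 m') (hg : g = g' * f)

include hf hg' hg in
lemma g_mem : g ∈ 𝒜 (m' + 1) := hg ▸ SetLike.mul_mem_graded hg' hf

include hg in
lemma basicOpen_le_f : ProjectiveSpectrum.basicOpen 𝒜 g ≤ ProjectiveSpectrum.basicOpen 𝒜 f := by
  intro x hx hfx
  apply hx
  rw [hg]
  exact Ideal.mul_mem_left _ _ hfx

/-- sections of `O(0)` over `D₊(g)` are represented by elements of `(A_g)₀`. -/
lemma exists_away_of_sec_zero {g : A} {m : ℕ} (hgm : g ∈ 𝒜 m) (hm : 0 < m)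
    (t : sectN (𝒜 := 𝒜) 0 (op (ProjectiveSpectrum.basicOpen 𝒜 g))) :
    ∃ (k : ℕ) (a : A), a ∈ 𝒜 (k • m) ∧ ∀ x : ProjectiveSpectrum.basicOpen 𝒜 g,
      ((t.1 x : twistAt 𝒜 0 x.1) : Loc 𝒜 x.1) =
        Localization.mk a ⟨g ^ k, pow_notMem g x.1 x.2 k⟩ := by
  obtain ⟨c, hc⟩ := ofO_surjective (op (ProjectiveSpectrum.basicOpen 𝒜 g)) t
  obtain ⟨z, hz⟩ := (awayToSection_bijective hgm hm).2 c
  obtain ⟨k, a, ha, rfl⟩ := Away.mk_surjective 𝒜 hgm z
  refine ⟨k, a, ha, fun x => ?_⟩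
  rw [← hc, ofO_val, ← hz]
  refine (awayToSection_val g _ x).trans ?_
  rw [Away.val_mk]
  exact toLoc_mk g x.1 x.2 a k _

include hf hg' hg in
/-- **existence** of homogeneous representatives. -/
theorem exists_rep (d : ℤ) {V : Opens (ProjectiveSpectrum.top 𝒜)}
    (hV : V = ProjectiveSpectrum.basicOpen 𝒜 g) (s : sectN (𝒜 := 𝒜) d (op V)) :
    ∃ ℓ, IsHomog 𝒜 g (m' + 1) d ℓ ∧ IsRep g hV.le s ℓ := by
  subst hV
  have hgm := g_mem hf hg' hg
  have hVf := basicOpen_le_f (𝒜 := 𝒜) hg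
  obtain ⟨e, rfl | rfl⟩ := Int.eq_nat_or_neg d
  · -- nonnegative twist
    let a : 𝒜 e := ⟨f ^ e, pow_mem_one hf e⟩
    obtain ⟨t, ht⟩ := (mulSec_globalOf_bijective a 0 (le_basicOpen_pow' hVf e)).2
      (castSec (by simp) s)
    obtain ⟨k, a0, ha0, hk⟩ := exists_away_of_sec_zero hgm (Nat.succ_pos m') t
    refine ⟨Localization.mk (f ^ e * a0) (gpow g k),
      ⟨k, e + k • (m' + 1), f ^ e * a0, SetLike.mul_mem_graded (pow_mem_one hf e) ha0,
        by simp only [smul_eq_mul, Nat.cast_add, Nat.cast_mul, Nat.cast_one]; ring, rfl⟩,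
      fun x => ?_⟩
    rw [toLoc_mk g x.1 x.2 _ k (pow_notMem g x.1 x.2 k)]
    have h1 := congrArg (fun w : sectN (𝒜 := 𝒜) ((e : ℤ) + 0) (op _) =>
      ((w.1 x).1 : Loc 𝒜 x.1)) ht
    simp only [mulSec_apply, globalOf_val, castSec_val] at h1
    rw [← h1, hk x, Localization.mk_mul]
    congr 1
    exact Subtype.ext (one_mul _)
  · -- negative twist
    let a : 𝒜 e := ⟨f ^ e, pow_mem_one hf e⟩
    let t : sectN (𝒜 := 𝒜) 0 (op (ProjectiveSpectrum.basicOpen 𝒜 g)) :=
      castSec (by ring) (mulSec (n := -(e : ℤ)) le_top (globalOf 𝒜 a) s)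
    obtain ⟨k, a0, ha0, hk⟩ := exists_away_of_sec_zero hgm (Nat.succ_pos m') t
    refine ⟨Localization.mk (g' ^ e * a0) (gpow g (e + k)),
      ⟨e + k, e • m' + k • (m' + 1), g' ^ e * a0,
        SetLike.mul_mem_graded (SetLike.pow_mem_graded e hg') ha0,
        by simp only [smul_eq_mul, Nat.cast_add, Nat.cast_mul, Nat.cast_one]; ring, rfl⟩,
      fun x => ?_⟩
    rw [toLoc_mk g x.1 x.2 _ (e + k) (pow_notMem g x.1 x.2 (e + k))]
    have h1 := hk x
    change ((castSec _ (mulSec le_top (globalOf 𝒜 a) s)).1 x).1 = _ at h1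
    rw [castSec_val, mulSec_apply, globalOf_val] at h1
    have hfx : f ^ e ∉ x.1.asHomogeneousIdeal := le_basicOpen_pow' hVf e x.2
    have hu := mk_mul_mk_inv (x := x.1) (f ^ e) hfx
      (fun h => x.1.isPrime.ne_top ((Ideal.eq_top_iff_one _).mpr h))
    calc ((s.1 x).1 : Loc 𝒜 x.1)
        = (Localization.mk 1 ⟨f ^ e, hfx⟩ : Loc 𝒜 x.1) *
            (Localization.mk (f ^ e) ⟨1, _⟩ * (s.1 x).1) := by
          rw [← mul_assoc, mul_comm (Localization.mk 1 _), hu, one_mul]
      _ = (Localization.mk 1 ⟨f ^ e, hfx⟩ : Loc 𝒜 x.1) *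
            Localization.mk a0 ⟨g ^ k, pow_notMem g x.1 x.2 k⟩ := by rw [h1]
      _ = _ := by
          rw [Localization.mk_mul, Localization.mk_eq_mk_iff]
          apply Localization.r_of_eq
          simp only [Submonoid.coe_mul]
          rw [hg]
          ring

/-- an element of `(A_g)₀` vanishing pointwise is zero. -/
lemma away_eq_zero_of_pointwise {g : A} {m : ℕ} (hgm : g ∈ 𝒜 m) (hm : 0 < m) (z : Away 𝒜 g)
    (hz : ∀ x : ProjectiveSpectrum.basicOpen 𝒜 g, toLoc g x.1 x.2 z.val = 0) : z = 0 := by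
  apply (awayToSection_bijective hgm hm).1
  rw [map_zero]
  apply Subtype.ext
  funext x
  apply HomogeneousLocalization.val_injective
  refine (awayToSection_val g z x).trans ?_
  rw [hz x]
  exact (HomogeneousLocalization.val_zero).symm

include hf hg' hg in
/-- a homogeneous element of `A_g` vanishing pointwise on `D₊(g)` is zero. -/
theorem eq_zero_of_pointwise {d : ℤ} {ℓ : Localization.Away g} (h : IsHomog 𝒜 g (m' + 1) d ℓ)
    (hz : ∀ x : ProjectiveSpectrum.basicOpen 𝒜 g, toLoc g x.1 x.2 ℓ = 0) : ℓ = 0 := by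
  have hgm := g_mem hf hg' hg
  obtain ⟨K, j, B, hB, hj, rfl⟩ := h
  obtain ⟨e, rfl | rfl⟩ := Int.eq_nat_or_neg d
  · have hmem : B * g' ^ e ∈ 𝒜 ((K + e) • (m' + 1)) := by
      have h1 : B * g' ^ e ∈ 𝒜 (j + e • m') :=
        SetLike.mul_mem_graded hB (SetLike.pow_mem_graded e hg')
      have e1 : j + e • m' = (K + e) • (m' + 1) := by
        have : ((j + e • m' : ℕ) : ℤ) = (((K + e) • (m' + 1) : ℕ) : ℤ) := by
          simp only [smul_eq_mul, Nat.cast_add, Nat.cast_mul, Nat.cast_one]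
          rw [hj]; push_cast; ring
        exact_mod_cast this
      rwa [e1] at h1
    have hz0 := away_eq_zero_of_pointwise hgm (Nat.succ_pos m') (Away.mk 𝒜 hgm (K + e) _ hmem)
      (fun x => by
        rw [Away.val_mk]
        have h1 := hz x
        rw [toLoc_mk g x.1 x.2 B K (pow_notMem g x.1 x.2 K)] at h1
        change toLoc g x.1 x.2 (Localization.mk (B * g' ^ e) (gpow g (K + e))) = 0
        rw [toLoc_mk g x.1 x.2 _ (K + e) (pow_notMem g x.1 x.2 (K + e))]
        have h2 : (Localization.mk (B * g' ^ e) ⟨g ^ (K + e), pow_notMem g x.1 x.2 (K + e)⟩ :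
            Loc 𝒜 x.1) = Localization.mk B ⟨g ^ K, pow_notMem g x.1 x.2 K⟩ *
              Localization.mk (g' ^ e) ⟨g ^ e, pow_notMem g x.1 x.2 e⟩ := by
          rw [Localization.mk_mul]
          congr 1
          exact Subtype.ext (pow_add g K e)
        rw [h2, h1, zero_mul])
    have h3 := congrArg HomogeneousLocalization.val hz0
    rw [Away.val_mk, HomogeneousLocalization.val_zero] at h3
    have h4 : Localization.mk B (gpow g K) =
        Localization.mk (B * g' ^ e) (gpow g (K + e)) * Localization.mk (f ^ e) 1 := by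
      rw [Localization.mk_mul, Localization.mk_eq_mk_iff]
      apply Localization.r_of_eq
      simp only [Submonoid.coe_mul, gpow, Submonoid.coe_one]
      rw [hg]
      ring
    rw [h4]
    change Localization.mk (B * g' ^ e) (gpow g (K + e)) = 0 at h3
    rw [h3, zero_mul]
  · have hmem : B * f ^ e ∈ 𝒜 (K • (m' + 1)) := by
      have h1 : B * f ^ e ∈ 𝒜 (j + e) := SetLike.mul_mem_graded hB (pow_mem_one hf e)
      have e1 : j + e = K • (m' + 1) := by
        have : ((j + e : ℕ) : ℤ) = ((K • (m' + 1) : ℕ) : ℤ) := by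
          simp only [smul_eq_mul, Nat.cast_add, Nat.cast_mul, Nat.cast_one]
          rw [hj]; push_cast; ring
        exact_mod_cast this
      rwa [e1] at h1
    have hz0 := away_eq_zero_of_pointwise hgm (Nat.succ_pos m') (Away.mk 𝒜 hgm K _ hmem)
      (fun x => by
        rw [Away.val_mk]
        have h1 := hz x
        rw [toLoc_mk g x.1 x.2 B K (pow_notMem g x.1 x.2 K)] at h1
        change toLoc g x.1 x.2 (Localization.mk (B * f ^ e) (gpow g K)) = 0
        rw [toLoc_mk g x.1 x.2 _ K (pow_notMem g x.1 x.2 K)]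
        have h2 : (Localization.mk (B * f ^ e) ⟨g ^ K, pow_notMem g x.1 x.2 K⟩ :
            Loc 𝒜 x.1) = Localization.mk B ⟨g ^ K, pow_notMem g x.1 x.2 K⟩ *
              Localization.mk (f ^ e) 1 := by
          rw [Localization.mk_mul]
          congr 1
          exact Subtype.ext (mul_one _).symm
        rw [h2, h1, zero_mul])
    have h3 := congrArg HomogeneousLocalization.val hz0
    rw [Away.val_mk, HomogeneousLocalization.val_zero] at h3
    have h4 : Localization.mk B (gpow g K) =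
        Localization.mk (B * f ^ e) (gpow g K) * Localization.mk (g' ^ e) (gpow g e) := by
      rw [Localization.mk_mul, Localization.mk_eq_mk_iff]
      apply Localization.r_of_eq
      simp only [Submonoid.coe_mul, gpow]
      rw [hg]
      ring
    rw [h4]
    change Localization.mk (B * f ^ e) (gpow g K) = 0 at h3
    rw [h3, zero_mul]

include hf hg' hg in
/-- **uniqueness** of homogeneous representatives. -/
theorem rep_unique {d : ℤ} {ℓ ℓ' : Localization.Away g} (h : IsHomog 𝒜 g (m' + 1) d ℓ)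
    (h' : IsHomog 𝒜 g (m' + 1) d ℓ')
    (heq : ∀ x : ProjectiveSpectrum.basicOpen 𝒜 g, toLoc g x.1 x.2 ℓ = toLoc g x.1 x.2 ℓ') :
    ℓ = ℓ' := by
  rw [← sub_eq_zero]
  apply eq_zero_of_pointwise hf hg' hg (h.sub (g_mem hf hg' hg) h')
  intro x
  rw [map_sub, heq x, sub_self]

end

end Groth.Agent.LD.PN
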