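import Mathlib
import Groth.Agent.Lib.Lead.PN.AmpleSerreRel
import Groth.Agent.Lib.Lead.SC.AmpleCrit
import Groth.Agent.Lib.Lead.QC.SerreSupp
import Groth.Agent.Lib.Lead.QC.SubExtRestrict
open AlgebraicGeometry CategoryTheory Limits TopologicalSpace Opposite

/-!
Relative Serre vanishing (module version) and the relative cohomological criterion of ampleness.
-/

namespace Groth.Agent.LD.PN.AmS

universe u

open Groth.Agent.LD Groth.Agent.LD.QC Groth.Agent.LD.QCQS Groth.Agent.LD.RP Twist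

variable {X S : Scheme.{u}} (f : X ⟶ S)

/-- core of relative Serre vanishing: uniform vanishing over a finite affine cover. -/
theorem relative_serre_vanishing_cover [IsProper f] [IsNoetherian S] (L : X.Modules)
    (hL : PicF.IsInvertible L)
    (ha : ∀ W : S.Opens, IsAffineOpen W → CohB1.IsAmple (L.restrict (f ⁻¹ᵁ W).ι))
    (M : X.Modules) (hM : Coh.IsCoh M) :
    ∃ n₀ : ℕ, ∀ n : ℕ, n₀ ≤ n → ∀ p : ℕ, 0 < p → ∀ y : S, ∃ W : S.Opens, IsAffineOpen W ∧ y ∈ W ∧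
      Subsingleton (Coh.HH (f ⁻¹ᵁ W).toScheme
        ((CohB1.tensorMod M (CohB1.tensorPow L n)).restrict (f ⁻¹ᵁ W).ι) p) := by
  classical
  have hloc : ∀ W : S.Opens, IsAffineOpen W → ∃ n₀ : ℕ, ∀ n : ℕ, n₀ ≤ n → ∀ p : ℕ, 0 < p →
      Subsingleton (Coh.HH (f ⁻¹ᵁ W).toScheme
        ((CohB1.tensorMod M (CohB1.tensorPow L n)).restrict (f ⁻¹ᵁ W).ι) p) :=
    fun W hW => serre_vanishing_preimage f L hL M hM W hW (ha W hW)
  choose! nW hnW using hloc
  have haff : ∀ x : S, ∃ W : S.Opens, IsAffineOpen W ∧ x ∈ W := by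
    intro x
    obtain ⟨_, ⟨W, hW, rfl⟩, hxW, -⟩ := (Scheme.isBasis_affineOpens S).exists_subset_of_mem_open
      (Set.mem_univ x) isOpen_univ
    exact ⟨W, hW, hxW⟩
  choose Wx hWx hxWx using haff
  obtain ⟨t, ht⟩ := CompactSpace.elim_nhds_subcover (fun x => ((Wx x : S.Opens) : Set S))
    (fun x => (Wx x).2.mem_nhds (hxWx x))
  refine ⟨t.sup (fun x => nW (Wx x)), fun n hn p hp y => ?_⟩
  have hy : y ∈ ⋃ x ∈ t, ((Wx x : S.Opens) : Set S) := by rw [ht]; trivial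
  obtain ⟨x, hxt, hyx⟩ := Set.mem_iUnion₂.mp hy
  exact ⟨Wx x, hWx x, hyx, hnW (Wx x) (hWx x) n
    ((Finset.le_sup (f := fun x => nW (Wx x)) hxt).trans hn) p hp⟩

/-- relative Serre vanishing, module version. -/
theorem relative_serre_vanishing_mod [HasInjectiveResolutions X.Modules] [IsProper f]
    [IsNoetherian S] (L : X.Modules) (hL : PicF.IsInvertible L)
    (ha : ∀ W : S.Opens, IsAffineOpen W → CohB1.IsAmple (L.restrict (f ⁻¹ᵁ W).ι))
    (M : X.Modules) (hM : Coh.IsCoh M) :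
    ∃ n₀ : ℕ, ∀ n : ℕ, n₀ ≤ n → ∀ p : ℕ, 0 < p →
      IsZero ((Coh.Rpush f p).obj (CohB1.tensorMod M (CohB1.tensorPow L n))) := by
  obtain ⟨n₀, hn₀⟩ := relative_serre_vanishing_cover f L hL ha M hM
  haveI : M.IsQuasicoherent := hM.1
  haveI : L.IsQuasicoherent := qc_of_isInvertible L hL
  refine ⟨n₀, fun n hn p hp => ?_⟩
  haveI : (CohB1.tensorMod M (CohB1.tensorPow L n)).IsQuasicoherent :=
    tensorMod_isQuasicoherent _ _
  exact SC.isZero_Rpush_of_affine_cover f _ p (hn₀ n hn p hp)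

/-- if `R^q f_* G = 0` then `H^q(f⁻¹V, G) = 0` for affine opens `V` of the base. -/
theorem subsingleton_HH_preimage_of_isZero_Rpush [HasInjectiveResolutions X.Modules]
    [QuasiCompact f] [QuasiSeparated f] (G : X.Modules) [G.IsQuasicoherent] (q : ℕ)
    (h : IsZero ((Coh.Rpush f q).obj G)) (V : S.Opens) (hV : IsAffineOpen V) :
    Subsingleton (Coh.HH (f ⁻¹ᵁ V).toScheme (G.restrict (f ⁻¹ᵁ V).ι) q) := by
  haveI := hasInjRes (f ⁻¹ᵁ V).toScheme
  obtain ⟨e2⟩ := nonempty_restrict_Rpush_iso f V G q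
  have h2 : IsZero (((Scheme.Modules.pushforward (f ∣_ V)).rightDerived q).obj
      (G.restrict (f ⁻¹ᵁ V).ι)) :=
    ((Scheme.Modules.restrictFunctor V.ι).map_isZero h).of_iso e2.symm
  haveI : IsAffine V.toScheme := hV
  haveI : QuasiCompact (f ∣_ V) :=
    MorphismProperty.of_isPullback (isPullback_morphismRestrict f V).flip inferInstance
  haveI : QuasiSeparated (f ∣_ V) :=
    MorphismProperty.of_isPullback (isPullback_morphismRestrict f V).flip inferInstance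
  haveI : (G.restrict (f ⁻¹ᵁ V).ι).IsQuasicoherent := qc_restrict _ G
  obtain ⟨e3⟩ := nonempty_toAb_Rpush_iso (f ∣_ V) (G.restrict (f ⁻¹ᵁ V).ι) q
  have h4 : IsZero ((Coh.RpushAb (f ∣_ V) q).obj (Coh.toAb (G.restrict (f ⁻¹ᵁ V).ι))) :=
    ((τ V.toScheme).map_isZero h2).of_iso e3.symm
  obtain ⟨e4⟩ := Groth.Agent.S0032.result (f ∣_ V) (G.restrict (f ⁻¹ᵁ V).ι) q
  haveI : Subsingleton ↑(((Coh.RpushAb (f ∣_ V) q).obj
      (Coh.toAb (G.restrict (f ⁻¹ᵁ V).ι))).obj.obj (op ⊤)) := by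
    have hz : IsZero (((Coh.RpushAb (f ∣_ V) q).obj
        (Coh.toAb (G.restrict (f ⁻¹ᵁ V).ι))).obj.obj (op ⊤)) :=
      ((sheafSections (Opens.grothendieckTopology V.toScheme) AddCommGrpCat.{u}).obj
        (op ⊤)).map_isZero h4
    exact AddCommGrpCat.subsingleton_of_isZero hz
  exact e4.toEquiv.subsingleton

/-- **relative cohomological criterion of ampleness** over a Noetherian base. -/
theorem isAmple_restrict_of_R1_vanishing [HasInjectiveResolutions X.Modules] [IsProper f]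
    [IsNoetherian S] (L : X.Modules) (hL : PicF.IsInvertible L)
    (hyp : ∀ (J : X.Modules) (ι : J ⟶ Coh.structureModule X), Mono ι → Coh.IsCoh J →
      ∃ N : ℕ, ∀ n : ℕ, N ≤ n →
        IsZero ((Coh.Rpush f 1).obj (CohB1.tensorMod J (CohB1.tensorPow L n))))
    (V : S.Opens) (hV : IsAffineOpen V) : CohB1.IsAmple (L.restrict (f ⁻¹ᵁ V).ι) := by
  haveI : IsLocallyNoetherian X := LocallyOfFiniteType.isLocallyNoetherian f
  haveI : CompactSpace (f ⁻¹ᵁ V).toScheme :=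
    isCompact_iff_compactSpace.mp (f.isCompact_preimage hV.isCompact)
  haveI : L.IsQuasicoherent := qc_of_isInvertible L hL
  apply SC.isAmple_of_h1Zero _ (isInvertible_restrict (f ⁻¹ᵁ V).ι hL)
  intro I i hmono hqc
  haveI := hmono
  let i' : I ⟶ (unitMod X).restrict (f ⁻¹ᵁ V).ι :=
    i ≫ (Scheme.Modules.restrictUnitIso (f ⁻¹ᵁ V).ι).inv
  haveI : Mono i' := mono_comp _ _
  obtain ⟨J, ι, e, hJmono, hJqc, -⟩ :=
    exists_qc_extension (f ⁻¹ᵁ V).ι (unitMod X) I hqc i'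
  haveI := hJmono
  have hcoh : Coh.IsCoh J := isCoh_of_mono ι hJqc
    ⟨qc_of_isInvertible _ (isInvertible_unit X),
      isFiniteType_of_isInvertible _ (isInvertible_unit X)⟩
  obtain ⟨N, hN⟩ := hyp J ι hJmono hcoh
  refine ⟨N, SC.h1Zero_of_HH _ ?_⟩
  haveI : J.IsQuasicoherent := hJqc
  haveI : (CohB1.tensorMod J (CohB1.tensorPow L (N + 1))).IsQuasicoherent :=
    tensorMod_isQuasicoherent _ _
  have h1 := subsingleton_HH_preimage_of_isZero_Rpush f
    (CohB1.tensorMod J (CohB1.tensorPow L (N + 1))) 1 (hN (N + 1) (Nat.le_succ N)) V hV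
  have e' : (CohB1.tensorMod J (CohB1.tensorPow L (N + 1))).restrict (f ⁻¹ᵁ V).ι ≅
      CohB1.tensorMod I (CohB1.tensorPow (L.restrict (f ⁻¹ᵁ V).ι) (N + 1)) :=
    (restrictTensorIso (f ⁻¹ᵁ V).ι J (CohB1.tensorPow L (N + 1))).symm ≪≫
      tensorIso' e (restrictTensorPowIso (f ⁻¹ᵁ V).ι L (N + 1)).symm
  exact Groth.Agent.LD.AS.subsingleton_HH_of_iso' e' 1 h1

end Groth.Agent.LD.PN.AmS
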