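import Mathlib.LinearAlgebra.Dual.Lemmas
import Mathlib.LinearAlgebra.Isomorphisms

/-! # Dimension shifting for duality: pure linear algebra over a field. -/

namespace Groth.Agent.LD.PN

open Module

variable {k : Type*} [Field k]
  {A' A B H H' H'' : Type*}
  [AddCommGroup A'] [Module k A'] [AddCommGroup A] [Module k A] [AddCommGroup B] [Module k B]
  [AddCommGroup H] [Module k H] [AddCommGroup H'] [Module k H'] [AddCommGroup H''] [Module k H'']

/-- **dimension shifting**: from exact sequences `A' → A → B → 0` and `0 → H → H' → H''` and a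
compatible identification of `A' → A` with the dual of `H' → H''`, get `B ≃ H^*`. -/
theorem dual_shift
    (fE : A' →ₗ[k] A) (δE : A →ₗ[k] B) (hδE : Function.Surjective δE)
    (hE : ∀ a, δE a = 0 → ∃ a', fE a' = a) (hE0 : ∀ a', δE (fE a') = 0)
    (δH : H →ₗ[k] H') (fH : H' →ₗ[k] H'') (hδH : Function.Injective δH)
    (hH : ∀ x, fH x = 0 → ∃ y, δH y = x) (hH0 : ∀ y, fH (δH y) = 0)
    (ΘK : A ≃ₗ[k] Dual k H') (ΘE : A' →ₗ[k] Dual k H'') (hΘE : Function.Surjective ΘE)
    (hcomm : ∀ a', ΘK (fE a') = (ΘE a').comp fH) :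
    Nonempty (B ≃ₗ[k] Dual k H) := by
  let Φ : A →ₗ[k] Dual k H := δH.dualMap.comp ΘK.toLinearMap
  have hΦ : Function.Surjective Φ :=
    (LinearMap.dualMap_surjective_of_injective hδH).comp ΘK.surjective
  have hker : LinearMap.ker Φ = LinearMap.ker δE := by
    ext a
    rw [LinearMap.mem_ker, LinearMap.mem_ker]
    constructor
    · intro ha
      -- `ΘK a` vanishes on `ker fH`
      have h1 : ΘK a ∈ (LinearMap.ker fH).dualAnnihilator := by
        rw [Submodule.mem_dualAnnihilator]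
        intro x hx
        obtain ⟨y, rfl⟩ := hH x (LinearMap.mem_ker.mp hx)
        exact LinearMap.congr_fun ha y
      rw [← LinearMap.range_dualMap_eq_dualAnnihilator_ker] at h1
      obtain ⟨μ, hμ⟩ := h1
      obtain ⟨a', rfl⟩ := hΘE μ
      have h2 : ΘK a = ΘK (fE a') := by
        rw [hcomm, ← hμ]; rfl
      rw [ΘK.injective h2]
      exact hE0 a'
    · intro ha
      obtain ⟨a', rfl⟩ := hE a ha
      apply LinearMap.ext
      intro y
      change (ΘK (fE a')) (δH y) = 0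
      rw [hcomm]
      change (ΘE a') (fH (δH y)) = 0
      rw [hH0, map_zero]
  exact ⟨(δE.quotKerEquivOfSurjective hδE).symm ≪≫ₗ
    (Submodule.quotEquivOfEq _ _ hker.symm) ≪≫ₗ Φ.quotKerEquivOfSurjective hΦ⟩

/-- vanishing variant: if moreover `H' → H''` is injective then `B = 0`. -/
theorem subsingleton_of_dual_shift
    (fE : A' →ₗ[k] A) (δE : A →ₗ[k] B) (hδE : Function.Surjective δE)
    (hE0 : ∀ a', δE (fE a') = 0)
    (fH : H' →ₗ[k] H'') (hfH : Function.Injective fH)
    (ΘK : A ≃ₗ[k] Dual k H') (ΘE : A' →ₗ[k] Dual k H'') (hΘE : Function.Surjective ΘE)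
    (hcomm : ∀ a', ΘK (fE a') = (ΘE a').comp fH) :
    Subsingleton B := by
  have hfE : Function.Surjective fE := by
    intro a
    obtain ⟨μ, hμ⟩ := LinearMap.dualMap_surjective_of_injective hfH (ΘK a)
    obtain ⟨a', rfl⟩ := hΘE μ
    refine ⟨a', ΘK.injective ?_⟩
    rw [hcomm, ← hμ]; rfl
  refine ⟨fun b b' => ?_⟩
  obtain ⟨a, rfl⟩ := hδE b
  obtain ⟨a₂, rfl⟩ := hδE b'
  obtain ⟨a', rfl⟩ := hfE a
  obtain ⟨a₂', rfl⟩ := hfE a₂
  rw [hE0, hE0]

end Groth.Agent.LD.PN
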