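import Groth.Agent.Lib.Lead.PN.ExtTwist
import Groth.Agent.Lib.Lead.PN.DualShift
import Groth.Agent.Lib.Lead.PN.Dual2
import Groth.Agent.Lib.Lead.CohLES.DualLin
import Groth.Agent.Lib.Lead.SC.GenCrit
import Groth.Agent.Lib.Lead.CohLES.H0
import Mathlib.Algebra.Homology.DerivedCategory.Ext.Linear

/-! # Serre duality on projective space over a field: `Ext^i(F, ω) ≃ H^{n-i}(F)^*`. -/

universe u
open CategoryTheory AlgebraicGeometry TopologicalSpace Opposite Limits Abelian

namespace Groth.Agent.LD.PN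

section General
variable {X : Scheme.{u}} [HasExt.{u} X.Modules]

/-- `Ext^j(∐ N, Y) = 0` if `Ext^j(N, Y) = 0`. -/
lemma subsingleton_ext_sigma_left (N Y : X.Modules) (K : ℕ) (j : ℕ)
    (h : Subsingleton (Ext N Y j)) : Subsingleton (Ext (∐ fun _ : Fin K => N) Y j) := by
  have key : ∀ x : Ext (∐ fun _ : Fin K => N) Y j, x = 0 := by
    intro x
    let Φ : ((∐ fun _ : Fin K => N) ⟶ (∐ fun _ : Fin K => N)) →+ Ext (∐ fun _ : Fin K => N) Y j :=
      { toFun := fun g => (Ext.mk₀ g).comp x (zero_add j)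
        map_zero' := by rw [Ext.mk₀_zero, Ext.zero_comp]
        map_add' := fun g g' => by rw [Ext.mk₀_add, Ext.add_comp] }
    have h1 : Φ (𝟙 _) = x := Ext.mk₀_id_comp x
    rw [← h1, ← SC.sigmaProj_total N K, map_sum]
    apply Finset.sum_eq_zero
    intro a _
    change (Ext.mk₀ (SC.sigmaProj N K a ≫ Limits.Sigma.ι (fun _ : Fin K => N) a)).comp x
      (zero_add j) = 0
    rw [← Ext.mk₀_comp_mk₀, Ext.comp_assoc_of_second_deg_zero,
      Subsingleton.elim ((Ext.mk₀ (Limits.Sigma.ι (fun _ : Fin K => N) a)).comp x (zero_add j)) 0,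
      Ext.comp_zero]
  exact ⟨fun a b => (key a).trans (key b).symm⟩

end General

section LES
variable {X : Scheme.{u}} (A : Type u) [CommRing A] [X.Over (Spec (CommRingCat.of A))]
  {S : ShortComplex X.Modules} (hS : S.ShortExact)

/-- `H^0` is left exact. -/
lemma injective_HHmap_zero {M N : X.Modules} (φ : M ⟶ N) [Mono φ] :
    Function.Injective (CL.HHmap A φ 0) := by
  intro x y hxy
  apply (CL.HH0Equiv M).injective
  apply QC.mono_app φ ⊤
  have h1 := CL.HH0Equiv_map φ x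
  have h2 := CL.HH0Equiv_map φ y
  rw [← h1, ← h2]
  exact congrArg (CL.HH0Equiv N) hxy

/-- the composite `H^i(X₃) → H^{i+1}(X₁) → H^{i+1}(X₂)` vanishes. -/
lemma HHmap_f_δ (i : ℕ) (y : Coh.HH X S.X₃ i) :
    CL.HHmap A S.f (i+1) (CL.HHδ hS A i y) = 0 := by
  change (y.comp (SC.shortExact_toSheaf hS).extClass rfl).comp
    (Ext.mk₀ (S.map (SC.toAbF X)).f) (add_zero (i+1)) = 0
  rw [Ext.comp_assoc_of_third_deg_zero]
  have h4 := (SC.shortExact_toSheaf hS).extClass_comp
  refine (congrArg (fun z => Ext.comp y z rfl) h4).trans ?_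
  exact Ext.comp_zero.{u, u, u+1} (C := Sheaf (SC.JX X) AddCommGrpCat.{u}) _ _ _ _ _

end LES

section Shift
variable {X : Scheme.{u}} (k : Type u) [Field k] [X.Over (Spec (CommRingCat.of k))]
  [HasExt.{u} X.Modules] {S : ShortComplex X.Modules} (hS : S.ShortExact) (ω : X.Modules)

/-- the connecting map `Ext^i(K, ω) → Ext^{i+1}(F, ω)` is surjective if `Ext^{i+1}(E, ω) = 0`. -/
lemma surjective_extClass_precomp (i : ℕ) (hE1 : Subsingleton (Ext S.X₂ ω (i+1))) :
    Function.Surjective (hS.extClass.precompOfLinear k ω (add_comm 1 i)) := by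
  intro x₃
  exact Ext.contravariant_sequence_exact₃ hS ω x₃ (Subsingleton.elim _ _) (add_comm 1 i)

include hS in
/-- general dimension shifting step. -/
theorem ext_dual_shift (i j : ℕ)
    (hE1 : Subsingleton (Ext S.X₂ ω (i+1)))
    (hH : Subsingleton (Coh.HH X S.X₂ j))
    (ΘK : Ext S.X₁ ω i ≃ₗ[k] Module.Dual k (Coh.HH X S.X₁ (j+1)))
    (ΘE : Ext S.X₂ ω i →ₗ[k] Module.Dual k (Coh.HH X S.X₂ (j+1)))
    (hΘE : Function.Surjective ΘE)
    (hcomm : ∀ a', ΘK ((Ext.mk₀ S.f).comp a' (zero_add i)) =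
      (ΘE a').comp (CL.HHmap k S.f (j+1))) :
    Nonempty (Ext S.X₃ ω (i+1) ≃ₗ[k] Module.Dual k (Coh.HH X S.X₃ j)) := by
  refine dual_shift ((Ext.mk₀ S.f).precompOfLinear k ω (zero_add i))
    (hS.extClass.precompOfLinear k ω (add_comm 1 i))
    (surjective_extClass_precomp k hS ω i hE1) ?_ ?_
    (CL.HHδ hS k j) (CL.HHmap k S.f (j+1)) ?_ ?_ ?_ ΘK ΘE hΘE hcomm
  · intro a ha
    exact Ext.contravariant_sequence_exact₁ hS ω a (add_comm 1 i) ha
  · intro a'
    change hS.extClass.comp ((Ext.mk₀ S.f).comp a' (zero_add i)) (add_comm 1 i) = 0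
    rw [← Ext.comp_assoc_of_second_deg_zero, hS.extClass_comp, Ext.zero_comp]
  · rw [injective_iff_map_eq_zero]
    intro x₃ hx₃
    obtain ⟨x₂, rfl⟩ := CL.exact₃ hS k j x₃ hx₃
    rw [Subsingleton.elim x₂ 0, map_zero]
  · intro x hx
    exact CL.exact₁ hS k j x hx
  · intro y
    exact HHmap_f_δ k hS j y

include hS in
/-- vanishing variant. -/
theorem ext_subsingleton_shift (i : ℕ)
    (hE1 : Subsingleton (Ext S.X₂ ω (i+1)))
    (j : ℕ) (hfH : Function.Injective (CL.HHmap k S.f j))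
    (ΘK : Ext S.X₁ ω i ≃ₗ[k] Module.Dual k (Coh.HH X S.X₁ j))
    (ΘE : Ext S.X₂ ω i →ₗ[k] Module.Dual k (Coh.HH X S.X₂ j))
    (hΘE : Function.Surjective ΘE)
    (hcomm : ∀ a', ΘK ((Ext.mk₀ S.f).comp a' (zero_add i)) =
      (ΘE a').comp (CL.HHmap k S.f j)) :
    Subsingleton (Ext S.X₃ ω (i+1)) := by
  refine subsingleton_of_dual_shift ((Ext.mk₀ S.f).precompOfLinear k ω (zero_add i))
    (hS.extClass.precompOfLinear k ω (add_comm 1 i))
    (surjective_extClass_precomp k hS ω i hE1) ?_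
    (CL.HHmap k S.f j) hfH ΘK ΘE hΘE hcomm
  intro a'
  change hS.extClass.comp ((Ext.mk₀ S.f).comp a' (zero_add i)) (add_comm 1 i) = 0
  rw [← Ext.comp_assoc_of_second_deg_zero, hS.extClass_comp, Ext.zero_comp]

include hS in
/-- the data for the first step of the dimension shifting, from dualizing pairs. -/
theorem ext_dual_shift_zero (n : ℕ) (t : Coh.HH X ω n →ₗ[k] k)
    (hK : CL.IsDualFor k n ω t S.X₁) (hE : CL.IsDualFor k n ω t S.X₂) :
    ∃ (ΘK : Ext S.X₁ ω 0 ≃ₗ[k] Module.Dual k (Coh.HH X S.X₁ n))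
      (ΘE : Ext S.X₂ ω 0 →ₗ[k] Module.Dual k (Coh.HH X S.X₂ n)),
      Function.Surjective ΘE ∧
      ∀ a', ΘK ((Ext.mk₀ S.f).comp a' (zero_add 0)) = (ΘE a').comp (CL.HHmap k S.f n) := by
  refine ⟨Ext.linearEquiv₀ ≪≫ₗ CL.ΘEquiv k n t S.X₁ hK,
    (Ext.linearEquiv₀ ≪≫ₗ CL.ΘEquiv k n t S.X₂ hE).toLinearMap,
    (Ext.linearEquiv₀ ≪≫ₗ CL.ΘEquiv k n t S.X₂ hE).surjective, ?_⟩
  intro a'
  change CL.Θ k n t (Ext.linearEquiv₀ (R := k) ((Ext.mk₀ S.f).comp a' (zero_add 0))) =
    (CL.Θ k n t (Ext.linearEquiv₀ (R := k) a')).comp (CL.HHmap k S.f n)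
  rw [← CL.Θ_comp]
  congr 1
  apply (Ext.linearEquiv₀ (R := k)).symm.injective
  rw [LinearEquiv.symm_apply_apply, Ext.linearEquiv₀_symm_apply, ← Ext.mk₀_comp_mk₀,
    Ext.mk₀_linearEquiv₀_apply]

/-- **abstract Serre duality by dimension shifting**: if `(ω, t)` is dualizing in degree `n` for a
class `P` of modules, each of which is a quotient of a module `E` in `P` with kernel in `P`,
with `Ext^{>0}(E, ω) = 0` and `H^{<n}(E) = 0`, then `Ext^i(F, ω) ≃ H^{n-i}(F)^*` for `F` in `P`. -/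
theorem ext_dual_of_resolutions (n : ℕ) (t : Coh.HH X ω n →ₗ[k] k) (P : X.Modules → Prop)
    (hdual : ∀ F, P F → CL.IsDualFor k n ω t F)
    (hres : ∀ F, P F → ∃ (K E : X.Modules) (f : K ⟶ E) (g : E ⟶ F) (w : f ≫ g = 0),
      (ShortComplex.mk f g w).ShortExact ∧ P K ∧ P E ∧
      (∀ i : ℕ, Subsingleton (Ext E ω (i+1))) ∧ (∀ j : ℕ, j < n → Subsingleton (Coh.HH X E j)))
    (i : ℕ) :
    ∀ (F : X.Modules), P F →
      (∀ j, j + i = n → Nonempty (Ext F ω i ≃ₗ[k] Module.Dual k (Coh.HH X F j))) ∧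
      (n < i → Subsingleton (Ext F ω i)) := by
  induction i with
  | zero =>
    intro F hF
    refine ⟨fun j hj => ?_, fun h => absurd h (Nat.not_lt_zero n)⟩
    have hj' : j = n := by omega
    subst hj'
    exact ⟨Ext.linearEquiv₀ ≪≫ₗ CL.ΘEquiv k j t F (hdual F hF)⟩
  | succ i ih =>
    intro F hF
    obtain ⟨K, E, f, g, w, hS, hK, hE, hE1, hEH⟩ := hres F hF
    have hKd := hdual K hK
    have hEd := hdual E hE
    haveI : Mono f := hS.mono_f
    have hinj : Function.Injective (CL.HHmap k f 0) := injective_HHmap_zero k f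
    constructor
    · intro j hj
      cases i with
      | zero =>
        have hj' : j + 1 = n := by omega
        subst hj'
        obtain ⟨ΘK, ΘE, hΘE, hcomm⟩ := ext_dual_shift_zero k hS ω (j+1) t hKd hEd
        exact ext_dual_shift k hS ω 0 j (hE1 0) (hEH j (Nat.lt_succ_self j)) ΘK ΘE hΘE hcomm
      | succ i' =>
        obtain ⟨ΘK⟩ := (ih K hK).1 (j+1) (by omega)
        haveI hsub : Subsingleton (Coh.HH X E (j+1)) := hEH (j+1) (by omega)
        haveI := hE1 i'
        refine ext_dual_shift k hS ω (i'+1) j (hE1 (i'+1)) (hEH j (by omega)) ΘK 0 ?_ ?_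
        · intro μ
          exact ⟨0, LinearMap.ext fun x => by rw [hsub.elim x 0, map_zero, map_zero]⟩
        · intro a'
          rw [Subsingleton.elim a' 0, Ext.comp_zero, map_zero, map_zero, LinearMap.zero_comp]
    · intro hn
      by_cases hni : n < i
      · haveI := (ih K hK).2 hni
        exact (surjective_extClass_precomp k hS ω i (hE1 i)).subsingleton
      · have hni' : i = n := by omega
        subst hni'
        cases i with
        | zero =>
          obtain ⟨ΘK, ΘE, hΘE, hcomm⟩ := ext_dual_shift_zero k hS ω 0 t hKd hEd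
          exact ext_subsingleton_shift k hS ω 0 (hE1 0) 0 hinj ΘK ΘE hΘE hcomm
        | succ i' =>
          obtain ⟨ΘK⟩ := (ih K hK).1 0 (by omega)
          haveI := hEH 0 (Nat.succ_pos i')
          haveI : Subsingleton (Coh.HH X K 0) := hinj.subsingleton
          haveI : Subsingleton (Ext K ω (i'+1)) := ΘK.toEquiv.subsingleton
          exact (surjective_extClass_precomp k hS ω (i'+1) (hE1 (i'+1))).subsingleton

end Shift

section Sigma
variable {X : Scheme.{u}}

lemma subsingleton_HH_sigma (N : X.Modules) (K : ℕ) (i : ℕ)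
    (h : Subsingleton (Coh.HH X N i)) : Subsingleton (Coh.HH X (∐ fun _ : Fin K => N) i) :=
  CL.subsingleton_of_total (fun _ : Fin K => N) (fun j => Limits.Sigma.ι (fun _ : Fin K => N) j)
    (fun j => SC.sigmaProj N K j) (SC.sigmaProj_total N K) i (fun _ => h)

end Sigma

section PN
open Twist TW CH CL

variable (n : ℕ) (k : Type u) [Field k]

/-- a coherent module on `P^n` is a quotient of `∐ O(-(n+1+m₀))` with coherent kernel. -/
theorem exists_resolution (F : (Proj (CohB1.polyGrading n k)).Modules) (hF : Coh.IsCoh F) :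
    ∃ (m₀ m : ℕ) (p : (∐ fun _ : Fin m =>
        twist (CohB1.polyGrading n k) (-((n : ℤ) + 1 + m₀))) ⟶ F),
      Epi p ∧ Coh.IsCoh (kernel p) ∧
      Coh.IsCoh (∐ fun _ : Fin m => twist (CohB1.polyGrading n k) (-((n : ℤ) + 1 + m₀))) := by
  obtain ⟨m₀, h⟩ := exists_epi_sigma_twist n k F hF.1 hF.2
  obtain ⟨m, p, hp⟩ := h (m₀ + (n+1)) (by omega)
  have e : (-((m₀ + (n+1) : ℕ) : ℤ)) = -((n : ℤ) + 1 + m₀) := by push_cast; ring
  revert p
  rw [e]
  intro p hp
  have hEqc : (∐ fun _ : Fin m =>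
      twist (CohB1.polyGrading n k) (-((n : ℤ) + 1 + m₀))).IsQuasicoherent :=
    QC.qc_sigma_fin _ m
  have hEft : (∐ fun _ : Fin m =>
      twist (CohB1.polyGrading n k) (-((n : ℤ) + 1 + m₀))).IsFiniteType :=
    QC.isFiniteType_sigma_fin _
      (QC.isFiniteType_of_isInvertible _ (isInvertible_twist n k _)) m
  have hKqc : (kernel p).IsQuasicoherent := QC.qc_kernel p hEqc hF.1
  exact ⟨m₀, m, p, hp, ⟨hKqc, QC.isFiniteType_of_mono (kernel.ι p) hKqc hEqc hEft⟩,
    ⟨hEqc, hEft⟩⟩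

variable [HasExt.{u} (Proj (CohB1.polyGrading n k)).Modules]


end PN

end Groth.Agent.LD.PN
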