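import Groth.Agent.Lib.Lead.PN.RegSES
import Groth.Agent.Lib.Lead.CohLES.H0

/-! # Regularity of `F` from regularity of a hyperplane section (Mumford's lemma). -/

universe u
open CategoryTheory AlgebraicGeometry TopologicalSpace Opposite Limits

namespace Groth.Agent.LD.PN

variable (n : ℕ) (k : Type u) [Field k]

open Twist TW CH

/-- invariance of the dimension of cohomology under isomorphisms. -/
theorem finrank_HH_iso {M N : (Proj (CohB1.polyGrading n k)).Modules} (e : M ≅ N) (i : ℕ) :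
    Module.finrank k (Coh.HH (Proj (CohB1.polyGrading n k)) M i) =
      Module.finrank k (Coh.HH (Proj (CohB1.polyGrading n k)) N i) :=
  LinearEquiv.finrank_eq (LinearEquiv.ofLinear (CL.HHmap k e.hom i) (CL.HHmap k e.inv i)
    (by rw [← CL.HHmap_comp, e.inv_hom_id, CL.HHmap_id])
    (by rw [← CL.HHmap_comp, e.hom_inv_id, CL.HHmap_id]))

/-- twists of coherent modules are coherent. -/
theorem isCoh_twist (M : (Proj (CohB1.polyGrading n k)).Modules) (hM : Coh.IsCoh M) (d : ℤ) :
    Coh.IsCoh (CohB1.tensorMod M (twist (CohB1.polyGrading n k) d)) := by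
  haveI : M.IsQuasicoherent := hM.1
  exact ⟨inferInstance,
    QC.isFiniteType_tensorMod_of_isInvertible M hM.2 _ (isInvertible_twist n k d)⟩

section
variable (F : (Proj (CohB1.polyGrading n k)).Modules)
  (ι : CohB1.tensorMod F (twist (CohB1.polyGrading n k) (-1)) ⟶ F) [Mono ι] (m : ℤ)

/-- vanishing for the regular cokernel. -/
theorem cokernel_vanish [F.IsQuasicoherent] (hG : IsReg n k (cokernel ι) m) (i : ℕ) (hi : 1 ≤ i)
    (r : ℤ) (hr : m - i ≤ r) :
    Subsingleton (Coh.HH (Proj (CohB1.polyGrading n k)) (kG n k (cokernel ι) r) i) := by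
  haveI : (cokernel ι).IsQuasicoherent := QC.qc_cokernel ι inferInstance inferInstance
  have h2 := isReg_of_le n k (cokernel ι) m (r + i) (by omega) hG i hi
  have h4 : r + (i : ℤ) - (i : ℤ) = r := by ring
  rw [h4] at h2
  exact h2

/-- (i): `H^i(F(j)) = 0` for `i ≥ 2`, `j ≥ m - i`. -/
theorem vanish_ge_two (hF : Coh.IsCoh F) (hG : IsReg n k (cokernel ι) m) (i : ℕ) (hi : 2 ≤ i) :
    ∀ j : ℤ, m - i ≤ j →
      Subsingleton (Coh.HH (Proj (CohB1.polyGrading n k)) (kG n k F j) i) := by
  haveI : F.IsQuasicoherent := hF.1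
  obtain ⟨d₀, hd₀⟩ := serre_vanishing' n k F hF
  obtain ⟨i', rfl⟩ : ∃ i', i = i' + 1 := ⟨i - 1, by omega⟩
  have step : ∀ d : ℤ, m - ((i' + 1 : ℕ) : ℤ) ≤ d →
      Subsingleton (Coh.HH (Proj (CohB1.polyGrading n k)) (kG n k F (d+1)) (i'+1)) →
      Subsingleton (Coh.HH (Proj (CohB1.polyGrading n k)) (kG n k F d) (i'+1)) := by
    intro d hd h2
    have hS := shortExact_cokernel_twist n k ι (d+1)
    have h3 := cokernel_vanish n k F ι m hG i' (by omega) (d+1) (by push_cast at hd ⊢; omega)
    have h1 := CL.subsingleton_left hS i' h3 h2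
    exact subsingleton_HH_of_twist_twist n k F (-1) (d+1) d (by ring) (i'+1) h1
  have key : ∀ t : ℕ, ∀ j : ℤ, m - ((i' + 1 : ℕ) : ℤ) ≤ j → d₀ ≤ j + t →
      Subsingleton (Coh.HH (Proj (CohB1.polyGrading n k)) (kG n k F j) (i'+1)) := by
    intro t
    induction t with
    | zero =>
      intro j _ hj
      exact hd₀ j (by simpa using hj) (i'+1) (Nat.succ_pos _)
    | succ t ih =>
      intro j hj hjt
      exact step j hj (ih (j+1) (by omega) (by push_cast at hjt ⊢; omega))
  intro j hj
  exact key (d₀ - j).toNat j hj (by omega)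

/-- the map `H^1(F(j-1)) → H^1(F(j))` is surjective for `j ≥ m - 1`. -/
theorem mu_surjective [F.IsQuasicoherent] (hG : IsReg n k (cokernel ι) m) (j : ℤ) (hj : m - 1 ≤ j) :
    Function.Surjective
      (CL.HHmap k (KoszTw.tensorMap ι (𝟙 (twist (CohB1.polyGrading n k) j))) 1) := by
  have hS := shortExact_cokernel_twist n k ι j
  have h3 := cokernel_vanish n k F ι m hG 1 le_rfl j (by push_cast; omega)
  intro y
  exact CL.exact₂ hS k 1 y (h3.elim _ _)

/-- `h^1(F(j-1))` is the dimension of `H^1` of the first term of the twisted sequence. -/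
theorem finrank_X₁ [F.IsQuasicoherent] (j : ℤ) :
    Module.finrank k (Coh.HH (Proj (CohB1.polyGrading n k))
      (CohB1.tensorMod (CohB1.tensorMod F (twist (CohB1.polyGrading n k) (-1)))
        (twist (CohB1.polyGrading n k) j)) 1) =
    Module.finrank k (Coh.HH (Proj (CohB1.polyGrading n k)) (kG n k F (j - 1)) 1) := by
  have h2 := finrank_HH_iso n k (assocIso2 n k F (-1) j) 1
  have h3 : (-1 : ℤ) + j = j - 1 := by ring
  rw [h3] at h2
  exact h2

/-- (ii): `h^1(F(j)) ≤ h^1(F(j-1))` for `j ≥ m - 1`. -/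
theorem finrank_le (hF : Coh.IsCoh F) (hG : IsReg n k (cokernel ι) m) (j : ℤ) (hj : m - 1 ≤ j) :
    Module.finrank k (Coh.HH (Proj (CohB1.polyGrading n k)) (kG n k F j) 1) ≤
      Module.finrank k (Coh.HH (Proj (CohB1.polyGrading n k)) (kG n k F (j - 1)) 1) := by
  haveI : F.IsQuasicoherent := hF.1
  have hsurj := mu_surjective n k F ι m hG j hj
  haveI : Module.Finite k (Coh.HH (Proj (CohB1.polyGrading n k))
      (CohB1.tensorMod (CohB1.tensorMod F (twist (CohB1.polyGrading n k) (-1)))
        (twist (CohB1.polyGrading n k) j)) 1) :=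
    finite_HH_coh' n k _ (isCoh_twist n k _ (isCoh_twist n k F hF (-1)) j) 1
  have h1 := LinearMap.finrank_le_finrank_of_surjective hsurj
  rw [finrank_X₁ n k F j] at h1
  exact h1

/-- naturality of the multiplication by a variable. -/
theorem kt_natural {A B : (Proj (CohB1.polyGrading n k)).Modules} (π : A ⟶ B) (l : Fin (n+1))
    (j : ℤ) :
    KoszTw.tensorMap π (𝟙 (twist (CohB1.polyGrading n k) j)) ≫
      KoszTw.tensorMap (𝟙 B) (mulX (Xd n k l) j) =
    KoszTw.tensorMap (𝟙 A) (mulX (Xd n k l) j) ≫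
      KoszTw.tensorMap π (𝟙 (twist (CohB1.polyGrading n k) (j+1))) := by
  rw [← KoszTw.tensorMap_comp, ← KoszTw.tensorMap_comp, Category.comp_id, Category.id_comp,
    Category.comp_id, Category.id_comp]

/-- surjectivity of `Γ(F(j)) → Γ(G(j))` propagates upwards for `j ≥ m`. -/
theorem surj_succ [F.IsQuasicoherent] (hG : IsReg n k (cokernel ι) m) (j : ℤ) (hj : m ≤ j)
    (hP : Function.Surjective
      ((KoszTw.tensorMap (cokernel.π ι) (𝟙 (twist (CohB1.polyGrading n k) j))).app ⊤)) :
    Function.Surjective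
      ((KoszTw.tensorMap (cokernel.π ι) (𝟙 (twist (CohB1.polyGrading n k) (j+1)))).app ⊤) := by
  haveI : (cokernel ι).IsQuasicoherent := QC.qc_cokernel ι inferInstance inferInstance
  have hGj : IsReg n k (cokernel ι) j := isReg_of_le n k (cokernel ι) m j hj hG
  have hv : ∀ jj : ℕ, ∀ e' : ℤ, e' + 2 + jj = j + 1 →
      Subsingleton (Coh.HH (Proj (CohB1.polyGrading n k))
        ((kbase n k (cokernel ι)).G e') (1 + jj)) := by
    intro jj e' he'
    have h1 := hGj (1 + jj) (by omega)
    have h2 : j - ((1 + jj : ℕ) : ℤ) = e' := by push_cast; omega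
    rw [h2] at h1
    exact h1
  intro x
  have hx := (kbase n k (cokernel ι)).koszul_surj (List.finRange (n+1))
    (kbase_exact n k (cokernel ι)) n (kbase_hN n k (cokernel ι) _) (j+1) hv x
  induction hx using AddSubgroup.closure_induction with
  | mem x hx =>
    obtain ⟨l, e, he, c, rfl⟩ := hx
    have hem : e = j := by omega
    subst hem
    obtain ⟨b, rfl⟩ := hP c
    refine ⟨(KoszTw.tensorMap (𝟙 F) (mulX (Xd n k l) e)).app ⊤ b, ?_⟩
    have h2 : ((kbase n k (cokernel ι)).tE l e (e+1) he) = kt n k (cokernel ι) l e := by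
      rw [KS.Base.tE_rfl, kbase_t]
    rw [h2, kt_eq]
    have h3 := kt_natural n k (cokernel.π ι) l e
    exact (congrArg (fun f => f.app ⊤ b) h3).symm
  | zero => exact ⟨0, by rw [map_zero]; rfl⟩
  | add x y _ _ hx hy =>
    obtain ⟨a, ha⟩ := hx
    obtain ⟨b, hb⟩ := hy
    exact ⟨a + b, by rw [map_add, ha, hb]; rfl⟩
  | neg x _ hx =>
    obtain ⟨a, ha⟩ := hx
    exact ⟨-a, by rw [map_neg, ha]; rfl⟩

/-- if `h^1(F(j)) = h^1(F(j-1))`, `j ≥ m - 1`, then `Γ(F(j)) → Γ(G(j))` is surjective. -/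
theorem surj_of_finrank_eq (hF : Coh.IsCoh F) (hG : IsReg n k (cokernel ι) m) (j : ℤ)
    (hj : m - 1 ≤ j)
    (heq : Module.finrank k (Coh.HH (Proj (CohB1.polyGrading n k)) (kG n k F j) 1) =
      Module.finrank k (Coh.HH (Proj (CohB1.polyGrading n k)) (kG n k F (j - 1)) 1)) :
    Function.Surjective
      ((KoszTw.tensorMap (cokernel.π ι) (𝟙 (twist (CohB1.polyGrading n k) j))).app ⊤) := by
  haveI : F.IsQuasicoherent := hF.1
  have hS := shortExact_cokernel_twist n k ι j
  have hsurj := mu_surjective n k F ι m hG j hj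
  haveI : Module.Finite k (Coh.HH (Proj (CohB1.polyGrading n k))
      (CohB1.tensorMod (CohB1.tensorMod F (twist (CohB1.polyGrading n k) (-1)))
        (twist (CohB1.polyGrading n k) j)) 1) :=
    finite_HH_coh' n k _ (isCoh_twist n k _ (isCoh_twist n k F hF (-1)) j) 1
  haveI : Module.Finite k (Coh.HH (Proj (CohB1.polyGrading n k))
      (CohB1.tensorMod F (twist (CohB1.polyGrading n k) j)) 1) :=
    finite_HH_coh' n k _ (isCoh_twist n k F hF j) 1
  have hH : Module.finrank k (Coh.HH (Proj (CohB1.polyGrading n k))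
      (CohB1.tensorMod (CohB1.tensorMod F (twist (CohB1.polyGrading n k) (-1)))
        (twist (CohB1.polyGrading n k) j)) 1) =
      Module.finrank k (Coh.HH (Proj (CohB1.polyGrading n k))
        (CohB1.tensorMod F (twist (CohB1.polyGrading n k) j)) 1) := by
    rw [finrank_X₁ n k F j]
    exact heq.symm
  have hinj := (LinearMap.injective_iff_surjective_of_finrank_eq_finrank hH).mpr hsurj
  exact CL.surjective_app_top_of_injective hS (fun a b h => hinj h)

/-- if `Γ(F(j)) → Γ(G(j))` is surjective, `j ≥ m - 1`, then `h^1(F(j)) = h^1(F(j-1))`. -/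
theorem finrank_eq_of_surj (hF : Coh.IsCoh F) (hG : IsReg n k (cokernel ι) m) (j : ℤ)
    (hj : m - 1 ≤ j)
    (hP : Function.Surjective
      ((KoszTw.tensorMap (cokernel.π ι) (𝟙 (twist (CohB1.polyGrading n k) j))).app ⊤)) :
    Module.finrank k (Coh.HH (Proj (CohB1.polyGrading n k)) (kG n k F j) 1) =
      Module.finrank k (Coh.HH (Proj (CohB1.polyGrading n k)) (kG n k F (j - 1)) 1) := by
  haveI : F.IsQuasicoherent := hF.1
  have hS := shortExact_cokernel_twist n k ι j
  have hsurj := mu_surjective n k F ι m hG j hj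
  have hinj := CL.injective_HHmapZ_one_of_surjective hS hP
  have hbij : Function.Bijective
      (CL.HHmap k (KoszTw.tensorMap ι (𝟙 (twist (CohB1.polyGrading n k) j))) 1) :=
    ⟨fun a b h => hinj h, hsurj⟩
  have h1 := (LinearEquiv.ofBijective _ hbij).finrank_eq
  rw [finrank_X₁ n k F j] at h1
  exact h1.symm

/-- the chain: once `h^1(F(j)) = h^1(F(j-1))` for some `j ≥ m`, all later `h^1` are equal. -/
theorem chain (hF : Coh.IsCoh F) (hG : IsReg n k (cokernel ι) m) (j : ℤ) (hj : m ≤ j)
    (heq : Module.finrank k (Coh.HH (Proj (CohB1.polyGrading n k)) (kG n k F j) 1) =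
      Module.finrank k (Coh.HH (Proj (CohB1.polyGrading n k)) (kG n k F (j - 1)) 1)) :
    ∀ t : ℕ, ∀ j' : ℤ, j' = j + t →
      Function.Surjective
        ((KoszTw.tensorMap (cokernel.π ι) (𝟙 (twist (CohB1.polyGrading n k) j'))).app ⊤) ∧
      Module.finrank k (Coh.HH (Proj (CohB1.polyGrading n k)) (kG n k F j') 1) =
        Module.finrank k (Coh.HH (Proj (CohB1.polyGrading n k)) (kG n k F (j - 1)) 1) := by
  haveI : F.IsQuasicoherent := hF.1
  intro t
  induction t with
  | zero =>
    intro j' hj'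
    have : j' = j := by simpa using hj'
    subst this
    exact ⟨surj_of_finrank_eq n k F ι m hF hG j' (by omega) heq, heq⟩
  | succ t ih =>
    intro j' hj'
    obtain ⟨hP, hφ⟩ := ih (j' - 1) (by push_cast at hj' ⊢; omega)
    have hP' := surj_succ n k F ι m hG (j' - 1) (by push_cast at hj'; omega) hP
    have e : j' - 1 + 1 = j' := by ring
    rw [e] at hP'
    refine ⟨hP', ?_⟩
    rw [finrank_eq_of_surj n k F ι m hF hG j' (by push_cast at hj'; omega) hP', hφ]

/-- if `h^1(F(j)) = h^1(F(j-1))` for some `j ≥ m`, then `h^1(F(j-1)) = 0`. -/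
theorem finrank_eq_zero_of_eq (hF : Coh.IsCoh F) (hG : IsReg n k (cokernel ι) m) (j : ℤ)
    (hj : m ≤ j)
    (heq : Module.finrank k (Coh.HH (Proj (CohB1.polyGrading n k)) (kG n k F j) 1) =
      Module.finrank k (Coh.HH (Proj (CohB1.polyGrading n k)) (kG n k F (j - 1)) 1)) :
    Module.finrank k (Coh.HH (Proj (CohB1.polyGrading n k)) (kG n k F (j - 1)) 1) = 0 := by
  obtain ⟨d₀, hd₀⟩ := serre_vanishing' n k F hF
  have h := chain n k F ι m hF hG j hj heq (d₀ - j).toNat (j + (d₀ - j).toNat) rfl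
  haveI hz : Subsingleton (Coh.HH (Proj (CohB1.polyGrading n k))
      (kG n k F (j + (d₀ - j).toNat)) 1) := hd₀ _ (by omega) 1 one_pos
  rw [← h.2]
  exact Module.finrank_zero_of_subsingleton

/-- `h^1(F(m-1+t)) ≤ h^1(F(m-1)) - t`. -/
theorem finrank_decr (hF : Coh.IsCoh F) (hG : IsReg n k (cokernel ι) m) :
    ∀ t : ℕ, ∀ j : ℤ, j = m - 1 + t →
      Module.finrank k (Coh.HH (Proj (CohB1.polyGrading n k)) (kG n k F j) 1) ≤
        Module.finrank k (Coh.HH (Proj (CohB1.polyGrading n k)) (kG n k F (m - 1)) 1) - t := by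
  intro t
  induction t with
  | zero =>
    intro j hj
    have : j = m - 1 := by simpa using hj
    subst this
    simp
  | succ t ih =>
    intro j hj
    have h1 := ih (j - 1) (by push_cast at hj ⊢; omega)
    have hle := finrank_le n k F ι m hF hG j (by push_cast at hj; omega)
    by_cases heq : Module.finrank k (Coh.HH (Proj (CohB1.polyGrading n k)) (kG n k F j) 1) =
        Module.finrank k (Coh.HH (Proj (CohB1.polyGrading n k)) (kG n k F (j - 1)) 1)
    · have h0 := finrank_eq_zero_of_eq n k F ι m hF hG j (by push_cast at hj; omega) heq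
      rw [heq, h0]
      exact Nat.zero_le _
    · omega

/-- (iii): `H^1(F(j)) = 0` for `j ≥ m - 1 + h^1(F(m-1))`. -/
theorem vanish_one (hF : Coh.IsCoh F) (hG : IsReg n k (cokernel ι) m) (j : ℤ)
    (hj : m - 1 + (Module.finrank k (Coh.HH (Proj (CohB1.polyGrading n k))
      (kG n k F (m - 1)) 1) : ℤ) ≤ j) :
    Subsingleton (Coh.HH (Proj (CohB1.polyGrading n k)) (kG n k F j) 1) := by
  haveI : F.IsQuasicoherent := hF.1
  haveI : Module.Finite k (Coh.HH (Proj (CohB1.polyGrading n k)) (kG n k F j) 1) :=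
    finite_HH_coh' n k _ (isCoh_twist n k F hF j) 1
  have h1 := finrank_decr n k F ι m hF hG (j - (m - 1)).toNat j (by omega)
  have h2 : Module.finrank k (Coh.HH (Proj (CohB1.polyGrading n k)) (kG n k F j) 1) = 0 := by
    omega
  exact (Module.finrank_eq_zero_iff_of_free k _).mp h2

end

/-- **Mumford's lemma**: regularity of `F` from regularity of the cokernel of `F(-1) ↪ F`. -/
theorem mumford_lemma (F : (Proj (CohB1.polyGrading n k)).Modules) (hF : Coh.IsCoh F)
    (ι : CohB1.tensorMod F (twist (CohB1.polyGrading n k) (-1)) ⟶ F) (hι : Mono ι) (m : ℤ)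
    (hG : ∀ i : ℕ, 1 ≤ i → i ≤ n → Subsingleton (Coh.HH (Proj (CohB1.polyGrading n k))
      (CohB1.tensorMod (cokernel ι) (twist (CohB1.polyGrading n k) (m - i))) i)) :
    (∀ (i : ℕ) (j : ℤ), 2 ≤ i → m - i ≤ j →
        Subsingleton (Coh.HH (Proj (CohB1.polyGrading n k))
          (CohB1.tensorMod F (twist (CohB1.polyGrading n k) j)) i)) ∧
    (∀ j : ℤ, m - 1 ≤ j →
        Module.finrank k (Coh.HH (Proj (CohB1.polyGrading n k))
          (CohB1.tensorMod F (twist (CohB1.polyGrading n k) j)) 1) ≤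
          Module.finrank k (Coh.HH (Proj (CohB1.polyGrading n k))
            (CohB1.tensorMod F (twist (CohB1.polyGrading n k) (j - 1))) 1)) ∧
    (∀ j : ℤ, m - 1 + (Module.finrank k (Coh.HH (Proj (CohB1.polyGrading n k))
          (CohB1.tensorMod F (twist (CohB1.polyGrading n k) (m - 1))) 1) : ℤ) ≤ j →
        Subsingleton (Coh.HH (Proj (CohB1.polyGrading n k))
          (CohB1.tensorMod F (twist (CohB1.polyGrading n k) j)) 1)) ∧
    (∀ i : ℕ, 1 ≤ i → i ≤ n → Subsingleton (Coh.HH (Proj (CohB1.polyGrading n k))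
      (CohB1.tensorMod F (twist (CohB1.polyGrading n k)
        (m + (Module.finrank k (Coh.HH (Proj (CohB1.polyGrading n k))
          (CohB1.tensorMod F (twist (CohB1.polyGrading n k) (m - 1))) 1) : ℤ) - i))) i)) := by
  haveI : F.IsQuasicoherent := hF.1
  haveI : (cokernel ι).IsQuasicoherent := QC.qc_cokernel ι inferInstance inferInstance
  have hG' : IsReg n k (cokernel ι) m := isReg_of_bounded n k (cokernel ι) m hG
  refine ⟨fun i j hi hj => vanish_ge_two n k F ι m hF hG' i hi j hj,
    fun j hj => finrank_le n k F ι m hF hG' j hj,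
    fun j hj => vanish_one n k F ι m hF hG' j hj, ?_⟩
  intro i hi hin
  rcases Nat.lt_or_ge i 2 with h2 | h2
  · have hi1 : i = 1 := by omega
    subst hi1
    have key : m - 1 + (Module.finrank k (Coh.HH (Proj (CohB1.polyGrading n k))
        (kG n k F (m - 1)) 1) : ℤ) ≤
        m + (Module.finrank k (Coh.HH (Proj (CohB1.polyGrading n k))
          (kG n k F (m - 1)) 1) : ℤ) - ((1 : ℕ) : ℤ) := by
      push_cast; omega
    exact vanish_one n k F ι m hF hG' _ key
  · exact vanish_ge_two n k F ι m hF hG' i h2 _ (by omega)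

end Groth.Agent.LD.PN
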