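import Groth.Agent.Lib.Lead.PN.GlobGen
import Groth.Agent.Lib.Lead.PN.RegExt
import Groth.Agent.Lib.Lead.PN.Finite
import Groth.Agent.Lib.Lead.QC.SpanEpi
import Groth.Agent.Lib.Lead.CohLES.H0Lin

/-! # Regularity via linear presentations: `F` is `m`-regular iff there is an epimorphism
`O(-m)^b ⟶ F` with `(m+1)`-regular kernel. -/

universe u
open CategoryTheory AlgebraicGeometry TopologicalSpace Opposite Limits

namespace Groth.Agent.LD.PN

open Twist TW CH

section General
variable (n : ℕ) (R : Type u) [CommRing R]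

/-- regularity is invariant under isomorphism. -/
theorem isReg_of_iso {A B : (Proj (CohB1.polyGrading n R)).Modules} (e : A ≅ B) (m : ℤ)
    (h : IsReg n R A m) : IsReg n R B m := by
  intro i hi
  exact CL.subsingleton_of_iso (QC.tensorIso' e (Iso.refl _)) i (h i hi)

/-- `H^i(O^b ⊗ O(d)) = 0` for `i ≥ 1`, `d ≥ -i`. -/
theorem subsingleton_HH_free_twist (b : ℕ) (d : ℤ) (i : ℕ) (hi : 1 ≤ i) (hd : -(i : ℤ) ≤ d) :
    Subsingleton (Coh.HH (Proj (CohB1.polyGrading n R))
      (CohB1.tensorMod (FlatMod.freeMod (Proj (CohB1.polyGrading n R)) b)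
        (twist (CohB1.polyGrading n R) d)) i) := by
  haveI := qc_twist n R d
  have h1 : Subsingleton (Coh.HH (Proj (CohB1.polyGrading n R))
      (CohB1.tensorMod (QC.unitMod (Proj (CohB1.polyGrading n R)))
        (twist (CohB1.polyGrading n R) d)) i) := by
    refine CL.subsingleton_of_iso (QC.unitorL (twist (CohB1.polyGrading n R) d)).symm i ?_
    apply subsingleton_HH_twist_all n R d i
    · rintro ⟨rfl, -⟩; omega
    · rintro ⟨rfl, h'⟩; omega
  exact QC.subsingleton_HH_sigma_tensor (QC.unitMod (Proj (CohB1.polyGrading n R)))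
    (twist (CohB1.polyGrading n R) d) (isInvertible_twist n R d) b i h1

/-- tensoring with `O(0)` preserves surjectivity on global sections. -/
theorem surjective_tensorMap_app_top {A B : (Proj (CohB1.polyGrading n R)).Modules} (ψ : A ⟶ B)
    (hψ : Function.Surjective (ψ.app ⊤)) (d : ℤ) (hd : d = 0) :
    Function.Surjective ((KoszTw.tensorMap ψ (𝟙 (twist (CohB1.polyGrading n R) d))).app ⊤) := by
  subst hd
  have he : QC.IsBasisOver (twist (CohB1.polyGrading n R) 0) ⊤
      ((twistZeroIso (CohB1.polyGrading n R)).inv.app ⊤ (1 : Γ(Proj (CohB1.polyGrading n R), ⊤))) :=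
    (QC.isBasisOver_one ⊤).map_of_bijective (twistZeroIso (CohB1.polyGrading n R)).inv
      (fun W _ => QC.app_bijective_of_isIso _ W)
  intro y
  obtain ⟨t, ht⟩ := (QC.bijective_tmul_of_isBasisOver B _ he ⊤ le_rfl).2 y
  obtain ⟨r, rfl⟩ := hψ t
  refine ⟨SecTwist.tmul A _ ⊤ r ((twist (CohB1.polyGrading n R) 0).presheaf.map
    (homOfLE (le_refl (⊤ : (Proj (CohB1.polyGrading n R)).Opens))).op
      ((twistZeroIso (CohB1.polyGrading n R)).inv.app ⊤
        (1 : Γ(Proj (CohB1.polyGrading n R), ⊤)))), ?_⟩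
  rw [KoszTw.tensorMap_tmul]
  exact ht

/-- the easy direction: a presentation with regular kernel gives regularity. -/
theorem isReg_of_epi_sigma (F : (Proj (CohB1.polyGrading n R)).Modules) (m : ℤ) (b : ℕ)
    (φ : (∐ fun _ : Fin b => twist (CohB1.polyGrading n R) (-m)) ⟶ F) (hφ : Epi φ)
    (hK : IsReg n R (kernel φ) (m + 1)) : IsReg n R F m := by
  intro i hi
  have hS : (ShortComplex.mk (kernel.ι φ) φ (kernel.condition φ)).ShortExact :=
    { exact := ShortComplex.exact_of_f_is_kernel _ (kernelIsKernel φ)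
      mono_f := inferInstanceAs (Mono (kernel.ι φ))
      epi_g := hφ }
  have hT := QC.shortExact_tensorMap_of_isInvertible hS (twist (CohB1.polyGrading n R) (m - i))
    (isInvertible_twist n R (m - i))
  refine CL.subsingleton_right hT i ?_ ?_
  · apply QC.subsingleton_HH_sigma_tensor _ _ (isInvertible_twist n R (m - i))
    refine CL.subsingleton_of_iso (twistMulIso n R (-m) (m - i) (-(i : ℤ)) (by ring)).symm i ?_
    apply subsingleton_HH_twist_all n R (-(i : ℤ)) i
    · rintro ⟨rfl, -⟩; omega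
    · rintro ⟨rfl, h'⟩; omega
  · have h1 := hK (i + 1) (by omega)
    have e : m + 1 - ((i + 1 : ℕ) : ℤ) = m - i := by push_cast; ring
    rw [e] at h1
    exact h1

end General

section Field
variable (n : ℕ) (k : Type u) [Field k]

/-- the kernel of a morphism `O^b ⟶ G` that is epi and surjective on global sections, `G`
`0`-regular, is `1`-regular. -/
theorem isReg_kernel_one (G : (Proj (CohB1.polyGrading n k)).Modules) [G.IsQuasicoherent]
    (hG0 : IsReg n k G 0) (b : ℕ) (ψ : FlatMod.freeMod (Proj (CohB1.polyGrading n k)) b ⟶ G)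
    (hψ : Epi ψ) (hsurj : Function.Surjective (ψ.app ⊤)) : IsReg n k (kernel ψ) 1 := by
  have hS : (ShortComplex.mk (kernel.ι ψ) ψ (kernel.condition ψ)).ShortExact :=
    { exact := ShortComplex.exact_of_f_is_kernel _ (kernelIsKernel ψ)
      mono_f := inferInstanceAs (Mono (kernel.ι ψ))
      epi_g := hψ }
  intro i hi
  have hT := QC.shortExact_tensorMap_of_isInvertible hS (twist (CohB1.polyGrading n k) (1 - i))
    (isInvertible_twist n k (1 - i))
  have h2 := subsingleton_HH_free_twist n k b (1 - (i : ℤ)) i hi (by omega)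
  obtain ⟨p, rfl⟩ : ∃ p, i = p + 1 := ⟨i - 1, by omega⟩
  rcases p with _ | p
  · have hs := surjective_tensorMap_app_top n k ψ hsurj (1 - ((0 + 1 : ℕ) : ℤ)) (by norm_num)
    have hinj := CL.injective_HHmapZ_one_of_surjective hT hs
    haveI := h2
    exact hinj.subsingleton
  · refine CL.subsingleton_left hT (p + 1) ?_ h2
    have h3 := hG0 (p + 1) (by omega)
    have e : (0 : ℤ) - ((p + 1 : ℕ) : ℤ) = 1 - ((p + 1 + 1 : ℕ) : ℤ) := by push_cast; ring
    rw [e] at h3
    exact h3

/-- **the hard direction**: an `m`-regular coherent module admits an epimorphism from `O(-m)^b`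
with `(m+1)`-regular kernel. -/
theorem exists_epi_sigma_kernel_isReg (F : (Proj (CohB1.polyGrading n k)).Modules)
    (hF : Coh.IsCoh F) (m : ℤ) (h : IsReg n k F m) :
    ∃ (b : ℕ) (φ : (∐ fun _ : Fin b => twist (CohB1.polyGrading n k) (-m)) ⟶ F),
      Epi φ ∧ IsReg n k (kernel φ) (m + 1) := by
  haveI : F.IsQuasicoherent := hF.1
  haveI : (kG n k F m).IsQuasicoherent := kG_qc n k F m
  have hGcoh : Coh.IsCoh (kG n k F m) := isCoh_twist n k F hF m
  have hfin := finite_HH_coh' n k (kG n k F m) hGcoh 0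
  obtain ⟨b, σ, hσ⟩ := CL.exists_span_top_of_finite k (kG n k F m) hfin
  have hgg := epi_homOfFamily_of_isReg n k F hF.2 m h
  have hψ := QC.epi_homOfSections_of_span (kG n k F m) hgg σ hσ
  have hsurj := QC.surjective_homOfSections_app_top (kG n k F m) σ hσ
  have hG0 : IsReg n k (kG n k F m) 0 := by
    have h0 := isReg_kG n k F m m h
    rwa [sub_self] at h0
  have hK1 := isReg_kernel_one n k (kG n k F m) hG0 b (QC.homOfSections (kG n k F m) σ) hψ hsurj
  have hfq : (FlatMod.freeMod (Proj (CohB1.polyGrading n k)) b).IsQuasicoherent :=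
    QC.qc_sigma_fin (QC.unitMod (Proj (CohB1.polyGrading n k))) b
  haveI : (kernel (QC.homOfSections (kG n k F m) σ)).IsQuasicoherent :=
    QC.qc_kernel _ hfq inferInstance
  have hS : (ShortComplex.mk (kernel.ι (QC.homOfSections (kG n k F m) σ))
      (QC.homOfSections (kG n k F m) σ) (kernel.condition _)).ShortExact :=
    { exact := ShortComplex.exact_of_f_is_kernel _ (kernelIsKernel _)
      mono_f := inferInstanceAs (Mono (kernel.ι (QC.homOfSections (kG n k F m) σ)))
      epi_g := hψ }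
  have hM := isInvertible_twist n k (-m)
  haveI := qc_twist n k (-m)
  haveI := qc_twist n k m
  have hT := QC.shortExact_tensorMap_of_isInvertible hS (twist (CohB1.polyGrading n k) (-m)) hM
  let ε : CohB1.tensorMod (twist (CohB1.polyGrading n k) m) (twist (CohB1.polyGrading n k) (-m)) ≅
      QC.unitMod (Proj (CohB1.polyGrading n k)) :=
    twistMulIso n k m (-m) 0 (by ring) ≪≫ twistZeroIso (CohB1.polyGrading n k)
  let α : CohB1.tensorMod (kG n k F m) (twist (CohB1.polyGrading n k) (-m)) ≅ F :=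
    QC.tensorAssoc F _ _ ≪≫ QC.tensorIso' (Iso.refl F) ε ≪≫ SecTwist.unitorR F
  haveI := QC.isIso_sigmaToTensor (twist (CohB1.polyGrading n k) (-m)) hM b
  haveI : Epi (KoszTw.tensorMap (QC.homOfSections (kG n k F m) σ)
      (𝟙 (twist (CohB1.polyGrading n k) (-m)))) := hT.epi_g
  refine ⟨b, QC.sigmaToTensor (twist (CohB1.polyGrading n k) (-m)) b ≫
    KoszTw.tensorMap (QC.homOfSections (kG n k F m) σ) (𝟙 _) ≫ α.hom, inferInstance, ?_⟩
  have e1 := kernelIsIsoComp (QC.sigmaToTensor (twist (CohB1.polyGrading n k) (-m)) b)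
    (KoszTw.tensorMap (QC.homOfSections (kG n k F m) σ)
      (𝟙 (twist (CohB1.polyGrading n k) (-m))) ≫ α.hom)
  have e2 := kernelCompMono (KoszTw.tensorMap (QC.homOfSections (kG n k F m) σ)
      (𝟙 (twist (CohB1.polyGrading n k) (-m)))) α.hom
  have e3 : kernel (KoszTw.tensorMap (QC.homOfSections (kG n k F m) σ)
      (𝟙 (twist (CohB1.polyGrading n k) (-m)))) ≅
      kG n k (kernel (QC.homOfSections (kG n k F m) σ)) (-m) :=
    IsLimit.conePointUniqueUpToIso (kernelIsKernel _) hT.fIsKernel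
  have hreg := isReg_kG n k (kernel (QC.homOfSections (kG n k F m) σ)) 1 (-m) hK1
  have e4 : (1 : ℤ) - (-m) = m + 1 := by ring
  rw [e4] at hreg
  exact isReg_of_iso n k (e1 ≪≫ e2 ≪≫ e3).symm (m + 1) hreg

/-- the bounded form of the equivalence. -/
theorem isMReg_iff_exists_epi (F : (Proj (CohB1.polyGrading n k)).Modules) (hF : Coh.IsCoh F)
    (m : ℤ) :
    (∀ i : ℕ, 1 ≤ i → i ≤ n → Subsingleton (Coh.HH (Proj (CohB1.polyGrading n k))
      (CohB1.tensorMod F (twist (CohB1.polyGrading n k) (m - i))) i)) ↔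
    ∃ (b : ℕ) (φ : (∐ fun _ : Fin b => twist (CohB1.polyGrading n k) (-m)) ⟶ F),
      Epi φ ∧ ∀ i : ℕ, 1 ≤ i → i ≤ n → Subsingleton (Coh.HH (Proj (CohB1.polyGrading n k))
        (CohB1.tensorMod (kernel φ) (twist (CohB1.polyGrading n k) (m + 1 - i))) i) := by
  haveI : F.IsQuasicoherent := hF.1
  constructor
  · intro h
    obtain ⟨b, φ, hφ, hK⟩ := exists_epi_sigma_kernel_isReg n k F hF m
      (isReg_of_bounded n k F m h)
    exact ⟨b, φ, hφ, fun i hi _ => hK i hi⟩
  · rintro ⟨b, φ, hφ, hK⟩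
    haveI := qc_twist n k (-m)
    have hE : (∐ fun _ : Fin b => twist (CohB1.polyGrading n k) (-m)).IsQuasicoherent :=
      QC.qc_sigma_fin _ b
    haveI : (kernel φ).IsQuasicoherent := QC.qc_kernel φ hE inferInstance
    have h1 := isReg_of_epi_sigma n k F m b φ hφ (isReg_of_bounded n k (kernel φ) (m + 1) hK)
    exact fun i hi _ => h1 i hi

end Field

end Groth.Agent.LD.PN
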