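import Groth.Agent.Lib.Lead.PN.RegSES
import Groth.Agent.Lib.Lead.SC.SuppDim0
import Groth.Agent.Lib.Lead.QC.Support

/-! # Regularity is insensitive to modifications along finitely many points. -/

universe u
open CategoryTheory AlgebraicGeometry TopologicalSpace Opposite Limits

namespace Groth.Agent.LD.QC
variable {X : Scheme.{u}}

/-- the stalk of `G ⊗ M`, `M` invertible, vanishes where the stalk of `G` vanishes. -/
theorem subsingleton_stalk_tensor {G M : X.Modules} (hM : PicF.IsInvertible M) (x : X)
    (h : Subsingleton (G.presheaf.stalk x)) :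
    Subsingleton ((CohB1.tensorMod G M).presheaf.stalk x) := by
  suffices key : ∀ a : (CohB1.tensorMod G M).presheaf.stalk x, a = 0 from
    ⟨fun a b => by rw [key a, key b]⟩
  intro a
  obtain ⟨U, hxU, s, rfl⟩ := TopCat.Presheaf.germ_exist (CohB1.tensorMod G M).presheaf a
  obtain ⟨V, hV, hxV, e, he, g, hg⟩ := exists_local_tmul (G := G) hM U s x hxU
  obtain ⟨W, hxW, iU, iV, hW⟩ := TopCat.Presheaf.germ_eq G.presheaf x hxV hxV g 0
    (h.elim _ _)
  have hW' : G.presheaf.map (homOfLE iU.le).op g = 0 := by
    have e' : G.presheaf.map (homOfLE iU.le).op g = G.presheaf.map (homOfLE iU.le).op 0 := hW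
    rw [e', map_zero]
  have h1 : (CohB1.tensorMod G M).presheaf.map (homOfLE (iU.le.trans hV)).op s = 0 := by
    rw [← res_res _ hV iU.le, hg, tmul_res, hW']
    exact tmul_zero_left G M W _
  rw [← germ_res _ x (iU.le.trans hV) hxW s, h1, map_zero]

end Groth.Agent.LD.QC

namespace Groth.Agent.LD.SC
variable {X : Scheme.{u}}

/-- in a `T0` space of Krull dimension `≤ 0`, points are closed. -/
lemma isClosed_singleton_of_krullDim_le_zero {Z : Type*} [TopologicalSpace Z] [T0Space Z]
    (h : topologicalKrullDim Z ≤ 0) (z : Z) : IsClosed ({z} : Set Z) := by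
  have hmin := Order.krullDim_nonpos_iff_forall_isMin.mp h
  have hcl : closure ({z} : Set Z) = {z} := by
    apply Set.Subset.antisymm _ subset_closure
    intro y hy
    let A : IrreducibleCloseds Z := ⟨closure {z}, isIrreducible_singleton.closure, isClosed_closure⟩
    let B : IrreducibleCloseds Z := ⟨closure {y}, isIrreducible_singleton.closure, isClosed_closure⟩
    have hBA : B ≤ A := by
      change closure {y} ⊆ closure {z}
      exact closure_minimal (Set.singleton_subset_iff.mpr hy) isClosed_closure
    have hAB : A ≤ B := hmin A hBA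
    have hz : z ∈ closure ({y} : Set Z) := hAB (subset_closure rfl)
    have h1 : y ⤳ z := specializes_iff_mem_closure.mpr hz
    have h2 : z ⤳ y := specializes_iff_mem_closure.mpr hy
    exact (h1.antisymm h2).eq
  rw [← hcl]
  exact isClosed_closure

/-- points of a closed subset of Krull dimension `≤ 0` are closed. -/
lemma isClosed_singleton_of_mem_of_krullDim_le_zero {Z : Type*} [TopologicalSpace Z] [T0Space Z]
    (S : Set Z) (hS : IsClosed S) (h : topologicalKrullDim S ≤ 0) (z : Z) (hz : z ∈ S) :
    IsClosed ({z} : Set Z) := by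
  have h1 := isClosed_singleton_of_krullDim_le_zero h (⟨z, hz⟩ : S)
  have h2 := hS.isClosedEmbedding_subtypeVal.isClosedMap _ h1
  rwa [Set.image_singleton] at h2

end Groth.Agent.LD.SC

namespace Groth.Agent.LD.PN

variable (n : ℕ) (R : Type u) [CommRing R] [IsNoetherianRing R]

open Twist TW CH

/-- twists of a coherent module with support of dimension `≤ 0` have no higher cohomology. -/
theorem subsingleton_HH_twist_of_dim_zero (Q : (Proj (CohB1.polyGrading n R)).Modules)
    (hQ : Coh.IsCoh Q) (hsupp : topologicalKrullDim (CohB1.support Q) ≤ 0) (j : ℤ) (i : ℕ)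
    (hi : 0 < i) :
    Subsingleton (Coh.HH (Proj (CohB1.polyGrading n R))
      (CohB1.tensorMod Q (twist (CohB1.polyGrading n R) j)) i) := by
  haveI : Q.IsQuasicoherent := hQ.1
  obtain ⟨p, rfl⟩ : ∃ p, i = p + 1 := ⟨i - 1, by omega⟩
  have hft : (CohB1.tensorMod Q (twist (CohB1.polyGrading n R) j)).IsFiniteType :=
    QC.isFiniteType_tensorMod_of_isInvertible Q hQ.2 _ (isInvertible_twist n R j)
  have hclQ : IsClosed (CohB1.support Q) := QC.isClosed_support_of_isFiniteType Q hQ.2
  refine SC.subsingleton_HH_of_support_closed_points _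
    (QC.isClosed_support_of_isFiniteType _ hft) (fun x hx => ?_) p
  have hxQ : x ∈ CohB1.support Q := by
    intro hsub
    exact hx (QC.subsingleton_stalk_tensor (isInvertible_twist n R j) x hsub)
  exact SC.isClosed_singleton_of_mem_of_krullDim_le_zero _ hclQ hsupp x hxQ

/-- **regularity is insensitive to extensions by modules supported at finitely many points.** -/
theorem isMReg_of_mono_of_dim_zero (F' F : (Proj (CohB1.polyGrading n R)).Modules)
    (hF' : Coh.IsCoh F') (hF : Coh.IsCoh F) (φ : F' ⟶ F) (hφ : Mono φ)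
    (hsupp : topologicalKrullDim (CohB1.support (cokernel φ)) ≤ 0) (m : ℤ)
    (h : ∀ i : ℕ, 1 ≤ i → i ≤ n → Subsingleton (Coh.HH (Proj (CohB1.polyGrading n R))
      (CohB1.tensorMod F' (twist (CohB1.polyGrading n R) (m - i))) i)) :
    ∀ i : ℕ, 1 ≤ i → i ≤ n → Subsingleton (Coh.HH (Proj (CohB1.polyGrading n R))
      (CohB1.tensorMod F (twist (CohB1.polyGrading n R) (m - i))) i) := by
  intro i hi hin
  haveI := hφ
  have hqc : (cokernel φ).IsQuasicoherent := QC.qc_cokernel φ hF'.1 hF.1
  have hQ : Coh.IsCoh (cokernel φ) :=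
    ⟨hqc, QC.isFiniteType_of_epi (cokernel.π φ) hF.1 hqc hF.2⟩
  have hT := shortExact_cokernel_twist n R φ (m - i)
  exact CL.subsingleton_mid hT i (h i hi hin)
    (subsingleton_HH_twist_of_dim_zero n R _ hQ hsupp (m - i) i (by omega))

end Groth.Agent.LD.PN
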