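import Groth.Agent.Lib.Lead.PN.SerreDualExt

/-! # Serre duality on projective space over a field. -/

universe u
open CategoryTheory AlgebraicGeometry TopologicalSpace Opposite Limits Abelian

namespace Groth.Agent.LD.PN

section PN
open Twist TW CH CL

variable (n : ℕ) (k : Type u) [Field k]
variable [HasExt.{u} (Proj (CohB1.polyGrading n k)).Modules]

/-- `Ext^{>0}(∐ O(-(n+1+m₀)), O(-n-1)) = 0`. -/
theorem subsingleton_ext_sigma_twist (m₀ m i' : ℕ) :
    Subsingleton (Ext (C := (Proj (CohB1.polyGrading n k)).Modules) (∐ fun _ : Fin m =>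
        twist (CohB1.polyGrading n k) (-((n : ℤ) + 1 + m₀)))
        (twist (CohB1.polyGrading n k) (-((n : ℤ) + 1))) (i'+1)) := by
  apply subsingleton_ext_sigma_left
  apply subsingleton_ext_twist_twist n k _ _ (i'+1)
  · rintro ⟨h, -⟩; exact absurd h (Nat.succ_ne_zero i')
  · rintro ⟨-, h⟩
    have : (0 : ℤ) ≤ (n : ℤ) := Int.natCast_nonneg n
    have : (0 : ℤ) ≤ (m₀ : ℤ) := Int.natCast_nonneg m₀
    omega

omit [HasExt.{u} (Proj (CohB1.polyGrading n k)).Modules] in
/-- `H^{<n}(∐ O(-(n+1+m₀))) = 0`. -/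
theorem subsingleton_HH_sigma_twist' (m₀ m j : ℕ) (hj : j < n) :
    Subsingleton (Coh.HH (Proj (CohB1.polyGrading n k))
        (∐ fun _ : Fin m => twist (CohB1.polyGrading n k) (-((n : ℤ) + 1 + m₀))) j) := by
  apply subsingleton_HH_sigma
  apply subsingleton_HH_twist_all n k _ j
  · rintro ⟨-, h⟩
    have : (0 : ℤ) ≤ (n : ℤ) := Int.natCast_nonneg n
    have : (0 : ℤ) ≤ (m₀ : ℤ) := Int.natCast_nonneg m₀
    omega
  · rintro ⟨h, -⟩; omega

/-- **Serre duality on `P^n_k`**, `Ext` form. -/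
theorem serre_duality_ext (F : (Proj (CohB1.polyGrading n k)).Modules) (hF : Coh.IsCoh F)
    (i : ℕ) :
    (∀ j, j + i = n → Nonempty (Ext F (twist (CohB1.polyGrading n k) (-((n : ℤ) + 1))) i ≃ₗ[k]
        Module.Dual k (Coh.HH (Proj (CohB1.polyGrading n k)) F j))) ∧
      (n < i → Subsingleton (Ext F (twist (CohB1.polyGrading n k) (-((n : ℤ) + 1))) i)) := by
  refine ext_dual_of_resolutions (X := Proj (CohB1.polyGrading n k)) k
    (twist (CohB1.polyGrading n k) (-((n : ℤ) + 1))) n (trN' k n) (fun M => Coh.IsCoh M)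
    (isDualFor_coh n k) ?_ i F hF
  intro G hG
  obtain ⟨m₀, m, p, hp, hK, hE⟩ := exists_resolution n k G hG
  refine ⟨kernel p, _, kernel.ι p, p, kernel.condition p, ?_, hK, hE,
    fun i' => subsingleton_ext_sigma_twist n k m₀ m i',
    fun j hj => subsingleton_HH_sigma_twist' n k m₀ m j hj⟩
  exact { exact := ShortComplex.exact_of_f_is_kernel _ (kernelIsKernel p)
          mono_f := inferInstanceAs (Mono (kernel.ι p))
          epi_g := hp }

end PN

end Groth.Agent.LD.PN
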