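import Groth.Agent.Lib.Lead.PN.Koszul
import Groth.Agent.Lib.Lead.KS.Terms

/-! # The Koszul complex on `P^n` as a cochain complex. -/

universe u
open CategoryTheory AlgebraicGeometry TopologicalSpace Opposite Limits

namespace Groth.Agent.LD.KS

variable {X : Scheme.{u}} {ι : Type}

lemma KSys.d_eqToHom (S : KSys X ι) (e : ℤ) {p q : ℤ} (h : p = q) :
    S.d e p ≫ eqToHom (by rw [h]) = eqToHom (by rw [h]) ≫ S.d e q := by
  subst h
  simp

/-- the complex `K e •`, shifted by `c`, as a cochain complex. -/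
noncomputable def KSys.cx (S : KSys X ι) (e c : ℤ) : CochainComplex X.Modules ℤ :=
  CochainComplex.of (fun i => S.K e (i + c))
    (fun i => S.d e (i + c) ≫ eqToHom (by rw [add_right_comm]))
    (fun i => by
      rw [Category.assoc, ← Category.assoc (eqToHom _), ← S.d_eqToHom e (add_right_comm i c 1)]
      simp only [Category.assoc]
      rw [← Category.assoc, S.dd, zero_comp])

lemma KSys.cx_d (S : KSys X ι) (e c i : ℤ) :
    (S.cx e c).d i (i + 1) = S.d e (i + c) ≫ eqToHom (by rw [add_right_comm]; rfl) := by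
  exact CochainComplex.of_d (V := X.Modules) (fun i => S.K e (i + c))
    (fun i => S.d e (i + c) ≫ eqToHom (by rw [add_right_comm])) i

lemma KSys.cx_X (S : KSys X ι) (e c i : ℤ) : (S.cx e c).X i = S.K e (i + c) := rfl

theorem KSys.cx_exactAt (S : KSys X ι) (e c : ℤ)
    (hex : ∀ p, (ShortComplex.mk (S.d e p) (S.d e (p+1)) (S.dd e p)).Exact) (i : ℤ) :
    (S.cx e c).ExactAt i := by
  obtain ⟨i', rfl⟩ : ∃ i', i = i' + 1 := ⟨i - 1, by ring⟩
  rw [HomologicalComplex.exactAt_iff' _ i' (i' + 1) (i' + 1 + 1) (by simp) (by simp)]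
  have h := hex (i' + c)
  refine ShortComplex.exact_of_iso ?_ h
  have h2 : S.K e (i' + c + 1) = S.K e (i' + 1 + c) := congrArg (S.K e) (add_right_comm i' c 1)
  have h3 : S.K e (i' + c + 1 + 1) = S.K e (i' + 1 + 1 + c) := congrArg (S.K e) (by ring)
  refine ShortComplex.isoMk (Iso.refl _) (eqToIso h2) (eqToIso h3) ?_ ?_
  · change 𝟙 _ ≫ (S.cx e c).d i' (i' + 1) = _
    rw [KSys.cx_d]
    simp
    rfl
  · change eqToHom h2 ≫ (S.cx e c).d (i' + 1) (i' + 1 + 1) = _
    rw [KSys.cx_d]
    rw [← Category.assoc, ← S.d_eqToHom e (add_right_comm i' c 1)]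
    simp
    rfl

end Groth.Agent.LD.KS

namespace Groth.Agent.LD.PN

variable (n : ℕ) (R : Type u) [CommRing R]

open Twist TW CH

/-- **the Koszul complex on `P^n`**: an exact complex with terms `O(a+i)^{binom(n+1, i)}`. -/
theorem exists_koszul_complex (a : ℤ) :
    ∃ C : CochainComplex (Proj (CohB1.polyGrading n R)).Modules ℤ, (∀ i : ℤ, C.ExactAt i) ∧
      (∀ i : ℕ, i ≤ n + 1 → Nonempty (C.X (i : ℤ) ≅
        ∐ fun _ : Fin (Nat.choose (n + 1) i) => twist (CohB1.polyGrading n R) (a + i))) ∧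
      (∀ i : ℤ, i < 0 ∨ (n : ℤ) + 1 < i → IsZero (C.X i)) := by
  let B := kbase n R (QC.unitMod (Proj (CohB1.polyGrading n R)))
  let S := B.koszul (List.finRange (n+1))
  refine ⟨S.cx a (-((n : ℤ) + 1)), fun i => ?_, fun i hi => ?_, fun i hi => ?_⟩
  · exact S.cx_exactAt a _ (fun p => kbase_exact n R _ a p) i
  · obtain ⟨φ⟩ := B.koszul_terms (List.finRange (n+1)) a (n + 1 - i) ((i : ℤ) + -((n : ℤ) + 1))
      (a + i) (by push_cast [Nat.cast_sub hi]; ring)
      (by rw [List.length_finRange]; push_cast [Nat.cast_sub hi]; ring)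
    rw [List.length_finRange, Nat.choose_symm hi] at φ
    haveI := qc_twist n R (a + i)
    let ψ : B.G (a + i) ≅ twist (CohB1.polyGrading n R) (a + i) :=
      QC.unitorL (twist (CohB1.polyGrading n R) (a + i))
    exact ⟨φ ≪≫ Sigma.mapIso (fun _ => ψ)⟩
  · apply B.koszul_isZero (List.finRange (n+1)) a
    rw [List.length_finRange]
    rcases hi with h | h
    · right; push_cast; omega
    · left; omega

end Groth.Agent.LD.PN
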