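import Groth.Agent.Lib.Lead.CohLES.Euler
import Groth.Agent.Lib.Lead.PN.ClosedSub
import Groth.Agent.Lib.Lead.PN.KoszulCx
import Groth.Agent.Lib.Lead.QC.SubSup

/-! # The Euler characteristic on `P^n` over an Artinian ring and the Koszul relation. -/

universe u
open CategoryTheory AlgebraicGeometry TopologicalSpace Opposite Limits

namespace Groth.Agent.LD.PN

open Twist TW CH

section abelian

variable {C : Type*} [Category C] [Abelian C]

/-- the short exact sequence `0 → ker f → X → ker g → 0` of an exact sequence `X → Y → Z`. -/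
lemma shortExact_kernel_lift {X Y Z : C} (f : X ⟶ Y) (g : Y ⟶ Z) (w : f ≫ g = 0)
    (hex : (ShortComplex.mk f g w).Exact) :
    (ShortComplex.mk (kernel.ι f) (kernel.lift g f w)
      (by apply (cancel_mono (kernel.ι g)).mp; simp)).ShortExact :=
  { exact := ShortComplex.exact_of_f_is_kernel _
      (isKernelOfComp (kernel.ι g) f (kernelIsKernel f) _ (kernel.lift_ι g f w))
    mono_f := inferInstanceAs (Mono (kernel.ι f))
    epi_g := (ShortComplex.exact_iff_epi_kernel_lift _).mp hex }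

end abelian

/-- the arithmetic of a telescoping sum over the integers. -/
lemma telescope_int (k z : ℤ → ℤ) (h : ∀ p, k p = z p + z (p + 1)) (a : ℤ) (N : ℕ) :
    ((Finset.range N).sum fun j : ℕ => (-1 : ℤ) ^ j * k (a + j)) =
      z a - (-1) ^ N * z (a + N) := by
  induction N with
  | zero => simp
  | succ N ih =>
    rw [Finset.sum_range_succ, ih, h (a + N)]
    have : a + ((N + 1 : ℕ) : ℤ) = a + N + 1 := by push_cast; ring
    rw [this]
    ring

variable (n : ℕ) (R : Type u) [CommRing R] [IsArtinianRing R]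

/-- the Euler characteristic of a module on `P^n_R`. -/
noncomputable def chi (M : (Proj (CohB1.polyGrading n R)).Modules) : ℤ := CL.chiLE R M n

lemma length_HH_ne_top (M : (Proj (CohB1.polyGrading n R)).Modules) (hM : Coh.IsCoh M) (j : ℕ) :
    Module.length R (Coh.HH (Proj (CohB1.polyGrading n R)) M j) ≠ ⊤ := by
  haveI := finite_HH_coh' n R M hM j
  exact Module.length_ne_top

/-- additivity of the Euler characteristic. -/
theorem chi_add {S : ShortComplex (Proj (CohB1.polyGrading n R)).Modules} (hS : S.ShortExact)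
    (h₁ : Coh.IsCoh S.X₁) (h₂ : Coh.IsCoh S.X₂) (h₃ : Coh.IsCoh S.X₃) :
    chi n R S.X₂ = chi n R S.X₁ + chi n R S.X₃ := by
  haveI : S.X₁.IsQuasicoherent := h₁.1
  exact CL.chiLE_add R hS n (length_HH_ne_top n R _ h₁) (length_HH_ne_top n R _ h₂)
    (length_HH_ne_top n R _ h₃) (subsingleton_HH_of_lt n R S.X₁ (n + 1) (Nat.lt_succ_self n))

theorem chi_of_isZero {Z : (Proj (CohB1.polyGrading n R)).Modules} (hZ : IsZero Z) :
    chi n R Z = 0 := by
  unfold chi CL.chiLE
  refine Finset.sum_eq_zero (fun j _ => ?_)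
  haveI := CL.subsingleton_HH_of_isZero hZ j
  rw [Alg.len_of_subsingleton, mul_zero]

theorem chi_iso {M N : (Proj (CohB1.polyGrading n R)).Modules} (e : M ≅ N) :
    chi n R M = chi n R N := by
  unfold chi CL.chiLE
  refine Finset.sum_congr rfl (fun j _ => ?_)
  unfold Alg.len
  rw [(CL.HHisoEquiv R e j).length_eq]

omit [IsArtinianRing R] in
theorem isCoh_of_isZero {Z : (Proj (CohB1.polyGrading n R)).Modules} (hZ : IsZero Z) :
    Coh.IsCoh Z := by
  have hq : Z.IsQuasicoherent := QC.qc_of_iso ((isZero_zero _).iso hZ) (SC.qc_zero _)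
  refine ⟨hq, ?_⟩
  haveI : Epi (0 : twist (CohB1.polyGrading n R) 0 ⟶ Z) :=
    ⟨fun g h _ => hZ.eq_of_src g h⟩
  exact QC.isFiniteType_of_epi (0 : twist (CohB1.polyGrading n R) 0 ⟶ Z) (qc_twist n R 0) hq
    (QC.isFiniteType_of_isInvertible _ (isInvertible_twist n R 0))

omit [IsArtinianRing R] in
theorem isCoh_biprod (A C : (Proj (CohB1.polyGrading n R)).Modules) (hA : Coh.IsCoh A)
    (hC : Coh.IsCoh C) : Coh.IsCoh (A ⊞ C) := by
  haveI := hA.1
  haveI := hC.1
  exact ⟨SC.qc_biprod A C hA.1 hC.1, QC.isFiniteType_biprod A C hA.2 hC.2⟩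

omit [IsArtinianRing R] in
theorem isCoh_kernel [IsNoetherianRing R] {F G : (Proj (CohB1.polyGrading n R)).Modules}
    (φ : F ⟶ G) (hF : Coh.IsCoh F) (hG : Coh.IsCoh G) : Coh.IsCoh (kernel φ) :=
  ⟨QC.qc_kernel φ hF.1 hG.1,
    QC.isFiniteType_of_mono (kernel.ι φ) (QC.qc_kernel φ hF.1 hG.1) hF.1 hF.2⟩

omit [IsArtinianRing R] in
theorem isCoh_kG (F : (Proj (CohB1.polyGrading n R)).Modules) (hF : Coh.IsCoh F) (d : ℤ) :
    Coh.IsCoh (kG n R F d) := by
  haveI : F.IsQuasicoherent := hF.1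
  exact ⟨kG_qc n R F d,
    QC.isFiniteType_tensorMod_of_isInvertible F hF.2 _ (isInvertible_twist n R d)⟩

end Groth.Agent.LD.PN
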