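import Groth.Agent.Lib.Lead.PN.Chi

/-! # The Koszul relation for Euler characteristics on `P^n`. -/

universe u
open CategoryTheory AlgebraicGeometry TopologicalSpace Opposite Limits

namespace Groth.Agent.LD.PN

open Twist TW CH

variable (n : ℕ) (R : Type u) [CommRing R] [IsArtinianRing R]

omit [IsArtinianRing R] in
lemma shortExact_biprod (A C : (Proj (CohB1.polyGrading n R)).Modules) :
    (ShortComplex.mk (biprod.inl : A ⟶ A ⊞ C) (biprod.snd : A ⊞ C ⟶ C)
      (by simp)).ShortExact :=
  (ShortComplex.Splitting.ofHasBinaryBiproduct A C).shortExact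

theorem chi_biprod (A C : (Proj (CohB1.polyGrading n R)).Modules) (hA : Coh.IsCoh A)
    (hC : Coh.IsCoh C) : chi n R (A ⊞ C) = chi n R A + chi n R C := by
  have h := chi_add n R (shortExact_biprod n R A C) hA (isCoh_biprod n R A C hA hC) hC
  exact h

/-- the alternating sum of the Euler characteristics of the terms of an exact bounded complex
of coherent modules vanishes. -/
theorem chi_exact_sum {ι : Type} (S : KS.KSys (Proj (CohB1.polyGrading n R)) ι) (e : ℤ)
    (hex : ∀ p, (ShortComplex.mk (S.d e p) (S.d e (p+1)) (S.dd e p)).Exact)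
    (hcoh : ∀ p, Coh.IsCoh (S.K e p)) (a : ℤ) (N : ℕ) (ha : IsZero (S.K e (a - 1)))
    (hb : IsZero (S.K e (a + N))) :
    ((Finset.range N).sum fun j : ℕ => (-1 : ℤ) ^ j * chi n R (S.K e (a + j))) = 0 := by
  let z : ℤ → ℤ := fun p => chi n R (kernel (S.d e p))
  let k : ℤ → ℤ := fun p => chi n R (S.K e p)
  have hk : ∀ p, k p = z p + z (p + 1) := by
    intro p
    have hS := shortExact_kernel_lift (S.d e p) (S.d e (p+1)) (S.dd e p) (hex p)
    have h := chi_add n R hS
      (isCoh_kernel n R _ (hcoh p) (hcoh (p+1))) (hcoh p)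
      (isCoh_kernel n R _ (hcoh (p+1)) (hcoh (p+1+1)))
    exact h
  have hz : ∀ p, IsZero (S.K e p) → z p = 0 := fun p hp =>
    chi_of_isZero n R (IsZero.of_mono (kernel.ι (S.d e p)) hp)
  have h1 : z a = 0 := by
    have h := hk (a - 1)
    rw [hz (a - 1) ha, sub_add_cancel, zero_add] at h
    rw [← h]
    exact chi_of_isZero n R ha
  have h2 := telescope_int k z hk a N
  rw [h1, hz (a + N) hb, mul_zero, sub_zero] at h2
  exact h2

omit [IsArtinianRing R] in
theorem koszul_coh (F : (Proj (CohB1.polyGrading n R)).Modules) (hF : Coh.IsCoh F)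
    (L : List (Fin (n+1))) (e p : ℤ) : Coh.IsCoh (((kbase n R F).koszul L).K e p) :=
  (kbase n R F).koszul_prop (fun M => Coh.IsCoh M) (fun Z hZ => isCoh_of_isZero n R hZ)
    (fun A C hA hC => isCoh_biprod n R A C hA hC) L e p (fun e' _ => isCoh_kG n R F hF e')

/-- the Euler characteristics of the terms of the Koszul system. -/
theorem chi_koszul_terms (F : (Proj (CohB1.polyGrading n R)).Modules) (hF : Coh.IsCoh F)
    (L : List (Fin (n+1))) : ∀ (e : ℤ) (j : ℕ) (p g : ℤ), p = -(j : ℤ) →
    g = e + L.length - j →
    chi n R (((kbase n R F).koszul L).K e p) = (Nat.choose L.length j : ℤ) * chi n R (kG n R F g) := by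
  induction L with
  | nil =>
    intro e j p g hp hg
    cases j with
    | zero =>
      obtain rfl : p = 0 := by simpa using hp
      obtain rfl : g = e := by simpa using hg
      simp only [List.length_nil, Nat.choose_self, Nat.cast_one, one_mul]
      rfl
    | succ j =>
      have hz : IsZero (((kbase n R F).koszul []).K e p) :=
        (kbase n R F).K0_isZero e p (by rw [hp]; push_cast; omega)
      rw [chi_of_isZero n R hz]
      simp
  | cons l L ih =>
    intro e j p g hp hg
    rw [List.length_cons] at hg
    push_cast at hg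
    have hbi : chi n R (((kbase n R F).koszul (l :: L)).K e p) =
        chi n R (((kbase n R F).koszul L).K e (p+1)) +
          chi n R (((kbase n R F).koszul L).K (e+1) p) :=
      chi_biprod n R _ _ (koszul_coh n R F hF L e (p+1)) (koszul_coh n R F hF L (e+1) p)
    rw [hbi]
    cases j with
    | zero =>
      obtain rfl : p = 0 := by simpa using hp
      have hz : IsZero (((kbase n R F).koszul L).K e (0+1)) :=
        (kbase n R F).koszul_isZero L e (0+1) (Or.inl (by norm_num))
      rw [chi_of_isZero n R hz, ih (e+1) 0 0 g (by simp) (by rw [hg]; push_cast; ring)]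
      simp
    | succ j =>
      rw [ih e j (p+1) g (by rw [hp]; push_cast; ring) (by rw [hg]; push_cast; ring),
        ih (e+1) (j+1) p g hp (by rw [hg]; push_cast; ring), List.length_cons,
        Nat.choose_succ_succ]
      push_cast
      ring

/-- **the Koszul relation** between the Euler characteristics of the twists of a coherent
module on `P^n`. -/
theorem chi_koszul_relation (F : (Proj (CohB1.polyGrading n R)).Modules) (hF : Coh.IsCoh F)
    (e : ℤ) :
    ((Finset.range (n + 2)).sum fun j : ℕ =>
      (-1 : ℤ) ^ j * ((Nat.choose (n + 1) j : ℤ) * chi n R (kG n R F (e + j)))) = 0 := by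
  have h := chi_exact_sum n R ((kbase n R F).koszul (List.finRange (n+1))) e
    (fun p => kbase_exact n R F e p) (fun p => koszul_coh n R F hF _ e p)
    (-((n : ℤ) + 1)) (n + 2)
    ((kbase n R F).koszul_isZero _ e _ (Or.inr (by rw [List.length_finRange]; push_cast; omega)))
    ((kbase n R F).koszul_isZero _ e _ (Or.inl (by push_cast; omega)))
  rw [← h]
  refine Finset.sum_congr rfl (fun j hj => ?_)
  have hj' : j ≤ n + 1 := by
    have := Finset.mem_range.mp hj
    omega
  rw [chi_koszul_terms n R F hF (List.finRange (n+1)) e (n + 1 - j) (-((n : ℤ) + 1) + j) (e + j)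
    (by push_cast [Nat.cast_sub hj']; ring)
    (by rw [List.length_finRange]; push_cast [Nat.cast_sub hj']; ring),
    List.length_finRange, Nat.choose_symm hj']

end Groth.Agent.LD.PN
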