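import Groth.Agent.Lib.Lead.PN.NegPoly

/-! # The pairing between homogeneous polynomials of degree `k` and negative Laurent polynomials
of degree `-(n+1+k)`. -/

universe u
open AddMonoidAlgebra

namespace Groth.Agent.LD.PN

variable (n : ℕ) (R : Type u) [CommRing R]

/-- the exponent `(-1, …, -1)`. -/
noncomputable abbrev e0 : Fin (n+1) →₀ ℤ := negF n 0

lemma einf_e0 : Einf n (e0 n) := fun j => by
  rw [negF_apply]; simp

lemma degree_e0 : Finsupp.degree (e0 n) = -((n : ℤ) + 1) := by
  rw [degree_negF]; simp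

variable {n} in
lemma e0_sub_negF (μ : Fin (n+1) →₀ ℕ) : e0 n - negF n μ = castE n μ := by
  ext j
  rw [Finsupp.sub_apply, negF_apply, negF_apply, castE_apply]
  simp only [Finsupp.coe_zero, Pi.zero_apply, Nat.cast_zero, neg_zero, zero_sub]
  ring

variable {n} in
lemma einf_sub_castE {e : Fin (n+1) →₀ ℤ} (he : Einf n e) (μ : Fin (n+1) →₀ ℕ) :
    Einf n (e - castE n μ) := fun j => by
  rw [Finsupp.sub_apply, castE_apply]
  have := he j
  omega

variable {n R} in
lemma coeff_single_mul' (c e : Fin (n+1) →₀ ℤ) (r : R) (ℓ : Lau n R) :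
    (single c r * ℓ).coeff e = r * ℓ.coeff (e - c) := by
  rw [mul_comm, coeff_mul_single_apply, mul_comm, sub_eq_add_neg]

variable {n R} in
/-- multiplication by a polynomial commutes with the projection to the negative part, up to the
projection. -/
theorem piN_ιL_mul (f : MvPolynomial (Fin (n+1)) R) (ℓ : Lau n R) :
    piN n R (ιL n R f * piN n R ℓ) = piN n R (ιL n R f * ℓ) := by
  classical
  induction f using MvPolynomial.induction_on' with
  | monomial μ r =>
    rw [ιL_monomial]
    apply coeff_injective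
    ext e
    rw [coeff_piN, coeff_piN]
    split_ifs with hE
    · rw [coeff_single_mul', coeff_single_mul', coeff_piN, if_pos (einf_sub_castE hE μ)]
    · rfl
  | add p q hp hq =>
    rw [map_add, add_mul, add_mul, map_add, map_add, hp, hq]

variable {n R} in
/-- the pairing with a polynomial: the coefficient of `T^{(-1,…,-1)}` in the product. -/
noncomputable def pairL (f : MvPolynomial (Fin (n+1)) R) (d : ℤ) : Nset n R d →ₗ[R] R where
  toFun g := (ιL n R f * g.1).coeff (e0 n)
  map_add' g g' := by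
    rw [Submodule.coe_add, mul_add, coeff_add, Finsupp.add_apply]
  map_smul' r g := by
    rw [Submodule.coe_smul, mul_smul_comm, coeff_smul, Finsupp.smul_apply, RingHom.id_apply]

variable {n R} in
lemma pairL_apply (f : MvPolynomial (Fin (n+1)) R) (d : ℤ) (g : Nset n R d) :
    pairL f d g = (ιL n R f * g.1).coeff (e0 n) := rfl

variable {n R} in
lemma mono_negF_mem (k : ℕ) (μ : Fin (n+1) →₀ ℕ) (hμ : Finsupp.degree μ = k) :
    mono n R (negF n μ) ∈ Nset n R (-((n : ℤ) + 1 + k)) := by
  classical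
  intro e he
  rw [mono, coeff_single, Finsupp.single_apply] at he
  split_ifs at he with h
  · subst h
    refine ⟨?_, fun j => ?_⟩
    · rw [degree_negF, hμ]; ring
    · rw [negF_apply]; omega
  · exact absurd rfl he

variable {n R} in
lemma pairL_mono (f : MvPolynomial (Fin (n+1)) R) (k : ℕ) (μ : Fin (n+1) →₀ ℕ)
    (hμ : Finsupp.degree μ = k) :
    pairL f (-((n : ℤ) + 1 + k)) ⟨mono n R (negF n μ), mono_negF_mem k μ hμ⟩ =
      MvPolynomial.coeff μ f := by
  rw [pairL_apply]
  change (ιL n R f * mono n R (negF n μ)).coeff (e0 n) = _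
  rw [coeff_mul_mono, e0_sub_negF, coeff_ιL]

variable {n R} in
/-- an exponent of degree `-(n+1+k)` with all entries negative is `-1-μ` with `|μ| = k`. -/
lemma exists_negF_eq (k : ℕ) (e : Fin (n+1) →₀ ℤ) (hd : Finsupp.degree e = -((n : ℤ) + 1 + k))
    (he : Einf n e) : ∃ μ : Fin (n+1) →₀ ℕ, Finsupp.degree μ = k ∧ negF n μ = e := by
  let μ : Fin (n+1) →₀ ℕ := Finsupp.equivFunOnFinite.symm fun i => (-(e i) - 1).toNat
  have hμ : negF n μ = e := by
    ext i
    rw [negF_apply]
    change -((((-(e i) - 1).toNat : ℕ) : ℤ)) - 1 = e i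
    have := he i
    rw [Int.toNat_of_nonneg (by omega)]
    ring
  refine ⟨μ, ?_, hμ⟩
  have h2 := degree_negF μ
  rw [hμ, hd] at h2
  have : ((Finsupp.degree μ : ℕ) : ℤ) = k := by linarith
  exact_mod_cast this

variable {n R} in
/-- linear maps on the negative part are determined by their values on monomials. -/
theorem Nset_ext {M : Type*} [AddCommGroup M] [Module R M] (k : ℕ)
    (L L' : Nset n R (-((n : ℤ) + 1 + k)) →ₗ[R] M)
    (h : ∀ (μ : Fin (n+1) →₀ ℕ) (hμ : Finsupp.degree μ = k),
      L ⟨mono n R (negF n μ), mono_negF_mem k μ hμ⟩ =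
        L' ⟨mono n R (negF n μ), mono_negF_mem k μ hμ⟩) : L = L' := by
  classical
  ext g
  obtain ⟨b, hb, hbg⟩ := exists_negMap_eq k g.1 g.2
  -- decompose `b` as a sum of monomials
  have key : ∀ (b : MvPolynomial (Fin (n+1)) R) (hb : b.IsHomogeneous k),
      L ⟨negMap n R b, negMap_mem k b hb⟩ = L' ⟨negMap n R b, negMap_mem k b hb⟩ := by
    intro b hb
    have hdeg : ∀ μ ∈ b.support, Finsupp.degree μ = k := by
      intro μ hμ
      have h1 : Finsupp.weight (1 : Fin (n+1) → ℕ) μ = k :=
        hb (MvPolynomial.mem_support_iff.1 hμ)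
      have h4 : Finsupp.weight (1 : Fin (n+1) → ℕ) μ = Finsupp.degree μ := by
        rw [Finsupp.degree_eq_weight_one]; rfl
      rw [← h4, h1]
    have hsum : (⟨negMap n R b, negMap_mem k b hb⟩ : Nset n R (-((n : ℤ) + 1 + k))) =
        ∑ μ ∈ b.support.attach, (MvPolynomial.coeff μ.1 b) •
          (⟨mono n R (negF n μ.1), mono_negF_mem k μ.1 (hdeg μ.1 μ.2)⟩ :
            Nset n R (-((n : ℤ) + 1 + k))) := by
      apply Subtype.ext
      rw [AddSubmonoidClass.coe_finset_sum]
      simp only [Submodule.coe_smul]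
      rw [Finset.sum_attach b.support (fun μ => MvPolynomial.coeff μ b • mono n R (negF n μ))]
      conv_lhs => rw [← MvPolynomial.support_sum_monomial_coeff b]
      rw [map_sum]
      apply Finset.sum_congr rfl
      intro μ _
      change AddMonoidAlgebra.mapDomain (negF n) (AddMonoidAlgebra.single μ (MvPolynomial.coeff μ b)) = _
      rw [AddMonoidAlgebra.mapDomain_single, mono, AddMonoidAlgebra.smul_single, smul_eq_mul,
        mul_one]
    rw [hsum, map_sum, map_sum]
    apply Finset.sum_congr rfl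
    intro μ _
    rw [map_smul, map_smul, h μ.1 (hdeg μ.1 μ.2)]
  have := key b hb
  have hg : g = ⟨negMap n R b, negMap_mem k b hb⟩ := Subtype.ext hbg.symm
  rw [hg]
  exact this

variable {n R} in
theorem pairL_injective (k : ℕ) (f f' : MvPolynomial (Fin (n+1)) R) (hf : f.IsHomogeneous k)
    (hf' : f'.IsHomogeneous k)
    (h : pairL f (-((n : ℤ) + 1 + k)) = pairL f' (-((n : ℤ) + 1 + k))) : f = f' := by
  apply MvPolynomial.ext
  intro μ
  by_cases hμ : Finsupp.degree μ = k
  · rw [← pairL_mono f k μ hμ, ← pairL_mono f' k μ hμ, h]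
  · rw [hf.coeff_eq_zero hμ, hf'.coeff_eq_zero hμ]

variable {n R} in
open Classical in
theorem exists_pairL_eq (k : ℕ) (L : Nset n R (-((n : ℤ) + 1 + k)) →ₗ[R] R) :
    ∃ f : MvPolynomial (Fin (n+1)) R, f.IsHomogeneous k ∧ pairL f (-((n : ℤ) + 1 + k)) = L := by
  let cf : (Fin (n+1) →₀ ℕ) → R := fun μ =>
    if h : Finsupp.degree μ = k then L ⟨mono n R (negF n μ), mono_negF_mem k μ h⟩ else 0
  let S : Finset (Fin (n+1) →₀ ℕ) := Finset.finsuppAntidiag Finset.univ k
  have hS : ∀ μ : Fin (n+1) →₀ ℕ, μ ∈ S ↔ Finsupp.degree μ = k := by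
    intro μ
    rw [Finset.mem_finsuppAntidiag, Finsupp.degree_eq_sum]
    simp
  let f : MvPolynomial (Fin (n+1)) R := ∑ μ ∈ S, MvPolynomial.monomial μ (cf μ)
  have hcoeff : ∀ μ, MvPolynomial.coeff μ f = cf μ := by
    intro μ
    rw [MvPolynomial.coeff_sum]
    simp only [MvPolynomial.coeff_monomial]
    rw [Finset.sum_ite_eq' S μ cf]
    split_ifs with h
    · rfl
    · have : ¬ Finsupp.degree μ = k := fun h' => h ((hS μ).2 h')
      change 0 = dite _ _ _
      rw [dif_neg this]
  have hf : f.IsHomogeneous k := by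
    apply MvPolynomial.IsHomogeneous.sum
    intro μ hμ
    apply MvPolynomial.isHomogeneous_monomial
    have := (hS μ).1 hμ
    rw [← this, Finsupp.degree_eq_weight_one]
  refine ⟨f, hf, ?_⟩
  apply Nset_ext k
  intro μ hμ
  rw [pairL_mono f k μ hμ, hcoeff μ]
  exact dif_pos hμ

variable {n R} in
theorem pairL_injective' (k : ℕ) (d : ℤ) (hd : d = -((n : ℤ) + 1 + k))
    (f f' : MvPolynomial (Fin (n+1)) R) (hf : f.IsHomogeneous k)
    (hf' : f'.IsHomogeneous k) (h : pairL f d = pairL f' d) : f = f' := by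
  subst hd
  exact pairL_injective k f f' hf hf' h

variable {n R} in
theorem exists_pairL_eq' (k : ℕ) (d : ℤ) (hd : d = -((n : ℤ) + 1 + k))
    (L : Nset n R d →ₗ[R] R) :
    ∃ f : MvPolynomial (Fin (n+1)) R, f.IsHomogeneous k ∧ pairL f d = L := by
  subst hd
  exact exists_pairL_eq k L

/-- the coefficient of `T^{(-1,…,-1)}`. -/
noncomputable def coefL (d : ℤ) : Nset n R d →ₗ[R] R where
  toFun g := g.1.coeff (e0 n)
  map_add' g g' := by
    rw [Submodule.coe_add, coeff_add, Finsupp.add_apply]
  map_smul' r g := by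
    rw [Submodule.coe_smul, coeff_smul, Finsupp.smul_apply, RingHom.id_apply]

variable {n R} in
lemma coefL_apply (d : ℤ) (g : Nset n R d) : coefL n R d g = g.1.coeff (e0 n) := rfl

variable {n} in
lemma eq_e0 (e : Fin (n+1) →₀ ℤ) (hd : Finsupp.degree e = -((n : ℤ) + 1)) (he : Einf n e) :
    e = e0 n := by
  obtain ⟨μ, hμ, rfl⟩ := exists_negF_eq 0 e (by rw [hd]; simp) he
  rw [(Finsupp.degree_eq_zero_iff μ).1 hμ]

theorem coefL_bijective : Function.Bijective (coefL n R (-((n : ℤ) + 1))) := by
  classical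
  constructor
  · rw [← LinearMap.ker_eq_bot, LinearMap.ker_eq_bot']
    intro g hg
    apply Subtype.ext
    apply coeff_injective
    ext e
    rw [Submodule.coe_zero, coeff_zero, Finsupp.zero_apply]
    by_contra hne
    obtain ⟨h1, h2⟩ := g.2 e hne
    rw [eq_e0 e h1 h2] at hne
    exact hne hg
  · intro r
    refine ⟨⟨single (e0 n) r, ?_⟩, ?_⟩
    · intro e he
      rw [coeff_single, Finsupp.single_apply] at he
      split_ifs at he with h
      · subst h
        exact ⟨degree_e0 n, einf_e0 n⟩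
      · exact absurd rfl he
    · rw [coefL_apply]
      change (single (e0 n) r).coeff (e0 n) = r
      rw [coeff_single, Finsupp.single_apply, if_pos rfl]

variable {n R} in
/-- the coefficient of `T^{(-1,…,-1)}` in the negative part of a product. -/
lemma coefL_piN (f : MvPolynomial (Fin (n+1)) R) (d d' : ℤ) (g : Nset n R d)
    (h : piN n R (ιL n R f * g.1) ∈ Nset n R d') :
    coefL n R d' ⟨piN n R (ιL n R f * g.1), h⟩ = pairL f d g := by
  classical
  rw [coefL_apply, pairL_apply]
  change (piN n R (ιL n R f * g.1)).coeff (e0 n) = _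
  rw [coeff_piN, if_pos (einf_e0 n)]

end Groth.Agent.LD.PN
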