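import Groth.Agent.Lib.Lead.PN.TopLin
import Groth.Agent.Lib.Lead.PN.PairAlg
import Groth.Agent.Lib.Lead.TW.HomClass

/-! # Duality on projective space: the pairing `H^0(O(n)) × H^r(O(-n-r-1)) → H^r(O(-r-1)) ≅ R`. -/

universe u
open CategoryTheory AlgebraicGeometry TopologicalSpace Opposite Limits AddMonoidAlgebra

namespace Groth.Agent.LD.PN

variable {n : ℕ} {R : Type u} [CommRing R]

open Twist TW CH

theorem theta_mul {c c' : Fin (n+1) →₀ ℕ} {v : Fin (n+1)} (hc : c = c' + Finsupp.single v 1)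
    (d d' : ℤ) (k : ℕ) (hd : d' = k + d)
    {V : Opens (ProjectiveSpectrum.top (CohB1.polyGrading n R))}
    (hV : V = ProjectiveSpectrum.basicOpen (CohB1.polyGrading n R) (G c))
    (f : MvPolynomial (Fin (n+1)) R) (hf : f ∈ CohB1.polyGrading n R k)
    (s : sectN (𝒜 := (CohB1.polyGrading n R)) d (op V))
    (t : sectN (𝒜 := (CohB1.polyGrading n R)) d' (op V))
    (hst : ∀ x : V, ((t.1 x : twistAt (CohB1.polyGrading n R) d' x.1) :
        Loc (CohB1.polyGrading n R) x.1) =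
      Localization.mk f 1 * ((s.1 x : twistAt (CohB1.polyGrading n R) d x.1) :
        Loc (CohB1.polyGrading n R) x.1)) :
    theta n R c d' hV.le t = ιL n R f * theta n R c d hV.le s := by
  obtain ⟨ℓ, h, h'⟩ := exists_isRep hc d hV s
  obtain ⟨kk, j, b, hb, hj, rfl⟩ := h
  have hH : IsHomog (CohB1.polyGrading n R) (G c) (Finsupp.degree c) d
      (Localization.mk b (gpow (G c) kk)) := ⟨kk, j, b, hb, hj, rfl⟩
  have hH' : IsHomog (CohB1.polyGrading n R) (G c) (Finsupp.degree c) d'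
      (Localization.mk (f * b) (gpow (G c) kk)) := by
    refine ⟨kk, k + j, _, SetLike.mul_mem_graded hf hb, ?_, rfl⟩
    push_cast
    rw [hj, hd]
    ring
  have hR' : IsRep (G c) hV.le t (Localization.mk (f * b) (gpow (G c) kk)) := by
    intro x
    rw [hst x, h' x, toLoc_mk _ x.1 (hV.le x.2) b kk (pow_notMem _ x.1 (hV.le x.2) kk),
      toLoc_mk _ x.1 (hV.le x.2) _ kk (pow_notMem _ x.1 (hV.le x.2) kk), Localization.mk_mul]
    congr 1
    exact one_mul _
  rw [theta_eq hc d hV s hH h', theta_eq hc d' hV t hH' hR']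
  change lam c (Localization.mk _ (⟨G c ^ kk, kk, rfl⟩ : Submonoid.powers (G c))) =
    ιL n R f * lam c (Localization.mk _ (⟨G c ^ kk, kk, rfl⟩ : Submonoid.powers (G c)))
  rw [lam_mk, lam_mk, map_mul, mul_assoc]

/-- `φ` is pointwise the multiplication by the polynomial `f`. -/
def IsMulBy {d d' : ℤ}
    (φ : twist (CohB1.polyGrading n R) d ⟶ twist (CohB1.polyGrading n R) d')
    (f : MvPolynomial (Fin (n+1)) R) : Prop :=
  ∀ (W : (Proj (CohB1.polyGrading n R)).Opens) (t : Γ(twist (CohB1.polyGrading n R) d, W))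
    (y : W), secVal (φ.app W t) y = Localization.mk f 1 * secVal t y

variable (R) in
lemma thetaP_mul {d d' : ℤ} (k : ℕ) (hd : d' = k + d)
    (φ : twist (CohB1.polyGrading n R) d ⟶ twist (CohB1.polyGrading n R) d')
    (f : MvPolynomial (Fin (n+1)) R) (hf : f ∈ CohB1.polyGrading n R k) (hφ : IsMulBy φ f)
    (len : ℕ) (a : Fin (len+1) → Idx.{u} n)
    (s : (twist (CohB1.polyGrading n R) d).presheaf.obj (op (∏ᶜ (UU n R ∘ a)))) :
    thetaP R d' len a (φ.app (∏ᶜ (UU n R ∘ a)) s) = ιL n R f * thetaP R d len a s :=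
  theta_mul (cOf_fact a) d d' k hd (prod_eq_basicOpen R a) f hf s _ (fun x => hφ _ s x)

variable (R) in
/-- the map induced on the top cohomology by the multiplication by a homogeneous polynomial. -/
theorem HHTop_map (m : ℕ) {d d' : ℤ} (k : ℕ) (hd : d' = k + d)
    (φ : twist (CohB1.polyGrading (m+1) R) d ⟶ twist (CohB1.polyGrading (m+1) R) d')
    (f : MvPolynomial (Fin (m+1+1)) R) (hf : f ∈ CohB1.polyGrading (m+1) R k) (hφ : IsMulBy φ f)
    (x : Coh.HH (CohB1.ProjSpace (m+1) R) (Twist.twistProjSpace (m+1) R d) (m+1)) :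
    (HHTopEquiv R d' m (Sheaf.H.map
      ((SheafOfModules.toSheaf (CohB1.ProjSpace (m+1) R).ringCatSheaf).map φ) (m+1) x)).1 =
      piN (m+1) R (ιL (m+1) R f * (HHTopEquiv R d m x).1) := by
  set e := cechHHEquiv (X := Proj (CohB1.polyGrading (m+1) R)) (UU (m+1) R)
    (fun _ a => isAffineOpen_iInf R a) (iSup_UU (m+1) R)
    (twist (CohB1.polyGrading (m+1) R) d) (m+1) with he
  set e' := cechHHEquiv (X := Proj (CohB1.polyGrading (m+1) R)) (UU (m+1) R)
    (fun _ a => isAffineOpen_iInf R a) (iSup_UU (m+1) R)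
    (twist (CohB1.polyGrading (m+1) R) d') (m+1) with he'
  let φ' : Coh.toAb (twist (CohB1.polyGrading (m+1) R) d) ⟶
      Coh.toAb (twist (CohB1.polyGrading (m+1) R) d') :=
    (SheafOfModules.toSheaf (CohB1.ProjSpace (m+1) R).ringCatSheaf).map φ
  obtain ⟨z, hz⟩ := cls_surjective _ m (e.symm x)
  have h2 := cechHHEquiv_naturality (X := Proj (CohB1.polyGrading (m+1) R)) (UU (m+1) R)
    (fun _ a => isAffineOpen_iInf R a) (iSup_UU (m+1) R)
    (twist (CohB1.polyGrading (m+1) R) d) (twist (CohB1.polyGrading (m+1) R) d') (m+1) φ'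
    (e.symm x)
  rw [← he, ← he', AddEquiv.apply_symm_apply] at h2
  change (cechTopEquiv R d' m (e'.symm (Sheaf.H.map φ' (m+1) x))).1 =
    piN (m+1) R (ιL (m+1) R f * (cechTopEquiv R d m (e.symm x)).1)
  rw [← h2, AddEquiv.symm_apply_apply, ← hz]
  have h3 := cls_naturality (K := K (UU (m+1) R) (twist (CohB1.polyGrading (m+1) R) d).presheaf)
    (L := K (UU (m+1) R) (twist (CohB1.polyGrading (m+1) R) d').presheaf) m
    ((cechComplexFunctor (UU (m+1) R)).map φ'.hom) z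
  refine (congrArg (fun w => (cechTopEquiv R d' m w).1) h3).trans ?_
  rw [cechTopEquiv_cls, cechTopEquiv_cls, PsiTopN_val, PsiTopN_val, PsiTop_apply, PsiTop_apply]
  change piN (m+1) R (thetaP R d' (m+1) (idT m)
    (coch (UU (m+1) R) (twist (CohB1.polyGrading (m+1) R) d').presheaf (m+1)
      (((cechComplexFunctor (UU (m+1) R)).map φ'.hom).f (m+1) z.1) (idT m))) = _
  have h4 := coch_map (P := (twist (CohB1.polyGrading (m+1) R) d).presheaf)
    (Q := (twist (CohB1.polyGrading (m+1) R) d').presheaf) (UU (m+1) R) φ'.hom (m+1) z.1 (idT m)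
  refine (congrArg (fun t => piN (m+1) R (thetaP R d' (m+1) (idT m) t)) h4).trans ?_
  change piN (m+1) R (thetaP R d' (m+1) (idT m) (φ.app _ _)) = _
  rw [thetaP_mul R k hd φ f hf hφ, piN_ιL_mul]

variable (R) in
/-- the linear form "coefficient of `T^{(-1,…,-1)}`" on the top cohomology of `O(d)`. -/
noncomputable def trL (d : ℤ) (m : ℕ) :
    Coh.HH (CohB1.ProjSpace (m+1) R) (Twist.twistProjSpace (m+1) R d) (m+1) →ₗ[R] R :=
  (coefL (m+1) R d).comp
    ((HHTopEquiv R d m).toLinearEquiv (HHTopEquiv_smul R d m)).toLinearMap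

variable (R) in
lemma trL_apply (d : ℤ) (m : ℕ)
    (x : Coh.HH (CohB1.ProjSpace (m+1) R) (Twist.twistProjSpace (m+1) R d) (m+1)) :
    trL R d m x = coefL (m+1) R d (HHTopEquiv R d m x) := rfl

variable (R) in
theorem trL_bijective (m : ℕ) : Function.Bijective (trL R (-(((m+1 : ℕ) : ℤ) + 1)) m) :=
  (coefL_bijective (m+1) R).comp
    ((HHTopEquiv R (-(((m+1 : ℕ) : ℤ) + 1)) m).toLinearEquiv (HHTopEquiv_smul R _ m)).bijective

variable (R) in
theorem trL_map (m : ℕ) {d d' : ℤ} (k : ℕ) (hd : d' = k + d)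
    (φ : twist (CohB1.polyGrading (m+1) R) d ⟶ twist (CohB1.polyGrading (m+1) R) d')
    (f : MvPolynomial (Fin (m+1+1)) R) (hf : f ∈ CohB1.polyGrading (m+1) R k) (hφ : IsMulBy φ f)
    (x : Coh.HH (CohB1.ProjSpace (m+1) R) (Twist.twistProjSpace (m+1) R d) (m+1)) :
    trL R d' m (Sheaf.H.map
      ((SheafOfModules.toSheaf (CohB1.ProjSpace (m+1) R).ringCatSheaf).map φ) (m+1) x) =
      pairL f d (HHTopEquiv R d m x) := by
  classical
  rw [trL_apply, coefL_apply, HHTop_map R m k hd φ f hf hφ x, pairL_apply, coeff_piN,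
    if_pos (einf_e0 (m+1))]

variable (R) in
/-- all morphisms `O(d) ⟶ O(d')` on `P^{m+1}` vanish when `d' < d`. -/
theorem hom_eq_zero (m : ℕ) {d d' : ℤ} (h : d' < d)
    (φ : twist (CohB1.polyGrading (m+1) R) d ⟶ twist (CohB1.polyGrading (m+1) R) d') : φ = 0 := by
  haveI := subsingleton_sectN_top (R := R) (n := m+1) (Nat.succ_pos m) (-d + d') (by omega)
  apply hom_ext_of_val
  intro W t y
  rw [hom_val (X_range_mem (m+1) R) (irrelevant_eq_span (m+1) R) φ t y,
    Subsingleton.elim (multSec (X_range_mem (m+1) R) (irrelevant_eq_span (m+1) R) φ) 0]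
  change (0 : Loc (CohB1.polyGrading (m+1) R) y.1) * _ = 0
  rw [zero_mul]

variable (R) in
/-- every morphism `O(d) ⟶ O(d')` on `P^{m+1}`, `d' = k + d`, is the multiplication by a
homogeneous polynomial of degree `k`. -/
theorem exists_isMulBy (m : ℕ) {d d' : ℤ} (k : ℕ) (hd : d' = k + d)
    (φ : twist (CohB1.polyGrading (m+1) R) d ⟶ twist (CohB1.polyGrading (m+1) R) d') :
    ∃ f : MvPolynomial (Fin (m+1+1)) R, f ∈ CohB1.polyGrading (m+1) R k ∧ IsMulBy φ f := by
  have hk : -d + d' = (k : ℤ) := by omega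
  obtain ⟨f, hf⟩ := globalOf_surjective (n := m+1) (R := R) k
    (castSec hk (multSec (X_range_mem (m+1) R) (irrelevant_eq_span (m+1) R) φ))
  refine ⟨f.1, f.2, fun W t y => ?_⟩
  rw [hom_val (X_range_mem (m+1) R) (irrelevant_eq_span (m+1) R) φ t y]
  congr 1
  rw [← castSec_val hk, ← hf, globalOf_val]
  rfl

variable (R) in
/-- the multiplication by a homogeneous polynomial of degree `k` as a morphism `O(d) ⟶ O(d')`. -/
theorem exists_hom_isMulBy (m : ℕ) {d d' : ℤ} (k : ℕ) (hd : d' = k + d)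
    (f : MvPolynomial (Fin (m+1+1)) R) (hf : f ∈ CohB1.polyGrading (m+1) R k) :
    ∃ φ : twist (CohB1.polyGrading (m+1) R) d ⟶ twist (CohB1.polyGrading (m+1) R) d',
      IsMulBy φ f := by
  obtain ⟨φ, hφ⟩ := exists_hom_of_sec hd (globalOf (CohB1.polyGrading (m+1) R) ⟨f, hf⟩)
  refine ⟨φ, fun W t y => (hφ W t y).trans ?_⟩
  rw [globalOf_val]
  rfl

theorem IsMulBy.ext {d d' : ℤ}
    {φ φ' : twist (CohB1.polyGrading n R) d ⟶ twist (CohB1.polyGrading n R) d'}
    {f : MvPolynomial (Fin (n+1)) R} (h : IsMulBy φ f) (h' : IsMulBy φ' f) : φ = φ' := by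
  apply hom_ext_of_val
  intro W t y
  rw [h W t y, h' W t y]

variable (R) in
/-- **duality on projective space**: `H^r(P^r, O(-r-1)) ≅ R`, and every linear form on
`H^r(P^r, O(-n-r-1))` is induced by a unique morphism `O(-n-r-1) ⟶ O(-r-1)`. -/
theorem duality_main (m : ℕ) :
    ∃ t : Coh.HH (CohB1.ProjSpace (m+1) R)
        (Twist.twistProjSpace (m+1) R (-(((m+1 : ℕ) : ℤ) + 1))) (m+1) ≃ₗ[R] R,
      ∀ (n : ℤ) (ψ : Coh.HH (CohB1.ProjSpace (m+1) R)
          (Twist.twistProjSpace (m+1) R (-(n + ((m+1 : ℕ) : ℤ) + 1))) (m+1) →ₗ[R] R),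
        ∃! φ : Twist.twistProjSpace (m+1) R (-(n + ((m+1 : ℕ) : ℤ) + 1)) ⟶
            Twist.twistProjSpace (m+1) R (-(((m+1 : ℕ) : ℤ) + 1)),
          ∀ x : Coh.HH (CohB1.ProjSpace (m+1) R)
              (Twist.twistProjSpace (m+1) R (-(n + ((m+1 : ℕ) : ℤ) + 1))) (m+1),
            ψ x = t (Sheaf.H.map
              ((SheafOfModules.toSheaf (CohB1.ProjSpace (m+1) R).ringCatSheaf).map φ) (m+1) x) := by
  refine ⟨LinearEquiv.ofBijective (trL R _ m) (trL_bijective R m), fun n ψ => ?_⟩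
  by_cases hn : 0 ≤ n
  · obtain ⟨k, rfl⟩ := Int.eq_ofNat_of_zero_le hn
    have hd : (-(((m+1 : ℕ) : ℤ) + 1)) = (k : ℤ) + (-((k : ℤ) + ((m+1 : ℕ) : ℤ) + 1)) := by ring
    have hd' : (-((k : ℤ) + ((m+1 : ℕ) : ℤ) + 1)) = -(((m+1 : ℕ) : ℤ) + 1 + k) := by ring
    let E := (HHTopEquiv R (-((k : ℤ) + ((m+1 : ℕ) : ℤ) + 1)) m).toLinearEquiv
      (HHTopEquiv_smul R _ m)
    obtain ⟨f, hf, hfL⟩ := exists_pairL_eq' k _ hd' (ψ.comp E.symm.toLinearMap)
    have hfmem : f ∈ CohB1.polyGrading (m+1) R k := (MvPolynomial.mem_homogeneousSubmodule _ _).2 hf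
    obtain ⟨φ, hφ⟩ := exists_hom_isMulBy R m k hd f hfmem
    have hψ : ∀ x, ψ x = pairL f _ (HHTopEquiv R _ m x) := by
      intro x
      rw [hfL]
      change ψ x = ψ (E.symm (E x))
      rw [LinearEquiv.symm_apply_apply]
    refine ⟨φ, fun x => ?_, fun φ₁ hφ₁ => ?_⟩
    · rw [hψ x]
      exact (trL_map R m k hd φ f hfmem hφ x).symm
    · obtain ⟨f₁, hf₁mem, hφ₁m⟩ := exists_isMulBy R m k hd φ₁
      have hff : f₁ = f := by
        apply pairL_injective' k _ hd' f₁ f ((MvPolynomial.mem_homogeneousSubmodule _ _).1 hf₁mem) hf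
        apply LinearMap.ext
        intro g
        obtain ⟨x, rfl⟩ := E.surjective g
        change pairL f₁ _ (HHTopEquiv R _ m x) = pairL f _ (HHTopEquiv R _ m x)
        rw [← hψ x, hφ₁ x]
        exact (trL_map R m k hd φ₁ f₁ hf₁mem hφ₁m x).symm
      subst hff
      exact hφ₁m.ext hφ
  · push Not at hn
    haveI : Subsingleton (Coh.HH (CohB1.ProjSpace (m+1) R)
        (Twist.twistProjSpace (m+1) R (-(n + ((m+1 : ℕ) : ℤ) + 1))) (m+1)) :=
      subsingleton_HH_twist_all (m+1) R (-(n + ((m+1 : ℕ) : ℤ) + 1)) (m+1) (by omega)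
        (by rintro ⟨-, h⟩; omega)
    refine ⟨0, fun x => ?_, fun φ _ => hom_eq_zero R m (by omega) φ⟩
    rw [Subsingleton.elim x 0, map_zero, map_zero, map_zero]

end Groth.Agent.LD.PN
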