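import Groth.Agent.Lib.Lead.PN.MulSurj2

/-! # Regularity and hyperplane sections: the cokernel of `F(-1) ↪ F`. -/

universe u
open CategoryTheory AlgebraicGeometry TopologicalSpace Opposite Limits

namespace Groth.Agent.LD.PN

variable (n : ℕ) (R : Type u) [CommRing R]

open Twist TW CH

/-- the short exact sequence `0 → F(-1) → F → C → 0` attached to a monomorphism. -/
theorem shortExact_cokernel {A B : (Proj (CohB1.polyGrading n R)).Modules} (ι : A ⟶ B) [Mono ι] :
    (ShortComplex.mk ι (cokernel.π ι) (cokernel.condition ι)).ShortExact :=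
  { exact := ShortComplex.exact_of_g_is_cokernel _ (cokernelIsCokernel ι)
    mono_f := inferInstanceAs (Mono ι)
    epi_g := inferInstanceAs (Epi (cokernel.π ι)) }

/-- the twisted sequence `0 → F(-1)(j) → F(j) → C(j) → 0`. -/
theorem shortExact_cokernel_twist {A B : (Proj (CohB1.polyGrading n R)).Modules} (ι : A ⟶ B)
    [Mono ι] (j : ℤ) :
    (ShortComplex.mk (KoszTw.tensorMap ι (𝟙 (twist (CohB1.polyGrading n R) j)))
      (KoszTw.tensorMap (cokernel.π ι) (𝟙 (twist (CohB1.polyGrading n R) j)))
      (by rw [← QC.tensorMap_comp_id, cokernel.condition,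
        QC.tensorMap_zero_id (isInvertible_twist n R j)])).ShortExact :=
  QC.shortExact_tensorMap_of_isInvertible (shortExact_cokernel n R ι)
    (twist (CohB1.polyGrading n R) j) (isInvertible_twist n R j)

/-- `H^i((F ⊗ O(a)) ⊗ O(b)) = 0` from `H^i(F(c)) = 0`, `c = a + b`. -/
theorem subsingleton_HH_twist_twist (F : (Proj (CohB1.polyGrading n R)).Modules)
    [F.IsQuasicoherent] (a b c : ℤ) (hc : a + b = c) (i : ℕ)
    (h : Subsingleton (Coh.HH (Proj (CohB1.polyGrading n R)) (kG n R F c) i)) :
    Subsingleton (Coh.HH (Proj (CohB1.polyGrading n R))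
      (CohB1.tensorMod (CohB1.tensorMod F (twist (CohB1.polyGrading n R) a))
        (twist (CohB1.polyGrading n R) b)) i) := by
  subst hc
  exact CL.subsingleton_of_iso (assocIso2 n R F a b).symm i h

/-- the converse transfer. -/
theorem subsingleton_HH_of_twist_twist (F : (Proj (CohB1.polyGrading n R)).Modules)
    [F.IsQuasicoherent] (a b c : ℤ) (hc : a + b = c) (i : ℕ)
    (h : Subsingleton (Coh.HH (Proj (CohB1.polyGrading n R))
      (CohB1.tensorMod (CohB1.tensorMod F (twist (CohB1.polyGrading n R) a))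
        (twist (CohB1.polyGrading n R) b)) i)) :
    Subsingleton (Coh.HH (Proj (CohB1.polyGrading n R)) (kG n R F c) i) := by
  subst hc
  exact CL.subsingleton_of_iso (assocIso2 n R F a b) i h

/-- **the cokernel of `F(-1) ↪ F` is `m`-regular when `F` is.** -/
theorem isReg_cokernel (F : (Proj (CohB1.polyGrading n R)).Modules) [F.IsQuasicoherent] (m : ℤ)
    (h : IsReg n R F m)
    (ι : CohB1.tensorMod F (twist (CohB1.polyGrading n R) (-1)) ⟶ F) [Mono ι] :
    IsReg n R (cokernel ι) m := by
  intro i hi
  have hT := shortExact_cokernel_twist n R ι (m - i)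
  refine CL.subsingleton_right hT i (h i hi) ?_
  apply subsingleton_HH_twist_twist n R F (-1) (m - i) (m - ((i + 1 : ℕ) : ℤ)) (by push_cast; ring)
  exact h (i + 1) (by omega)

end Groth.Agent.LD.PN
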