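import Mathlib
import Groth.Agent.Lib.Lead.EZ.ExtLocFreeLin
import Groth.Agent.Lib.Lead.PN.SerreDualExt2
import Groth.Agent.Lib.Lead.QC.LocFree

/-! # Serre duality on projective space for finite locally free modules. -/

set_option autoImplicit false
universe u
open CategoryTheory Limits Opposite Abelian AlgebraicGeometry TopologicalSpace

namespace Groth.Agent.LD.PN
open Twist Groth.Agent.LD.EZ Groth.Agent.LD.MS Groth.Agent.LD.QC Groth.Agent.LD

variable (n : ℕ) (k : Type u) [Field k]

theorem serre_duality_locFree (F : (Proj (CohB1.polyGrading n k)).Modules)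
    (hF : FlatMod.IsFinLocFree F) [DCoh.HasSheafHom F] (i : ℕ) (hi : i ≤ n) :
    Nonempty (Module.Dual k (Coh.HH (Proj (CohB1.polyGrading n k)) F i) ≃ₗ[k]
      Coh.HH (Proj (CohB1.polyGrading n k))
        ((DCoh.sheafHom F).obj (twist (CohB1.polyGrading n k) (-((n : ℤ) + 1)))) (n - i)) := by
  haveI : ModSite.HasSheafHom (O := (Proj (CohB1.polyGrading n k)).sheaf) F := hasSheafHom _
  haveI := Groth.Agent.H1.sheafOfModules_isGrothendieckAbelian
    (Opens.grothendieckTopology (Proj (CohB1.polyGrading n k)))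
    (Proj (CohB1.polyGrading n k)).ringCatSheaf
  haveI : EnoughInjectives (Proj (CohB1.polyGrading n k)).Modules :=
    inferInstanceAs (EnoughInjectives
      (SheafOfModules.{u} (Proj (CohB1.polyGrading n k)).ringCatSheaf))
  haveI : HasExt.{u} (Proj (CohB1.polyGrading n k)).Modules :=
    hasExt_of_enoughInjectives.{u} _
  have hcoh : Coh.IsCoh F := by
    haveI := isFinitePresentation_of_isFinLocFree F hF
    exact ⟨inferInstance, inferInstance⟩
  obtain ⟨e1⟩ := (serre_duality_ext n k F hcoh (n - i)).1 i (by omega)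
  obtain ⟨e2⟩ := nonempty_ext_linearEquiv_HH_sheafHom k F
    (twist (CohB1.polyGrading n k) (-((n : ℤ) + 1))) hF (n - i)
  let e3 := CL.HHisoEquiv k
    ((sheafHomDCohIso F).app (twist (CohB1.polyGrading n k) (-((n : ℤ) + 1)))) (n - i)
  exact ⟨e1.symm ≪≫ₗ e2 ≪≫ₗ e3⟩

end Groth.Agent.LD.PN
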