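import Mathlib
import Groth.Agent.Lib.Lead.PN.AmpleFin
import Groth.Agent.Lib.Lead.PN.AmpleSerreRel2
import Groth.Agent.Lib.Lead.PN.AmpleDev
import Groth.Agent.Lib.Lead.SC.RPushCover
import Groth.Agent.Lib.Lead.QC.CounitEpi2
import Groth.Agent.Lib.Lead.QC.PullRel
import Groth.Agent.Lib.Lead.QC.ProjFormula
import Groth.Agent.Lib.Lead.QCQS.BaseChange
import Groth.Agent.Lib.Lead.AS.Vanish
import Groth.Agent.Lib.Helper1.ThickeningLocal
import Groth.Agent.H4.GenSec

/-!
# Serre vanishing and generation for `g'_* G ⊗ L^n` over an affine base change (EGA III 2.4, S5748)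

For a cartesian square `X' = X ×_Y Y'` with `f : X ⟶ Y` proper, `Y` Noetherian, `L` ample relative
to `f`, `g : Y' ⟶ Y` affine and locally of finite type and `G` coherent on `X'`: for `n ≫ 0` the
module `g'_* G ⊗ L^n` has no higher direct images under `f` and is generated by its direct image.
-/

set_option autoImplicit false
universe u
open CategoryTheory CategoryTheory.Limits AlgebraicGeometry TopologicalSpace Opposite

namespace Groth.Agent.LD.PN.ABS

open Groth.Agent.LD Groth.Agent.LD.QC Groth.Agent.LD.QCQS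

/-- induction principle for pushouts of commutative rings (copied from helper4's
`HbB.pushout_induction`). -/
theorem pushout_induction {R C R' C' : CommRingCat.{u}} {ρ : R ⟶ C} {ψ : R ⟶ R'} {θ : C ⟶ C'}
    {ρ' : R' ⟶ C'} (h : IsPushout ρ ψ θ ρ') (P : C' → Prop) (h0 : P 0)
    (hadd : ∀ x y, P x → P y → P (x + y)) (hmul : ∀ (s : R') (c : C), P (ρ'.hom s * θ.hom c)) :
    ∀ c', P c' := by
  algebraize [ρ.hom, ψ.hom, θ.hom, ρ'.hom, θ.hom.comp ρ.hom]
  have : IsScalarTower R R' C' := .of_algebraMap_eq' <| congr($(h.1.1).hom)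
  have hpo : Algebra.IsPushout R C R' C' := CommRingCat.isPushout_iff_isPushout.mp h
  intro c'
  obtain ⟨z, rfl⟩ := (Algebra.IsPushout.equiv R C R' C').surjective c'
  induction z using TensorProduct.induction_on with
  | zero => rw [map_zero]; exact h0
  | tmul c s =>
    rw [Algebra.IsPushout.equiv_tmul, mul_comm]
    exact hmul s c
  | add x y hx hy => rw [map_add]; exact hadd _ _ hx hy

lemma isAmple_restrict_congr {X : Scheme.{u}} (L : X.Modules) {U U' : X.Opens} (h : U = U')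
    (ha : CohB1.IsAmple (L.restrict U.ι)) : CohB1.IsAmple (L.restrict U'.ι) := by
  subst h; exact ha

lemma subsingleton_HH_restrict_congr {X : Scheme.{u}} (M : X.Modules) {U U' : X.Opens}
    (h : U = U') (p : ℕ) (hs : Subsingleton (Coh.HH U.toScheme (M.restrict U.ι) p)) :
    Subsingleton (Coh.HH U'.toScheme (M.restrict U'.ι) p) := by
  subst h; exact hs

/-- if `H|_U` is a quotient of a finite free module, then the sections of `H` over an affine open
`W ⊆ U` are spanned by the restrictions of the sections over `U`. -/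
theorem mem_span_of_epi_free {X : Scheme.{u}} (H : X.Modules) [H.IsQuasicoherent] (U : X.Opens)
    {K : ℕ} (p : FlatMod.freeMod U.toScheme K ⟶ H.restrict U.ι) (hp : Epi p)
    (W : X.Opens) (hW : IsAffineOpen W) (hWU : W ≤ U) (t : Γ(H, W)) :
    t ∈ Submodule.span Γ(X, W)
      (Set.range (fun τ : Γ(H, U) => H.presheaf.map (homOfLE hWU).op τ)) := by
  classical
  let j := U.ι
  have himg : j ''ᵁ (j ⁻¹ᵁ W) = W := by
    rw [Scheme.Hom.image_preimage_eq_opensRange_inf, Scheme.Opens.opensRange_ι]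
    exact inf_eq_right.mpr hWU
  have hW'' : IsAffineOpen (j ⁻¹ᵁ W) := by
    rw [← Scheme.Hom.isAffineOpen_iff_of_isOpenImmersion j, himg]
    exact hW
  haveI : (H.restrict j).IsQuasicoherent := qc_restrict j H
  haveI := hp
  have hspan := Groth.Agent.H4.GenSec.span_eq_top_of_epi (M := H.restrict j) p hW''
  have htop : U ≤ j ''ᵁ ⊤ := U.ι_image_top.ge
  have key : ∀ t'' : Γ(H.restrict j, j ⁻¹ᵁ W),
      t'' ∈ Submodule.span Γ(U.toScheme, j ⁻¹ᵁ W) (Set.range fun k : Fin K =>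
        (Sigma.ι (fun _ : Fin K => unitMod U.toScheme) k ≫ p).app (j ⁻¹ᵁ W)
          (1 : Γ(U.toScheme, j ⁻¹ᵁ W))) →
      H.presheaf.map (homOfLE himg.ge).op (show Γ(H, j ''ᵁ (j ⁻¹ᵁ W)) from t'') ∈
        Submodule.span Γ(X, W)
          (Set.range (fun τ : Γ(H, U) => H.presheaf.map (homOfLE hWU).op τ)) := by
    intro t'' ht''
    induction ht'' using Submodule.span_induction with
    | mem x hx =>
      obtain ⟨k, rfl⟩ := hx
      refine Submodule.subset_span ⟨H.presheaf.map (homOfLE htop).op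
        (show Γ(H, j ''ᵁ ⊤) from
          sectionOfHom (Sigma.ι (fun _ : Fin K => unitMod U.toScheme) k ≫ p)), ?_⟩
      have h1 := val_restrict_eq H j
        (Sigma.ι (fun _ : Fin K => unitMod U.toScheme) k ≫ p) (j ⁻¹ᵁ W)
      change H.presheaf.map (homOfLE hWU).op (H.presheaf.map (homOfLE htop).op _) =
        H.presheaf.map (homOfLE himg.ge).op
          (show Γ(H, j ''ᵁ (j ⁻¹ᵁ W)) from
            SecTwist.val (Sigma.ι (fun _ : Fin K => unitMod U.toScheme) k ≫ p) (j ⁻¹ᵁ W))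
      rw [h1, res_res, res_res]
    | zero =>
      change H.presheaf.map (homOfLE himg.ge).op (0 : Γ(H, j ''ᵁ (j ⁻¹ᵁ W))) ∈ _
      rw [map_zero]
      exact Submodule.zero_mem _
    | add x y _ _ hx hy =>
      change H.presheaf.map (homOfLE himg.ge).op
        ((show Γ(H, j ''ᵁ (j ⁻¹ᵁ W)) from x) + (show Γ(H, j ''ᵁ (j ⁻¹ᵁ W)) from y)) ∈ _
      rw [map_add]
      exact Submodule.add_mem _ hx hy
    | smul a x _ hx =>
      have h2 : (show Γ(H, j ''ᵁ (j ⁻¹ᵁ W)) from a • x) =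
          (j.appIso (j ⁻¹ᵁ W)).inv.hom a • (show Γ(H, j ''ᵁ (j ⁻¹ᵁ W)) from x) := rfl
      rw [h2, Scheme.Modules.map_smul]
      exact Submodule.smul_mem _ _ hx
  have ht : t = H.presheaf.map (homOfLE himg.ge).op
      (show Γ(H, j ''ᵁ (j ⁻¹ᵁ W)) from H.presheaf.map (homOfLE himg.le).op t) := by
    rw [res_res, res_self]
  rw [ht]
  apply key
  rw [hspan]
  exact Submodule.mem_top

section CounitB

variable {X Y X' Y' : Scheme.{u}} {f : X ⟶ Y} {g : Y' ⟶ Y} {g' : X' ⟶ X} {f' : X' ⟶ Y'}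

/-- **local generation of `g'_* H` by its sections over `f⁻¹ V`**: if `H` is globally generated
over the preimage of the affine open `V` of `Y`, every section of `g'_* H` over an affine open
`W ⊆ f⁻¹ V` lifts through the counit `f^* f_* (g'_* H) ⟶ g'_* H`. -/
theorem exists_counit_lift (hsq : IsPullback g' f' f g) [IsAffineHom g] [IsAffineHom g']
    (H : X'.Modules) [H.IsQuasicoherent] (V : Y.Opens) (hV : IsAffineOpen V) {K : ℕ}
    (p : FlatMod.freeMod ((g' ≫ f) ⁻¹ᵁ V).toScheme K ⟶ H.restrict ((g' ≫ f) ⁻¹ᵁ V).ι)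
    (hp : Epi p) (W : X.Opens) (hW : IsAffineOpen W) (hWV : W ≤ f ⁻¹ᵁ V)
    (t : Γ((Scheme.Modules.pushforward g').obj H, W)) :
    ∃ γ : Γ((Scheme.Modules.pullback f).obj ((Scheme.Modules.pushforward f).obj
        ((Scheme.Modules.pushforward g').obj H)), W),
      ((Scheme.Modules.pullbackPushforwardAdjunction f).counit.app
        ((Scheme.Modules.pushforward g').obj H)).app W γ = t := by
  classical
  have hW' : IsAffineOpen (g' ⁻¹ᵁ W) := hW.preimage g'
  have hW'A : g' ⁻¹ᵁ W ≤ (g' ≫ f) ⁻¹ᵁ V := fun _ hx => hWV hx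
  have hA : (g' ≫ f) ⁻¹ᵁ V ≤ f' ⁻¹ᵁ (g ⁻¹ᵁ V) := by
    rw [hsq.w]
    exact le_rfl
  -- the liftable sections
  let S : Set Γ(H, g' ⁻¹ᵁ W) := {t' | ∃ γ : Γ((Scheme.Modules.pullback f).obj
      ((Scheme.Modules.pushforward f).obj ((Scheme.Modules.pushforward g').obj H)), W),
    ((Scheme.Modules.pullbackPushforwardAdjunction f).counit.app
      ((Scheme.Modules.pushforward g').obj H)).app W γ =
        (show Γ((Scheme.Modules.pushforward g').obj H, W) from t')}
  have hS0 : (0 : Γ(H, g' ⁻¹ᵁ W)) ∈ S := ⟨0, map_zero _⟩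
  have hSadd : ∀ x y, x ∈ S → y ∈ S → x + y ∈ S := by
    rintro x y ⟨γ, hγ⟩ ⟨γ', hγ'⟩
    refine ⟨γ + γ', ?_⟩
    rw [map_add, hγ, hγ']
    rfl
  have hSsmul : ∀ (c : Γ(X, W)) (x : Γ(H, g' ⁻¹ᵁ W)), x ∈ S → (g'.app W).hom c • x ∈ S := by
    rintro c x ⟨γ, hγ⟩
    refine ⟨c • γ, ?_⟩
    rw [Scheme.Modules.Hom.app_smul, hγ]
    rfl
  have hSres : ∀ τ : Γ(H, (g' ≫ f) ⁻¹ᵁ V), H.presheaf.map (homOfLE hW'A).op τ ∈ S := by
    intro τ
    refine ⟨pbSec f ((Scheme.Modules.pushforward f).obj ((Scheme.Modules.pushforward g').obj H))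
      hWV (show Γ((Scheme.Modules.pushforward f).obj ((Scheme.Modules.pushforward g').obj H), V)
        from τ), ?_⟩
    rw [counit_pbSec]
    rfl
  have hpo := Groth.Agent.H1.isPushout_appLE_of_isPullback hsq hV hW hWV
  have hstep : ∀ (τ : Γ(H, (g' ≫ f) ⁻¹ᵁ V)) (a : Γ(X', g' ⁻¹ᵁ W)),
      a • H.presheaf.map (homOfLE hW'A).op τ ∈ S := by
    intro τ
    refine pushout_induction hpo
      (fun a => a • H.presheaf.map (homOfLE hW'A).op τ ∈ S) ?_ ?_ ?_
    · change (0 : Γ(X', g' ⁻¹ᵁ W)) • H.presheaf.map (homOfLE hW'A).op τ ∈ S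
      rw [zero_smul]
      exact hS0
    · intro x y hx hy
      change (x + y) • H.presheaf.map (homOfLE hW'A).op τ ∈ S
      rw [add_smul]
      exact hSadd _ _ hx hy
    · intro s c
      have h2 : (f'.appLE (g ⁻¹ᵁ V) (g' ⁻¹ᵁ W) (hW'A.trans hA)).hom s =
          (X'.presheaf.map (homOfLE hW'A).op).hom
            ((f'.appLE (g ⁻¹ᵁ V) ((g' ≫ f) ⁻¹ᵁ V) hA).hom s) := by
        have h3 := Scheme.Hom.appLE_map f' hA (homOfLE hW'A).op
        rw [← h3]
        rfl
      have h1 : ((f'.appLE (g ⁻¹ᵁ V) (g' ⁻¹ᵁ W) (hW'A.trans hA)).hom s * (g'.app W).hom c) •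
            H.presheaf.map (homOfLE hW'A).op τ =
          (g'.app W).hom c • H.presheaf.map (homOfLE hW'A).op
            ((f'.appLE (g ⁻¹ᵁ V) ((g' ≫ f) ⁻¹ᵁ V) hA).hom s • τ) := by
        rw [mul_comm, mul_smul, Scheme.Modules.map_smul, h2]
      change ((f'.appLE (g ⁻¹ᵁ V) (g' ⁻¹ᵁ W) (hW'A.trans hA)).hom s * (g'.app W).hom c) •
        H.presheaf.map (homOfLE hW'A).op τ ∈ S
      rw [h1]
      exact hSsmul c _ (hSres _)
  have hall : ∀ t' : Γ(H, g' ⁻¹ᵁ W), ∀ a : Γ(X', g' ⁻¹ᵁ W), a • t' ∈ S := by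
    intro t'
    have hmem := mem_span_of_epi_free H ((g' ≫ f) ⁻¹ᵁ V) p hp (g' ⁻¹ᵁ W) hW' hW'A t'
    induction hmem using Submodule.span_induction with
    | mem x hx =>
      obtain ⟨τ, rfl⟩ := hx
      exact hstep τ
    | zero =>
      intro a
      rw [smul_zero]
      exact hS0
    | add x y _ _ hx hy =>
      intro a
      rw [smul_add]
      exact hSadd _ _ (hx a) (hy a)
    | smul b x _ hx =>
      intro a
      rw [smul_smul]
      exact hx (a * b)
  have hfin := hall (show Γ(H, g' ⁻¹ᵁ W) from t) 1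
  rw [one_smul] at hfin
  exact hfin

end CounitB

/-- **S5748** (with `f` proper). -/
theorem main {X Y X' Y' : Scheme.{u}} [IsNoetherian Y] (f : X ⟶ Y) [IsProper f]
    (L : X.Modules) (hL : PicF.IsInvertible L) (hamp : RelAmple.IsRelAmple f L)
    (g : Y' ⟶ Y) [IsAffineHom g] [LocallyOfFiniteType g] (g' : X' ⟶ X) (f' : X' ⟶ Y')
    (hsq : IsPullback g' f' f g) (G : X'.Modules) (hG : Coh.IsCoh G) :
    ∃ N : ℕ, ∀ n : ℕ, N ≤ n →
      (∀ p : ℕ, 0 < p →
        IsZero ((Coh.RpushAb f p).obj (Coh.toAb (CohB1.tensorMod ((Coh.push g').obj G)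
          (CohB1.tensorPow L n))))) ∧
      Epi ((Scheme.Modules.pullbackPushforwardAdjunction f).counit.app
        (CohB1.tensorMod ((Coh.push g').obj G) (CohB1.tensorPow L n))) := by
  classical
  haveI : IsAffineHom g' := MorphismProperty.of_isPullback hsq.flip inferInstance
  haveI : IsProper f' := MorphismProperty.of_isPullback hsq inferInstance
  haveI : IsLocallyNoetherian Y' := LocallyOfFiniteType.isLocallyNoetherian g
  haveI : G.IsQuasicoherent := hG.1
  haveI : L.IsQuasicoherent := qc_of_isInvertible L hL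
  have hL' : PicF.IsInvertible ((Scheme.Modules.pullback g').obj L) := isInvertible_pullback g' hL
  haveI : ((Scheme.Modules.pullback g').obj L).IsQuasicoherent := qc_of_isInvertible _ hL'
  haveI : QuasiCompact (g' ≫ f) := inferInstance
  -- relative ampleness of the pullback of `L` over `Y`
  have hrel : RelAmple.IsRelAmple (g' ≫ f) ((Scheme.Modules.pullback g').obj L) := by
    apply isRelAmple_pullback_of_forall
    intro V
    haveI : IsAffineHom (g' ∣_ (f ⁻¹ᵁ V.1)) :=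
      MorphismProperty.of_isPullback (isPullback_morphismRestrict g' (f ⁻¹ᵁ V.1)).flip inferInstance
    exact AmD.isAmple_pullback_of_isAffineHom _ _ (hamp.2 V)
  -- (a) Serre vanishing over preimages of affine opens
  have hA : ∀ V : Y.affineOpens, ∃ n₀ : ℕ, ∀ n : ℕ, n₀ ≤ n → ∀ p : ℕ, 0 < p →
      Subsingleton (Coh.HH (f' ⁻¹ᵁ (g ⁻¹ᵁ V.1)).toScheme
        ((CohB1.tensorMod G (CohB1.tensorPow ((Scheme.Modules.pullback g').obj L) n)).restrict
          (f' ⁻¹ᵁ (g ⁻¹ᵁ V.1)).ι) p) := by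
    intro V
    have e : (g' ≫ f) ⁻¹ᵁ V.1 = f' ⁻¹ᵁ (g ⁻¹ᵁ V.1) := by rw [hsq.w]; rfl
    exact AmS.serre_vanishing_preimage f' _ hL' G hG (g ⁻¹ᵁ V.1) (V.2.preimage g)
      (isAmple_restrict_congr _ e (hrel.2 V))
  -- (b) global generation over preimages of affine opens
  have hB : ∀ V : Y.affineOpens, ∃ n₀ : ℕ, ∀ n : ℕ, n₀ ≤ n →
      ∃ (K : ℕ) (p : FlatMod.freeMod ((g' ≫ f) ⁻¹ᵁ V.1).toScheme K ⟶
        (CohB1.tensorMod G (CohB1.tensorPow ((Scheme.Modules.pullback g').obj L) n)).restrict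
          ((g' ≫ f) ⁻¹ᵁ V.1).ι), Epi p := by
    intro V
    have hAm := hrel.2 V
    haveI : CompactSpace ((g' ≫ f) ⁻¹ᵁ V.1 : Scheme.{u}) := hAm.2.1
    haveI : Scheme.IsSeparated ((g' ≫ f) ⁻¹ᵁ V.1 : Scheme.{u}) :=
      isSeparated_of_affine_genLocus _ hAm.1 hAm.2.2
    haveI : QuasiSeparatedSpace ((g' ≫ f) ⁻¹ᵁ V.1 : Scheme.{u}) := inferInstance
    obtain ⟨n₀, hn₀⟩ := exists_epi_free_of_isAmple
      (((Scheme.Modules.pullback g').obj L).restrict ((g' ≫ f) ⁻¹ᵁ V.1).ι) hAm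
      (G.restrict ((g' ≫ f) ⁻¹ᵁ V.1).ι) (isFiniteType_restrict ((g' ≫ f) ⁻¹ᵁ V.1).ι G hG.2)
    refine ⟨n₀, fun n hn => ?_⟩
    obtain ⟨K, p, hp⟩ := hn₀ n hn
    let e : CohB1.tensorMod (G.restrict ((g' ≫ f) ⁻¹ᵁ V.1).ι)
        (CohB1.tensorPow (((Scheme.Modules.pullback g').obj L).restrict
          ((g' ≫ f) ⁻¹ᵁ V.1).ι) n) ≅
        (CohB1.tensorMod G (CohB1.tensorPow ((Scheme.Modules.pullback g').obj L) n)).restrict
          ((g' ≫ f) ⁻¹ᵁ V.1).ι :=
      tensorIso' (Iso.refl _) (restrictTensorPowIso ((g' ≫ f) ⁻¹ᵁ V.1).ι _ n) ≪≫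
        restrictTensorIso ((g' ≫ f) ⁻¹ᵁ V.1).ι G _
    exact ⟨K, p ≫ e.hom, epi_comp p e.hom⟩
  choose nA hnA using hA
  choose nB hnB using hB
  -- a finite affine cover of `Y`
  have hV : ∀ y : Y, ∃ V : Y.affineOpens, y ∈ V.1 := by
    intro y
    obtain ⟨V, hV, hyV, -⟩ := exists_isAffineOpen_mem_and_subset (x := y) (U := ⊤) trivial
    exact ⟨⟨V, hV⟩, hyV⟩
  choose V hyV using hV
  obtain ⟨Z, hZ⟩ := isCompact_univ.elim_finite_subcover (fun y : Y => (((V y).1 : Y.Opens) : Set Y))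
    (fun y => (V y).1.2) (fun y _ => Set.mem_iUnion.mpr ⟨y, hyV y⟩)
  refine ⟨Z.sup (fun z => max (nA (V z)) (nB (V z))), fun n hn => ?_⟩
  have hnz : ∀ z ∈ Z, nA (V z) ≤ n ∧ nB (V z) ≤ n := by
    intro z hz
    have h1 := Finset.le_sup (f := fun z => max (nA (V z)) (nB (V z))) hz
    have h2 : max (nA (V z)) (nB (V z)) ≤ n := h1.trans hn
    exact ⟨(le_max_left _ _).trans h2, (le_max_right _ _).trans h2⟩
  -- the projection formula isomorphism
  have hLn := isInvertible_tensorPow hL n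
  haveI : (CohB1.tensorPow L n).IsQuasicoherent := qc_of_isInvertible _ hLn
  haveI : (CohB1.tensorPow ((Scheme.Modules.pullback g').obj L) n).IsQuasicoherent :=
    qc_of_isInvertible _ (isInvertible_tensorPow hL' n)
  haveI : (CohB1.tensorMod G (CohB1.tensorPow ((Scheme.Modules.pullback g').obj L) n)).IsQuasicoherent :=
    tensorMod_isQuasicoherent _ _
  haveI : ((Scheme.Modules.pushforward g').obj G).IsQuasicoherent := qc_pushforward g' G
  haveI : (CohB1.tensorMod ((Scheme.Modules.pushforward g').obj G)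
      (CohB1.tensorPow L n)).IsQuasicoherent := tensorMod_isQuasicoherent _ _
  let e : CohB1.tensorMod ((Scheme.Modules.pushforward g').obj G) (CohB1.tensorPow L n) ≅
      (Scheme.Modules.pushforward g').obj
        (CohB1.tensorMod G (CohB1.tensorPow ((Scheme.Modules.pullback g').obj L) n)) :=
    projIso g' G (CohB1.tensorPow L n) hLn ≪≫
      (Scheme.Modules.pushforward g').mapIso (tensorIso' (Iso.refl _) (pbTensorPowIso g' L hL n))
  refine ⟨fun p hp => ?_, ?_⟩
  · -- (a)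
    refine SC.isZero_RpushAb_of_affine_cover f
      (CohB1.tensorMod ((Scheme.Modules.pushforward g').obj G) (CohB1.tensorPow L n)) p
      (fun y => ?_)
    obtain ⟨z, hzZ, hyz⟩ := Set.mem_iUnion₂.mp (hZ (Set.mem_univ y))
    refine ⟨(V z).1, (V z).2, hyz, ?_⟩
    have s1 := hnA (V z) n (hnz z hzZ).1 p hp
    have e' : f' ⁻¹ᵁ (g ⁻¹ᵁ (V z).1) = g' ⁻¹ᵁ (f ⁻¹ᵁ (V z).1) := by
      rw [← Scheme.Hom.comp_preimage, ← Scheme.Hom.comp_preimage, hsq.w]
    have s2 := subsingleton_HH_restrict_congr _ e' p s1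
    haveI : IsAffineHom (g' ∣_ (f ⁻¹ᵁ (V z).1)) :=
      MorphismProperty.of_isPullback (isPullback_morphismRestrict g' (f ⁻¹ᵁ (V z).1)).flip
        inferInstance
    haveI : ((CohB1.tensorMod G (CohB1.tensorPow ((Scheme.Modules.pullback g').obj L) n)).restrict
        (g' ⁻¹ᵁ (f ⁻¹ᵁ (V z).1)).ι).IsQuasicoherent := qc_restrict _ _
    have s3 := AmD.subsingleton_HH_push_of_affine (ULift.{u} ℤ)
      (specULiftZIsTerminal.from _) (g' ∣_ (f ⁻¹ᵁ (V z).1))
      ((CohB1.tensorMod G (CohB1.tensorPow ((Scheme.Modules.pullback g').obj L) n)).restrict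
        (g' ⁻¹ᵁ (f ⁻¹ᵁ (V z).1)).ι) p s2
    let e2 : (CohB1.tensorMod ((Scheme.Modules.pushforward g').obj G)
          (CohB1.tensorPow L n)).restrict (f ⁻¹ᵁ (V z).1).ι ≅
        (Scheme.Modules.pushforward (g' ∣_ (f ⁻¹ᵁ (V z).1))).obj
          ((CohB1.tensorMod G (CohB1.tensorPow ((Scheme.Modules.pullback g').obj L) n)).restrict
            (g' ⁻¹ᵁ (f ⁻¹ᵁ (V z).1)).ι) :=
      (Scheme.Modules.restrictFunctor (f ⁻¹ᵁ (V z).1).ι).mapIso e ≪≫
        (baseChangeIso g' (f ⁻¹ᵁ (V z).1)).app _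
    exact AS.subsingleton_HH_of_iso' e2.symm p s3
  · -- (b)
    have hepi : Epi ((Scheme.Modules.pullbackPushforwardAdjunction f).counit.app
        ((Scheme.Modules.pushforward g').obj
          (CohB1.tensorMod G (CohB1.tensorPow ((Scheme.Modules.pullback g').obj L) n)))) := by
      apply epi_of_local_lift
      intro U₀ t x hx
      obtain ⟨z, hzZ, hxz⟩ := Set.mem_iUnion₂.mp (hZ (Set.mem_univ (f x)))
      obtain ⟨K, p, hp⟩ := hnB (V z) n (hnz z hzZ).2
      obtain ⟨W, hW, hxW, hWle⟩ := exists_isAffineOpen_mem_and_subset (x := x)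
        (U := U₀ ⊓ f ⁻¹ᵁ (V z).1) ⟨hx, hxz⟩
      have hWU₀ : W ≤ U₀ := hWle.trans inf_le_left
      have hWV : W ≤ f ⁻¹ᵁ (V z).1 := hWle.trans inf_le_right
      obtain ⟨γ, hγ⟩ := exists_counit_lift hsq _ (V z).1 (V z).2 p hp W hW hWV
        (((Scheme.Modules.pushforward g').obj
          (CohB1.tensorMod G (CohB1.tensorPow ((Scheme.Modules.pullback g').obj L) n))).presheaf.map
            (homOfLE hWU₀).op t)
      exact ⟨W, hWU₀, hxW, γ, hγ⟩
    have hnat := (Scheme.Modules.pullbackPushforwardAdjunction f).counit.naturality e.hom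
    have hc : (Scheme.Modules.pullbackPushforwardAdjunction f).counit.app
        (CohB1.tensorMod ((Scheme.Modules.pushforward g').obj G) (CohB1.tensorPow L n)) =
        ((Scheme.Modules.pushforward f ⋙ Scheme.Modules.pullback f).map e.hom ≫
          (Scheme.Modules.pullbackPushforwardAdjunction f).counit.app _) ≫ e.inv := by
      rw [hnat]
      simp
    rw [hc]
    haveI := hepi
    infer_instance

end Groth.Agent.LD.PN.ABS
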