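import Mathlib
import Groth.Agent.Lib.Lead.PN.AmpleFin
import Groth.Agent.Lib.Lead.QC.ResDescFLF
open AlgebraicGeometry CategoryTheory Limits TopologicalSpace Opposite

/-! # Cohomological ampleness of sequences pulls back along finite morphisms (S13535). -/

set_option autoImplicit false
universe u

namespace Groth.Agent.LD.PN.AmD

open Groth.Agent.LD Groth.Agent.LD.QC

variable {X : Scheme.{u}}

/-- cohomology of the direct image of a quasi-coherent module along an affine morphism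
(converse direction). -/
theorem subsingleton_HH_of_push_of_affine (A : Type u) [CommRing A]
    (f : X ⟶ Spec (CommRingCat.of A)) {Y : Scheme.{u}} (g : Y ⟶ X) [IsAffineHom g]
    (M : Y.Modules) [M.IsQuasicoherent] (p : ℕ)
    (h : Subsingleton (Coh.HH X ((Scheme.Modules.pushforward g).obj M) p)) :
    Subsingleton (Coh.HH Y M p) := by
  letI : X.Over (Spec (CommRingCat.of A)) := ⟨f⟩
  letI : Y.Over (Spec (CommRingCat.of A)) := ⟨g ≫ f⟩
  haveI : g.IsOver (Spec (CommRingCat.of A)) := ⟨rfl⟩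
  obtain ⟨e⟩ := H2.nonempty_HH_pushforward_linearEquiv A g M (by
    intro q
    exact SC.isZero_rightDerived_push g.base {V : X.Opens | IsAffineOpen V}
      X.isBasis_affineOpens 0
      (fun V hV i _ => SC.subsingleton_ext_of_isAffineOpen M i (g ⁻¹ᵁ V) (hV.preimage g)) q
      (Nat.zero_le _)) p
  exact e.symm.toEquiv.subsingleton

/-- **S13535**. -/
theorem cohAmple_pullback_of_isFinite (A : Type u) [CommRing A]
    (pX : X ⟶ Spec (CommRingCat.of A)) {Y : Scheme.{u}} (f : Y ⟶ X) [IsFinite f]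
    (d : ℕ) (E : ℕ → X.Modules) (hE : ∀ n, Coh.IsCoh (E n))
    (hamp : ∀ F : X.Modules, Coh.IsCoh F → ∃ n₀ : ℕ, ∀ n : ℕ, n₀ ≤ n → ∀ i : ℕ, d + 1 ≤ i →
        Subsingleton (Coh.HH X (CohB1.tensorMod F (E n)) i)) :
    ∀ F : Y.Modules, Coh.IsCoh F → ∃ n₀ : ℕ, ∀ n : ℕ, n₀ ≤ n → ∀ i : ℕ, d + 1 ≤ i →
        Subsingleton (Coh.HH Y (CohB1.tensorMod F ((Scheme.Modules.pullback f).obj (E n))) i) := by
  intro F hF
  haveI := hF.1
  have hPF : Coh.IsCoh ((Scheme.Modules.pushforward f).obj F) :=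
    ⟨qc_pushforward f F, isFiniteType_pushforward_of_isFinite f F hF.2⟩
  obtain ⟨n₀, hn₀⟩ := hamp _ hPF
  refine ⟨n₀, fun n hn i hi => ?_⟩
  haveI := (hE n).1
  haveI := ResDesc.isIso_projHom_of_affine f F (E n)
  have h1 := CL.subsingleton_of_iso (asIso (projHom f F (E n))) i (hn₀ n hn i hi)
  haveI : ((Scheme.Modules.pullback f).obj (E n)).IsQuasicoherent := qc_pullback f (E n)
  exact subsingleton_HH_of_push_of_affine A pX f _ i h1

end Groth.Agent.LD.PN.AmD
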