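import Groth.Agent.Lib.Lead.PN.Theta
import Groth.Agent.Lib.Lead.Cech.Retract

/-! # Vanishing of the Čech cohomology of `O(d)` on projective space for the standard cover. -/

universe u
open CategoryTheory AlgebraicGeometry TopologicalSpace Opposite Limits

namespace Groth.Agent.LD.PN

variable (n : ℕ) (R : Type u) [CommRing R]

open Twist TW CH

/-- the index type of the standard cover. -/
abbrev Idx : Type u := ULift.{u} (Fin (n+1))

/-- the standard cover of projective space. -/
noncomputable def UU (v : Idx.{u} n) : (Proj (CohB1.polyGrading n R)).Opens :=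
  Proj.basicOpen (CohB1.polyGrading n R) (MvPolynomial.X v.down)

variable {n}

/-- the exponent vector of a tuple of indices. -/
noncomputable def cOf {len : ℕ} (a : Fin (len+1) → Idx.{u} n) : Fin (n+1) →₀ ℕ :=
  ∑ k, Finsupp.single (a k).down 1

lemma cOf_cons {len : ℕ} (v : Idx.{u} n) (a : Fin (len+1) → Idx.{u} n) :
    cOf (Fin.cons v a : Fin (len+2) → Idx.{u} n) = Finsupp.single v.down 1 + cOf a := by
  simp [cOf, Fin.sum_univ_succ]

lemma cOf_fact {len : ℕ} (a : Fin (len+1) → Idx.{u} n) :
    cOf a = (∑ k : Fin len, Finsupp.single (a k.castSucc).down 1) +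
      Finsupp.single (a (Fin.last len)).down 1 := by
  simp [cOf, Fin.sum_univ_castSucc]

lemma cOf_face {len : ℕ} (a : Fin (len+2) → Idx.{u} n) (i : Fin (len+2)) :
    cOf a = cOf (a ∘ i.succAbove) + Finsupp.single (a i).down 1 := by
  simp only [cOf, Function.comp_apply]
  rw [Fin.sum_univ_succAbove _ i]
  exact add_comm _ _

lemma cOf_apply {len : ℕ} (a : Fin (len+1) → Idx.{u} n) (j : Fin (n+1)) :
    cOf a j = (Finset.univ.filter fun k => (a k).down = j).card := by
  classical
  simp only [cOf, Finsupp.coe_finset_sum, Finset.sum_apply, Finsupp.single_apply]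
  rw [Finset.card_eq_sum_ones, Finset.sum_filter]

lemma exists_cOf_eq_zero {len : ℕ} (a : Fin (len+1) → Idx.{u} n) (h : len + 1 < n + 1) :
    ∃ j, cOf a j = 0 := by
  classical
  by_contra hcon
  push Not at hcon
  have hsurj : Function.Surjective fun k => (a k).down := by
    intro j
    have := hcon j
    rw [cOf_apply] at this
    obtain ⟨k, hk⟩ := Finset.card_pos.1 (Nat.pos_of_ne_zero this)
    exact ⟨k, (Finset.mem_filter.1 hk).2⟩
  have := Fintype.card_le_of_surjective _ hsurj
  simp at this
  omega

lemma G_cOf {len : ℕ} (a : Fin (len+1) → Idx.{u} n) :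
    (G (cOf a) : MvPolynomial (Fin (n+1)) R) = ∏ k, MvPolynomial.X (a k).down := by
  rw [G, cOf, MvPolynomial.monomial_sum_one]
  rfl

lemma prod_eq_basicOpen {len : ℕ} (a : Fin (len+1) → Idx.{u} n) :
    (∏ᶜ (UU n R ∘ a) : (Proj (CohB1.polyGrading n R)).Opens) =
      Proj.basicOpen (CohB1.polyGrading n R) (G (cOf a)) := by
  refine (prod_eq_iInf (X := (Proj (CohB1.polyGrading n R)).toTopCat) (UU n R) a).trans ?_
  apply SetLike.coe_injective
  rw [Opens.coe_iInf]
  ext x
  simp only [Set.mem_iInter, SetLike.mem_coe]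
  change (∀ k, (MvPolynomial.X (a k).down : MvPolynomial (Fin (n+1)) R) ∉
      (show ProjectiveSpectrum (CohB1.polyGrading n R) from x).asHomogeneousIdeal) ↔
    (G (cOf a) : MvPolynomial (Fin (n+1)) R) ∉
      (show ProjectiveSpectrum (CohB1.polyGrading n R) from x).asHomogeneousIdeal
  generalize (show ProjectiveSpectrum (CohB1.polyGrading n R) from x) = y
  rw [G_cOf, ← HomogeneousIdeal.mem_iff, Ideal.IsPrime.prod_mem_iff]
  push Not
  constructor
  · intro h k _
    exact h k
  · intro h k
    exact h k (Finset.mem_univ k)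

/-- the Laurent polynomial of a section of `O(d)` over a finite intersection of standard opens. -/
noncomputable def thetaP (d : ℤ) (len : ℕ) (a : Fin (len+1) → Idx.{u} n) :
    ((twist (CohB1.polyGrading n R) d).presheaf.obj (op (∏ᶜ (UU n R ∘ a)))) →+ Lau n R :=
  AddMonoidHom.mk' (fun s => theta n R (cOf a) d (prod_eq_basicOpen R a).le s)
    (fun s t => theta_add (cOf_fact a) d (prod_eq_basicOpen R a) s t)

/-- **Čech vanishing** for `O(d)` on projective space and the standard cover. -/
theorem isZero_cech (d : ℤ) (p : ℕ) (h : p + 2 < n + 1 ∨ -((n : ℤ) + 1) < d) :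
    IsZero ((K (UU n R) (twist (CohB1.polyGrading n R) d).presheaf).homology (p+1)) := by
  refine isZero_homology_of_projections (X := (Proj (CohB1.polyGrading n R)).toTopCat) (UU n R)
    (twist (CohB1.polyGrading n R) d).presheaf (thetaP R d) ?_ ?_ (fun v => ρ n R v.down) ?_ p ?_
  · intro len a
    exact theta_injective (cOf_fact a) d (prod_eq_basicOpen R a)
  · intro m b i s
    exact theta_res (cOf_fact (b ∘ i.succAbove)) (cOf_face b i) d
      (prod_eq_basicOpen R (b ∘ i.succAbove)) (prod_eq_basicOpen R b) (face (UU n R) b i).le s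
  · intro len v a y
    have h1 : thetaP R d (len+1) (Fin.cons v a) y ∈ Mset n R (cOf (Fin.cons v a : Fin (len+2) → _)) d :=
      theta_mem_Mset (cOf_fact _) d (prod_eq_basicOpen R _) y
    rw [cOf_cons] at h1
    exact exists_theta_eq (cOf_fact a) d (prod_eq_basicOpen R a) _ (ρ_mem_Mset v.down (cOf a) d _ h1)
  · intro a s
    have h1 : thetaP R d (p+1) a s ∈ Mset n R (cOf a) d :=
      theta_mem_Mset (cOf_fact _) d (prod_eq_basicOpen R _) s
    have h2 := sum_ρ (cOf a) d _ h1 (h.imp (fun h' => exists_cOf_eq_zero a h') id)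
    refine Eq.trans ?_ h2
    exact Fintype.sum_equiv Equiv.ulift _ _ (fun _ => rfl)

end Groth.Agent.LD.PN
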