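import Groth.Agent.Lib.Lead.PN.ClosedSub

/-! # Castelnuovo–Mumford regularity on closed subschemes of projective space over a field. -/

universe u
open CategoryTheory AlgebraicGeometry TopologicalSpace Opposite Limits

namespace Groth.Agent.LD.PN

variable (n : ℕ) (k : Type u) [Field k]

open Twist TW CH

variable {X : Scheme.{u}} (i : X ⟶ Proj (CohB1.polyGrading n k)) [IsClosedImmersion i]

/-- regularity on `X`, in terms of `i_* F`. -/
theorem isReg_push_iff (F : X.Modules) (m : ℤ) :
    IsReg n k ((Scheme.Modules.pushforward i).obj F) m ↔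
      ∀ q : ℕ, 1 ≤ q → Subsingleton (Coh.HH X (twOn n k i F (m - q)) q) := by
  constructor
  · intro h q hq
    exact (subsingleton_HH_twOn_iff n k i F (m - q) q).mpr (h q hq)
  · intro h q hq
    exact (subsingleton_HH_twOn_iff n k i F (m - q) q).mp (h q hq)

/-- regularity propagates upwards on `X`. -/
theorem isReg_on_of_le (F : X.Modules) (hF : Coh.IsCoh F) (m m' : ℤ) (hm : m ≤ m')
    (h : ∀ q : ℕ, 1 ≤ q → Subsingleton (Coh.HH X (twOn n k i F (m - q)) q)) :
    ∀ q : ℕ, 1 ≤ q → Subsingleton (Coh.HH X (twOn n k i F (m' - q)) q) := by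
  haveI : ((Scheme.Modules.pushforward i).obj F).IsQuasicoherent := (isCoh_push n k i F hF).1
  rw [← isReg_push_iff] at h ⊢
  exact isReg_of_le n k _ m m' hm h

section Linear
variable [X.Over (Spec (CommRingCat.of k))] [i.IsOver (Spec (CommRingCat.of k))]

theorem finrank_HH_twOn (F : X.Modules) (d : ℤ) (j : ℕ) :
    Module.finrank k (Coh.HH X (twOn n k i F d) j) =
      Module.finrank k (Coh.HH (Proj (CohB1.polyGrading n k))
        (kG n k ((Scheme.Modules.pushforward i).obj F) d) j) :=
  (HHtwEquiv n k i F d j).finrank_eq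

/-- **Mumford's lemma on a closed subscheme of projective space.** -/
theorem mumford_lemma_on (F G : X.Modules) (hF : Coh.IsCoh F)
    (f : twOn n k i F (-1) ⟶ F) (g : F ⟶ G) (hfg : f ≫ g = 0)
    (hS : (ShortComplex.mk f g hfg).ShortExact) (m : ℤ)
    (hGm : ∀ q : ℕ, 1 ≤ q → Subsingleton (Coh.HH X (twOn n k i G (m - q)) q)) :
    (∀ (q : ℕ) (n' : ℤ), 2 ≤ q → m - q ≤ n' → Subsingleton (Coh.HH X (twOn n k i F n') q)) ∧
    (∀ n' : ℤ, m - 1 ≤ n' →
      Module.finrank k (Coh.HH X (twOn n k i F n') 1) ≤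
        Module.finrank k (Coh.HH X (twOn n k i F (n' - 1)) 1)) ∧
    (∀ n' : ℤ, (m - 1) + (Module.finrank k (Coh.HH X (twOn n k i F (m - 1)) 1) : ℤ) ≤ n' →
      Subsingleton (Coh.HH X (twOn n k i F n') 1)) ∧
    (∀ q : ℕ, 1 ≤ q → Subsingleton (Coh.HH X
      (twOn n k i F (m + (Module.finrank k (Coh.HH X (twOn n k i F (m - 1)) 1) : ℤ) - q)) q)) := by
  have hFP := isCoh_push n k i F hF
  haveI : ((Scheme.Modules.pushforward i).obj F).IsQuasicoherent := hFP.1
  have hSP := shortExact_push n k i hS
  let ιP : CohB1.tensorMod ((Scheme.Modules.pushforward i).obj F)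
      (twist (CohB1.polyGrading n k) (-1)) ⟶ (Scheme.Modules.pushforward i).obj F :=
    (pushTwistIso n k i F (-1)).inv ≫ (Scheme.Modules.pushforward i).map f
  haveI : Mono ((Scheme.Modules.pushforward i).map f) := hSP.mono_f
  haveI hι : Mono ιP := mono_comp _ _
  have hw : ιP ≫ (Scheme.Modules.pushforward i).map g = 0 := by
    change ((pushTwistIso n k i F (-1)).inv ≫ (Scheme.Modules.pushforward i).map f) ≫ _ = 0
    rw [Category.assoc, ← Functor.map_comp, hfg, Functor.map_zero, comp_zero]
  have hS' : (ShortComplex.mk ιP ((Scheme.Modules.pushforward i).map g) hw).ShortExact := by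
    refine ShortComplex.shortExact_of_iso ?_ hSP
    exact ShortComplex.isoMk (pushTwistIso n k i F (-1)) (Iso.refl _) (Iso.refl _)
      (by
        change (pushTwistIso n k i F (-1)).hom ≫ ((pushTwistIso n k i F (-1)).inv ≫
          (Scheme.Modules.pushforward i).map f) = (Scheme.Modules.pushforward i).map f ≫ 𝟙 _
        rw [Category.comp_id, Iso.hom_inv_id_assoc])
      (by
        change 𝟙 _ ≫ (Scheme.Modules.pushforward i).map g = (Scheme.Modules.pushforward i).map g ≫ 𝟙 _
        rw [Category.comp_id, Category.id_comp])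
  let e : cokernel ιP ≅ (Scheme.Modules.pushforward i).obj G :=
    IsColimit.coconePointUniqueUpToIso (cokernelIsCokernel ιP) hS'.gIsCokernel
  have hG' : ∀ q : ℕ, 1 ≤ q → q ≤ n → Subsingleton (Coh.HH (Proj (CohB1.polyGrading n k))
      (CohB1.tensorMod (cokernel ιP) (twist (CohB1.polyGrading n k) (m - q))) q) := by
    intro q hq _
    have h1 := (subsingleton_HH_twOn_iff n k i G (m - q) q).mp (hGm q hq)
    exact CL.subsingleton_of_iso (QC.tensorIso' e (Iso.refl _)).symm q h1
  obtain ⟨c1, c2, c3, c4⟩ := mumford_lemma n k _ hFP ιP hι m hG'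
  have hfr : ∀ d : ℤ, Module.finrank k (Coh.HH X (twOn n k i F d) 1) =
      Module.finrank k (Coh.HH (Proj (CohB1.polyGrading n k))
        (CohB1.tensorMod ((Scheme.Modules.pushforward i).obj F)
          (twist (CohB1.polyGrading n k) d)) 1) := fun d => finrank_HH_twOn n k i F d 1
  refine ⟨fun q n' hq hn' => (subsingleton_HH_twOn_iff n k i F n' q).mpr (c1 q n' hq hn'),
    fun n' hn' => ?_, fun n' hn' => ?_, fun q hq => ?_⟩
  · rw [hfr, hfr]
    exact c2 n' hn'
  · rw [hfr] at hn'
    exact (subsingleton_HH_twOn_iff n k i F n' 1).mpr (c3 n' hn')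
  · rw [hfr]
    refine (subsingleton_HH_twOn_iff n k i F _ q).mpr ?_
    by_cases hqn : q ≤ n
    · exact c4 q hq hqn
    · haveI : (kG n k ((Scheme.Modules.pushforward i).obj F)
          (m + (Module.finrank k (Coh.HH (Proj (CohB1.polyGrading n k))
            (CohB1.tensorMod ((Scheme.Modules.pushforward i).obj F)
              (twist (CohB1.polyGrading n k) (m - 1))) 1) : ℤ) - q)).IsQuasicoherent :=
        kG_qc n k _ _
      exact subsingleton_HH_of_lt n k _ q (by omega)

end Linear

end Groth.Agent.LD.PN
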