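import Mathlib.LinearAlgebra.Matrix.Determinant.Basic
import Mathlib.LinearAlgebra.Matrix.ToLinearEquiv

/-! # The determinant cocycle of the full simplex. -/

namespace Groth.Agent.LD.PN

open Matrix

/-- the determinant of the `0/1`-matrix of a tuple: the sign for permutations, zero otherwise. -/
def eps {N : ℕ} (a : Fin N → Fin N) : ℤ :=
  Matrix.det (Matrix.of fun (k i : Fin N) => if a i = k then (1 : ℤ) else 0)

lemma eps_id {N : ℕ} : eps (id : Fin N → Fin N) = 1 := by
  unfold eps
  have : (Matrix.of fun (k i : Fin N) => if id i = k then (1 : ℤ) else 0) = 1 := by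
    ext k i
    simp [Matrix.one_apply, eq_comm]
  rw [this, Matrix.det_one]

lemma eps_of_not_injective {N : ℕ} (a : Fin N → Fin N) (h : ¬ Function.Injective a) :
    eps a = 0 := by
  unfold Function.Injective at h
  push Not at h
  obtain ⟨i, j, hij, hne⟩ := h
  exact Matrix.det_zero_of_column_eq hne (fun k => by simp [hij])

/-- the cocycle identity. -/
theorem eps_cocycle {N : ℕ} (b : Fin (N+1) → Fin N) :
    ∑ j : Fin (N+1), (-1 : ℤ)^(j:ℕ) * eps (b ∘ j.succAbove) = 0 := by
  let M : Matrix (Fin (N+1)) (Fin (N+1)) ℤ :=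
    Matrix.of fun r i => Fin.cases (1 : ℤ) (fun k => if b i = k then 1 else 0) r
  have hdet : M.det = 0 := by
    rw [← Matrix.exists_vecMul_eq_zero_iff]
    refine ⟨Fin.cons 1 (fun _ => -1), ?_, ?_⟩
    · intro h
      have := congrFun h 0
      simp at this
    · funext i
      rw [Matrix.vecMul, dotProduct, Fin.sum_univ_succ]
      simp only [Fin.cons_zero, Fin.cons_succ, M, Matrix.of_apply, Fin.cases_zero, Fin.cases_succ,
        one_mul, Pi.zero_apply, neg_mul, Finset.sum_neg_distrib, Finset.sum_ite_eq, Finset.mem_univ,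
        if_true]
      norm_num
  rw [Matrix.det_succ_row_zero] at hdet
  rw [← hdet]
  refine Finset.sum_congr rfl fun j _ => ?_
  have h0 : M 0 j = 1 := rfl
  rw [h0, mul_one]
  congr 1

end Groth.Agent.LD.PN
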