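import Groth.Agent.Lib.Lead.PN.Laurent

/-! # The negative part of the Laurent polynomial ring. -/

universe u

namespace Groth.Agent.LD.PN

variable (n : ℕ) (R : Type u) [CommRing R]

open AddMonoidAlgebra

/-- all exponents negative. -/
def Einf (e : Fin (n+1) →₀ ℤ) : Prop := ∀ j, e j < 0

open Classical in
/-- the projection onto the span of the monomials with all exponents negative. -/
noncomputable def piN : Lau n R →+ Lau n R :=
  (coeffAddEquiv.symm.toAddMonoidHom.comp (Finsupp.filterAddHom (Einf n))).comp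
    coeffAddEquiv.toAddMonoidHom

open Classical in
variable {n R} in
lemma coeff_piN (ℓ : Lau n R) (e : Fin (n+1) →₀ ℤ) :
    (piN n R ℓ).coeff e = if Einf n e then ℓ.coeff e else 0 := by
  change (Finsupp.filter (Einf n) ℓ.coeff) e = _
  rw [Finsupp.filter_apply]

open Classical in
variable {n R} in
lemma coeff_sum_ρ (ℓ : Lau n R) (e : Fin (n+1) →₀ ℤ) :
    (∑ v, ρ n R v ℓ).coeff e = if Einf n e then 0 else ℓ.coeff e := by
  rw [coeff_sum, Finsupp.finset_sum_apply]
  simp only [coeff_ρ]
  split_ifs with hE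
  · apply Finset.sum_eq_zero
    intro v _
    rw [if_neg]
    rintro ⟨h1, -⟩
    exact absurd (hE v) (not_lt.2 h1)
  · have hex : ∃ j, 0 ≤ e j := by
      unfold Einf at hE
      push Not at hE
      exact hE
    let S : Finset (Fin (n+1)) := Finset.univ.filter fun j => 0 ≤ e j
    have hS : S.Nonempty := by
      obtain ⟨j, hj⟩ := hex
      exact ⟨j, by simp [S, hj]⟩
    let v0 := S.min' hS
    have hv0 : 0 ≤ e v0 := by
      have := Finset.min'_mem S hS
      simpa [S] using this
    have hv0' : ∀ j, j < v0 → e j < 0 := by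
      intro j hj
      by_contra hcon
      push Not at hcon
      have : j ∈ S := by simp [S, hcon]
      exact absurd (Finset.min'_le S j this) (not_le.2 hj)
    rw [Finset.sum_eq_single v0]
    · rw [if_pos ⟨hv0, hv0'⟩]
    · intro v _ hv
      rw [if_neg]
      rintro ⟨hv1, hv2⟩
      rcases lt_trichotomy v v0 with hlt | heq | hgt
      · exact absurd hv1 (not_le.2 (hv0' v hlt))
      · exact hv heq
      · exact absurd hv0 (not_le.2 (hv2 v0 hgt))
    · intro h; exact absurd (Finset.mem_univ _) h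

variable {n R} in
theorem piN_add_sum_ρ (ℓ : Lau n R) : piN n R ℓ + ∑ v, ρ n R v ℓ = ℓ := by
  classical
  apply coeff_injective
  ext e
  rw [coeff_add, Finsupp.add_apply, coeff_piN, coeff_sum_ρ]
  split_ifs <;> simp

variable {n R} in
theorem piN_eq_zero (c : Fin (n+1) →₀ ℕ) (d : ℤ) (ℓ : Lau n R) (h : ℓ ∈ Mset n R c d)
    (hc : ∃ j, c j = 0) : piN n R ℓ = 0 := by
  classical
  apply coeff_injective
  ext e
  rw [coeff_piN, coeff_zero, Finsupp.zero_apply]
  split_ifs with hE
  · by_contra hne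
    obtain ⟨j, hj⟩ := hc
    have := (h e hne).2 j hj
    exact absurd (hE j) (not_lt.2 this)
  · rfl

/-- the span of the monomials of degree `d` with all exponents negative. -/
def Nset (d : ℤ) : Submodule R (Lau n R) where
  carrier := {ℓ | ∀ e : Fin (n+1) →₀ ℤ, ℓ.coeff e ≠ 0 → Finsupp.degree e = d ∧ Einf n e}
  zero_mem' := fun e he => absurd rfl he
  add_mem' := by
    intro a b ha hb e he
    rw [coeff_add, Finsupp.add_apply] at he
    by_cases h : a.coeff e = 0
    · rw [h, zero_add] at he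
      exact hb e he
    · exact ha e h
  smul_mem' := by
    intro r a ha e he
    rw [coeff_smul, Finsupp.smul_apply] at he
    apply ha e
    intro h
    rw [h, smul_zero] at he
    exact he rfl

variable {n R} in
lemma mem_Nset {d : ℤ} {ℓ : Lau n R} : ℓ ∈ Nset n R d ↔
    ∀ e : Fin (n+1) →₀ ℤ, ℓ.coeff e ≠ 0 → Finsupp.degree e = d ∧ Einf n e := Iff.rfl

variable {n R} in
theorem piN_mem_Nset (c : Fin (n+1) →₀ ℕ) (d : ℤ) (ℓ : Lau n R) (h : ℓ ∈ Mset n R c d) :
    piN n R ℓ ∈ Nset n R d := by
  classical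
  intro e he
  rw [coeff_piN] at he
  split_ifs at he with hE
  · exact ⟨(h e he).1, hE⟩
  · exact absurd rfl he

variable {n R} in
theorem piN_of_mem_Nset (d : ℤ) (ℓ : Lau n R) (h : ℓ ∈ Nset n R d) : piN n R ℓ = ℓ := by
  classical
  apply coeff_injective
  ext e
  rw [coeff_piN]
  split_ifs with hE
  · rfl
  · by_contra hne
    exact hE (h e (Ne.symm hne)).2

variable {n R} in
theorem mem_Mset_of_mem_Nset (c : Fin (n+1) →₀ ℕ) (d : ℤ) (ℓ : Lau n R) (h : ℓ ∈ Nset n R d)
    (hc : ∀ j, c j ≠ 0) : ℓ ∈ Mset n R c d := by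
  intro e he
  exact ⟨(h e he).1, fun j hj => absurd hj (hc j)⟩

variable {n R} in
lemma zero_mem_Mset (c : Fin (n+1) →₀ ℕ) (d : ℤ) : (0 : Lau n R) ∈ Mset n R c d :=
  fun _ he => absurd rfl he

variable {n R} in
lemma piN_smul (r : R) (ℓ : Lau n R) : piN n R (r • ℓ) = r • piN n R ℓ := by
  classical
  apply coeff_injective
  ext e
  rw [coeff_piN, coeff_smul, Finsupp.smul_apply, coeff_smul, Finsupp.smul_apply, coeff_piN]
  split_ifs <;> simp

end Groth.Agent.LD.PN
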