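import Groth.Agent.Lib.Lead.PN.Koszul
import Groth.Agent.Lib.Lead.TW.MulXTensor
import Groth.Agent.Lib.Lead.QC.TensorComm

/-! # Surjectivity of the multiplication maps of a regular module on projective space. -/

universe u
open CategoryTheory AlgebraicGeometry TopologicalSpace Opposite Limits TensorProduct

namespace Groth.Agent.LD.PN

variable (n : ℕ) (R : Type u) [CommRing R]

open Twist TW CH

/-- `(F ⊗ O(m)) ⊗ O(1) ≅ F ⊗ O(m+1)`. -/
noncomputable def assocIso (F : (Proj (CohB1.polyGrading n R)).Modules) [F.IsQuasicoherent]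
    (m : ℤ) :
    CohB1.tensorMod (CohB1.tensorMod F (twist (CohB1.polyGrading n R) m))
      (twist (CohB1.polyGrading n R) 1) ≅
      CohB1.tensorMod F (twist (CohB1.polyGrading n R) (m+1)) :=
  QC.tensorAssoc F (twist (CohB1.polyGrading n R) m) (twist (CohB1.polyGrading n R) 1) ≪≫
    QC.tensorIso' (Iso.refl F) (mulTensorIso (X_range_mem n R) (irrelevant_eq_span n R) m 1)

lemma assocIso_tmul (F : (Proj (CohB1.polyGrading n R)).Modules) [F.IsQuasicoherent] (m : ℤ)
    (U : (Proj (CohB1.polyGrading n R)).Opens) (f : Γ(F, U))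
    (a : Γ(twist (CohB1.polyGrading n R) m, U)) (t : Γ(twist (CohB1.polyGrading n R) 1, U)) :
    (assocIso n R F m).hom.app U (SecTwist.tmul _ _ U (SecTwist.tmul F _ U f a) t) =
      SecTwist.tmul F _ U f (mulBilin (CohB1.polyGrading n R) m 1 U a t) := by
  have h1 : (assocIso n R F m).hom.app U (SecTwist.tmul _ _ U (SecTwist.tmul F _ U f a) t) =
      (KoszTw.tensorMap (𝟙 F) (mulTensor (CohB1.polyGrading n R) m 1)).app U
        ((QC.tensorAssoc F (twist (CohB1.polyGrading n R) m)
          (twist (CohB1.polyGrading n R) 1)).hom.app U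
            (SecTwist.tmul _ _ U (SecTwist.tmul F _ U f a) t)) := rfl
  rw [h1, QC.tensorAssoc_hom_app_tmul, KoszTw.tensorMap_tmul, mulTensor_app_tmul]
  rfl

/-- the multiplication `F(m) ⊗ O(1) ⟶ F(m+1)` against the section `X_l` is the operator
`X_l : F(m) ⟶ F(m+1)`. -/
lemma assocIso_secDeg1 (F : (Proj (CohB1.polyGrading n R)).Modules) [F.IsQuasicoherent]
    (l : Fin (n+1)) (m : ℤ) (U : (Proj (CohB1.polyGrading n R)).Opens)
    (c : Γ(CohB1.tensorMod F (twist (CohB1.polyGrading n R) m), U)) :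
    (assocIso n R F m).hom.app U (SecTwist.tmul _ _ U c
      ((twist (CohB1.polyGrading n R) 1).presheaf.map (homOfLE (le_top : U ≤ ⊤)).op
        (secDeg1 (Xd n R l)))) =
      (KoszTw.tensorMap (𝟙 F) (mulX (Xd n R l) m)).app U c := by
  choose V hV hxV e he g hg using fun x : U =>
    QC.exists_local_tmul (G := F) (isInvertible_twist n R m) U c x.1 x.2
  apply QC.section_ext_of_cover _ V hV
  · intro x hx
    exact Opens.mem_iSup.2 ⟨⟨x, hx⟩, hxV ⟨x, hx⟩⟩
  · intro x
    rw [← QC.app_res, ← QC.app_res, QC.tmul_res, hg x, QC.res_res, assocIso_tmul,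
      KoszTw.tensorMap_tmul, mulBilin_secDeg1]
    rfl


/-- **surjectivity of the multiplication map** `H^0(F(m)) ⊗ H^0(O(1)) ⟶ H^0(F(m) ⊗ O(1))` for
an `m`-regular module. -/
theorem mul_surj (F : (Proj (CohB1.polyGrading n R)).Modules) [F.IsQuasicoherent] (m : ℤ)
    (h : IsReg n R F m) :
    Function.Surjective (QC.tensorSec (CohB1.tensorMod F (twist (CohB1.polyGrading n R) m))
      (twist (CohB1.polyGrading n R) 1) ⊤) := by
  intro y
  have hv : ∀ j : ℕ, ∀ e' : ℤ, e' + 2 + j = m + 1 →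
      Subsingleton (Coh.HH (Proj (CohB1.polyGrading n R)) ((kbase n R F).G e') (1 + j)) := by
    intro j e' he'
    have h1 := h (1 + j) (by omega)
    have h2 : m - ((1 + j : ℕ) : ℤ) = e' := by push_cast; omega
    rw [h2] at h1
    exact h1
  have hx := (kbase n R F).koszul_surj (List.finRange (n+1)) (kbase_exact n R F) n
    (kbase_hN n R F _) (m+1) hv ((assocIso n R F m).hom.app ⊤ y)
  have key : ∀ x ∈ (kbase n R F).imgT (m+1) ⊤,
      ∃ w, (assocIso n R F m).hom.app ⊤ (QC.tensorSec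
        (CohB1.tensorMod F (twist (CohB1.polyGrading n R) m))
        (twist (CohB1.polyGrading n R) 1) ⊤ w) = x := by
    intro x hx
    induction hx using AddSubgroup.closure_induction with
    | mem x hx =>
      obtain ⟨l, e, he, c, rfl⟩ := hx
      have hem : e = m := by omega
      subst hem
      refine ⟨c ⊗ₜ secDeg1 (Xd n R l), ?_⟩
      have h1 := assocIso_secDeg1 n R F l e ⊤ c
      rw [QC.res_self] at h1
      have h2 : ((kbase n R F).tE l e (e+1) he) = kt n R F l e := by
        rw [KS.Base.tE_rfl, kbase_t]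
      rw [h2, kt_eq]
      exact h1
    | zero => exact ⟨0, by rw [map_zero, map_zero]; rfl⟩
    | add x y _ _ hx hy =>
      obtain ⟨w1, h1⟩ := hx
      obtain ⟨w2, h2⟩ := hy
      exact ⟨w1 + w2, by rw [map_add, map_add, h1, h2]; rfl⟩
    | neg x _ hx =>
      obtain ⟨w, h⟩ := hx
      exact ⟨-w, by rw [map_neg, map_neg, h]; rfl⟩
  obtain ⟨w, hw⟩ := key _ hx
  refine ⟨w, ?_⟩
  have h3 := congrArg ((assocIso n R F m).inv.app ⊤) hw
  rw [QC.iso_inv_hom_app, QC.iso_inv_hom_app] at h3
  exact h3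

end Groth.Agent.LD.PN
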