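import Groth.Agent.Lib.Lead.PN.GlobalFn
import Mathlib.AlgebraicGeometry.Morphisms.IsIso

/-! # Projective space of positive dimension over a nonzero ring is not affine. -/

universe u
open CategoryTheory AlgebraicGeometry TopologicalSpace Opposite Limits

namespace Groth.Agent.LD.PN

variable {n : ℕ} {R : Type u} [CommRing R]

open HomogeneousLocalization Twist TW AddMonoidAlgebra

/-- a standard open of projective space of positive dimension is not everything. -/
theorem Ui_ne_top [Nontrivial R] (hn : 0 < n) (i : Fin (n+1)) : (Ui i : Opens _) ≠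
    (⊤ : Opens (ProjectiveSpectrum.top (CohB1.polyGrading n R))) := by
  intro htop
  obtain ⟨j, hj⟩ : ∃ j : Fin (n+1), j ≠ i := by
    haveI : Nontrivial (Fin (n+1)) := Fin.nontrivial_iff_two_le.2 (by omega)
    exact exists_ne i
  have hH : IsHomog (CohB1.polyGrading n R) (G (Finsupp.single i 1) : MvPolynomial (Fin (n+1)) R)
      (Finsupp.degree (Finsupp.single i 1)) 0
      (Localization.mk (MvPolynomial.X j) (gpow (G (Finsupp.single i 1)) 1)) :=
    ⟨1, 1, MvPolynomial.X j, X_mem j, by simp, rfl⟩
  obtain ⟨s, hs⟩ := exists_sec (G_mem (Finsupp.single i 1)) hH (htop.ge)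
  have hR : IsRep (G (Finsupp.single i 1)) (le_refl (Ui i)) (resSec le_top s)
      (Localization.mk (MvPolynomial.X j) (gpow (G (Finsupp.single i 1)) 1)) := by
    intro x
    rw [resSec_val]
    exact hs ⟨x.1, trivial⟩
  have h1 : thetaG (0 : ℤ) i s = mono n R (castE n (Finsupp.single j 1) -
      castE n (Finsupp.single i 1)) := by
    rw [thetaG, theta_eq (single_fact i) (0 : ℤ) rfl _ hH hR]
    change lam _ (Localization.mk (MvPolynomial.X j)
      (⟨G _ ^ 1, 1, rfl⟩ : Submonoid.powers _)) = _
    rw [lam_mk, one_smul]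
    have : ιL n R (MvPolynomial.X j) = mono n R (castE n (Finsupp.single j 1)) :=
      ιL_monomial (Finsupp.single j 1) 1
    rw [this, mono_mul_mono, sub_eq_add_neg]
  have h2 : (thetaG (0 : ℤ) i s).coeff (castE n (Finsupp.single j 1) -
      castE n (Finsupp.single i 1)) ≠ 0 := by
    rw [h1]
    change (Finsupp.single _ (1 : R)) _ ≠ 0
    rw [Finsupp.single_eq_same]
    exact one_ne_zero
  have h3 := (thetaG_coeff hn 0 i s _ h2).2 i
  rw [Finsupp.sub_apply, castE_apply, castE_apply, Finsupp.single_apply, if_neg hj,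
    Finsupp.single_apply, if_pos rfl] at h3
  norm_num at h3

/-- projective space of positive dimension over a field is not affine. -/
theorem not_isAffine_projSpace (k : Type u) [Field k] (hn : 0 < n) :
    ¬ IsAffine (CohB1.ProjSpace n k) := by
  intro h
  haveI := h
  haveI : IsAffine (Spec (CommRingCat.of k)) := inferInstance
  have hiso : IsIso (CohB1.ProjSpace.toSpec n k) := by
    have := (HasAffineProperty.iff_of_isAffine (P := MorphismProperty.isomorphisms Scheme)
      (f := CohB1.ProjSpace.toSpec n k)).2 ⟨h, isIso_toSpec_appTop n k⟩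
    exact this
  -- the underlying space is a single point
  have hhomeo : IsHomeomorph (CohB1.ProjSpace.toSpec n k) :=
    (CohB1.ProjSpace.toSpec n k).homeomorph.isHomeomorph
  have hsub : Subsingleton (CohB1.ProjSpace n k) := by
    haveI : Subsingleton (Spec (CommRingCat.of k)) :=
      inferInstanceAs (Subsingleton (PrimeSpectrum k))
    exact hhomeo.injective.subsingleton
  have hne : Nonempty (CohB1.ProjSpace n k) := by
    haveI : Nonempty (Spec (CommRingCat.of k)) :=
      inferInstanceAs (Nonempty (PrimeSpectrum k))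
    exact ⟨(hhomeo.surjective (Classical.arbitrary _)).choose⟩
  obtain ⟨x⟩ := hne
  obtain ⟨f, ⟨i, rfl⟩, hx⟩ := exists_mem_basicOpen_of_span (irrelevant_eq_span n k)
    (show ProjectiveSpectrum (CohB1.polyGrading n k) from x)
  apply Ui_ne_top (R := k) hn i
  apply top_le_iff.1
  intro y _
  have : y = x := hsub.elim (α := CohB1.ProjSpace n k) y x
  rw [this]
  change x ∈ ProjectiveSpectrum.basicOpen _ (G (Finsupp.single i 1) : MvPolynomial (Fin (n+1)) k)
  have hG : (G (Finsupp.single i 1) : MvPolynomial (Fin (n+1)) k) = MvPolynomial.X i := rfl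
  rw [hG]
  exact hx

end Groth.Agent.LD.PN
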