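import Mathlib
import Groth.Prelude.Def_DDual2
import Groth.Prelude.Def_LCI2
import Groth.Prelude.Def_ClSub2
import Groth.Agent.Lib.Lead.PN.AmpleDev
import Groth.Agent.Lib.Lead.PN.AmpleSerreRel
import Groth.Agent.Lib.Lead.PS.Basic
import Groth.Agent.Lib.Lead.PS.Support
import Groth.Agent.Lib.Lead.SC.Restrict
import Groth.Agent.Lib.Lead.SC.SerreCrit
import Groth.Agent.Lib.Lead.QC.Push
import Groth.Agent.Lib.Lead.QC.BiprodSec
import Groth.Agent.Lib.Lead.QC.SerreSupp
import Groth.Agent.Lib.Lead.QC.SubExtRestrict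
import Groth.Agent.Lib.Lead.QC.TensorRestrict
import Groth.Agent.Lib.Lead.QC.RestrictOpen
import Groth.Agent.Lib.Lead.QC.SuppSES
import Groth.Agent.Lib.Lead.QC.Pullback
import Groth.Agent.Lib.Helper5.Lim.ModuleBridge
import Groth.Agent.Lib.Helper5.Snap.TP

/-!
# Exactness of `f_*(F(n)) → f_*(G(n)) → f_*(H(n))` for modules with proper support (EGA III 2.2.?)

`f : X ⟶ Y` of finite type over a Noetherian base, `L` relatively ample, `F → G → H` exact and
coherent with the support of `F` proper over `Y`: the direct images of the large twists form an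
exact sequence.
-/

universe u

open AlgebraicGeometry CategoryTheory Limits TopologicalSpace Opposite Abelian

namespace Groth.Agent.LD.PN.PSEx

open Groth.Agent.LD Groth.Agent.LD.QC Groth.Agent.LD.PN.AmD Groth.Agent.LD.SC

variable {X S : Scheme.{u}}

/-- eventual vanishing for direct images from closed subschemes proper over a Noetherian ring on
which `L` is ample; the ambient scheme is arbitrary. -/
theorem EV_push' (A : Type u) [CommRing A] [IsNoetherianRing A] {Z : Scheme.{u}}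
    (pZ : Z ⟶ Spec (CommRingCat.of A)) [IsProper pZ] (i : Z ⟶ X) [IsClosedImmersion i]
    (L : X.Modules) (hL : PicF.IsInvertible L)
    (hi : CohB1.IsAmple ((Scheme.Modules.pullback i).obj L))
    (G : Z.Modules) (hG : Coh.IsCoh G) : EV L ((Scheme.Modules.pushforward i).obj G) := by
  obtain ⟨n₀, hn₀⟩ := AmS.serre_vanishing_of_isAmple A pZ _
    (isInvertible_pullback i hL) hi G hG
  refine ⟨n₀, fun n hn p hp => ?_⟩
  have e : CohB1.tensorMod ((Scheme.Modules.pushforward i).obj G) (CohB1.tensorPow L n) ≅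
      (Scheme.Modules.pushforward i).obj
        (CohB1.tensorMod G (CohB1.tensorPow ((Scheme.Modules.pullback i).obj L) n)) :=
    projIso i G (CohB1.tensorPow L n) (isInvertible_tensorPow hL n) ≪≫
      (Scheme.Modules.pushforward i).mapIso (tensorIso' (Iso.refl _) (pbTensorPowIso i L hL n))
  have h1 := (CL.subsingleton_HH_push_iff i _ p).mpr (hn₀ n hn p hp)
  exact AS.subsingleton_HH_of_iso' e.symm p h1

/-- Serre vanishing over an affine open of a Noetherian base for a coherent module whose support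
is proper over the base. -/
theorem vanishing_preimage_of_properSupport (f : X ⟶ S) [LocallyOfFiniteType f]
    [IsLocallyNoetherian S] (L : X.Modules) (hL : PicF.IsInvertible L) (M : X.Modules)
    (hM : Coh.IsCoh M) (hs : ClSub.IsProperOver f (CohB1.support M)) (W : S.Opens)
    (hW : IsAffineOpen W) (ha : CohB1.IsAmple (L.restrict (f ⁻¹ᵁ W).ι)) :
    ∃ n₀ : ℕ, ∀ n : ℕ, n₀ ≤ n → ∀ p : ℕ, 0 < p →
      Subsingleton (Coh.HH (f ⁻¹ᵁ W).toScheme
        ((CohB1.tensorMod M (CohB1.tensorPow L n)).restrict (f ⁻¹ᵁ W).ι) p) := by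
  haveI : IsNoetherianRing Γ(S, W) := IsLocallyNoetherian.component_noetherian ⟨W, hW⟩
  haveI : M.IsQuasicoherent := hM.1
  haveI : LocallyOfFiniteType (f ∣_ W) :=
    MorphismProperty.of_isPullback (P := @LocallyOfFiniteType)
      (isPullback_morphismRestrict f W).flip inferInstance
  have hcoh : Coh.IsCoh (M.restrict (f ⁻¹ᵁ W).ι) :=
    ⟨qc_restrict _ M, isFiniteType_restrict _ M hM.2⟩
  haveI : (M.restrict (f ⁻¹ᵁ W).ι).IsQuasicoherent := hcoh.1
  have hs' : ClSub.IsProperOver (f ∣_ W) (CohB1.support (M.restrict (f ⁻¹ᵁ W).ι)) := by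
    have h := PS.isProperOver_support_pullback f W.ι (f ⁻¹ᵁ W).ι (f ∣_ W)
      (isPullback_morphismRestrict f W).flip M hM.2 hs
    rwa [support_eq_of_iso
      ((Scheme.Modules.restrictFunctorIsoPullback (f ⁻¹ᵁ W).ι).symm.app M)] at h
  obtain ⟨Z, i, hi, hp, hiso⟩ :=
    PS.exists_closedImmersion_unit_iso (f ∣_ W) (M.restrict (f ⁻¹ᵁ W).ι) hcoh.2 hs'
  haveI := hi
  haveI := hp
  haveI := hiso
  let pZ : Z ⟶ Spec (CommRingCat.of Γ(S, W)) := (i ≫ (f ∣_ W)) ≫ hW.isoSpec.hom
  haveI : IsProper pZ := by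
    change IsProper ((i ≫ (f ∣_ W)) ≫ hW.isoSpec.hom)
    infer_instance
  have hG : Coh.IsCoh ((Scheme.Modules.pullback i).obj (M.restrict (f ⁻¹ᵁ W).ι)) :=
    ⟨qc_pullback i _, isFiniteType_pullback i _ hcoh.2⟩
  have hev := EV_push' Γ(S, W) pZ i (L.restrict (f ⁻¹ᵁ W).ι) (isInvertible_restrict _ hL)
    (isAmple_pullback_of_isAffineHom i _ ha) _ hG
  have hev' : EV (L.restrict (f ⁻¹ᵁ W).ι) (M.restrict (f ⁻¹ᵁ W).ι) :=
    hev.of_iso (asIso ((Scheme.Modules.pullbackPushforwardAdjunction i).unit.app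
      (M.restrict (f ⁻¹ᵁ W).ι))).symm
  obtain ⟨n₀, hn₀⟩ := hev'
  refine ⟨n₀, fun n hn p hp => ?_⟩
  have e : CohB1.tensorMod (M.restrict (f ⁻¹ᵁ W).ι)
      (CohB1.tensorPow (L.restrict (f ⁻¹ᵁ W).ι) n) ≅
      (CohB1.tensorMod M (CohB1.tensorPow L n)).restrict (f ⁻¹ᵁ W).ι :=
    tensorIso' (Iso.refl _) (restrictTensorPowIso (f ⁻¹ᵁ W).ι L n) ≪≫
      restrictTensorIso (f ⁻¹ᵁ W).ι M (CohB1.tensorPow L n)
  exact AS.subsingleton_HH_of_iso' e p (hn₀ n hn p hp)

/-- uniform version over a finite affine cover of a Noetherian base. -/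
theorem vanishing_cover_of_properSupport (f : X ⟶ S) [LocallyOfFiniteType f] [IsNoetherian S]
    (L : X.Modules) (hL : PicF.IsInvertible L)
    (ha : ∀ W : S.Opens, IsAffineOpen W → CohB1.IsAmple (L.restrict (f ⁻¹ᵁ W).ι))
    (M : X.Modules) (hM : Coh.IsCoh M) (hs : ClSub.IsProperOver f (CohB1.support M)) :
    ∃ n₀ : ℕ, ∀ n : ℕ, n₀ ≤ n → ∀ p : ℕ, 0 < p → ∀ y : S, ∃ W : S.Opens, IsAffineOpen W ∧ y ∈ W ∧
      Subsingleton (Coh.HH (f ⁻¹ᵁ W).toScheme
        ((CohB1.tensorMod M (CohB1.tensorPow L n)).restrict (f ⁻¹ᵁ W).ι) p) := by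
  classical
  have hloc : ∀ W : S.Opens, IsAffineOpen W → ∃ n₀ : ℕ, ∀ n : ℕ, n₀ ≤ n → ∀ p : ℕ, 0 < p →
      Subsingleton (Coh.HH (f ⁻¹ᵁ W).toScheme
        ((CohB1.tensorMod M (CohB1.tensorPow L n)).restrict (f ⁻¹ᵁ W).ι) p) :=
    fun W hW => vanishing_preimage_of_properSupport f L hL M hM hs W hW (ha W hW)
  choose! nW hnW using hloc
  have haff : ∀ x : S, ∃ W : S.Opens, IsAffineOpen W ∧ x ∈ W := by
    intro x
    obtain ⟨_, ⟨W, hW, rfl⟩, hxW, -⟩ := (Scheme.isBasis_affineOpens S).exists_subset_of_mem_open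
      (Set.mem_univ x) isOpen_univ
    exact ⟨W, hW, hxW⟩
  choose Wx hWx hxWx using haff
  obtain ⟨t, ht⟩ := CompactSpace.elim_nhds_subcover (fun x => ((Wx x : S.Opens) : Set S))
    (fun x => (Wx x).2.mem_nhds (hxWx x))
  refine ⟨t.sup (fun x => nW (Wx x)), fun n hn p hp y => ?_⟩
  have hy : y ∈ ⋃ x ∈ t, ((Wx x : S.Opens) : Set S) := by rw [ht]; trivial
  obtain ⟨x, hxt, hyx⟩ := Set.mem_iUnion₂.mp hy
  exact ⟨Wx x, hWx x, hyx, hnW (Wx x) (hWx x) n
    ((Finset.le_sup (f := fun x => nW (Wx x)) hxt).trans hn) p hp⟩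

/-- `H¹(U, S.X₁|_U) = 0` makes `S.g` surjective on the sections over `U`. -/
theorem surjective_app_of_subsingleton_HH_restrict {S₀ : ShortComplex X.Modules}
    (hS : S₀.ShortExact) (U : X.Opens)
    (h : Subsingleton (Coh.HH U.toScheme (S₀.X₁.restrict U.ι) 1)) :
    Function.Surjective (S₀.g.app U) := by
  obtain ⟨e⟩ := HH_restrict_equiv U.ι S₀.X₁ 1
  have h' : Subsingleton (Ext (ZU (JX X) U.ι.opensRange) (Coh.toAb S₀.X₁) 1) :=
    e.symm.toEquiv.subsingleton
  rw [Scheme.Opens.opensRange_ι] at h'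
  exact surjective_app_of_subsingleton_ext1 (shortExact_toSheaf hS) U h'

/-- exactness of the direct image of `A → B → C` from local surjectivity onto a kernel. -/
theorem exact_push_of_surjective (f : X ⟶ S) [QuasiCompact f] [QuasiSeparated f]
    {A B C K : X.Modules} [A.IsQuasicoherent] [K.IsQuasicoherent]
    (a : A ⟶ B) (b : B ⟶ C) (w : a ≫ b = 0) (ι : K ⟶ B) [Mono ι] (κ : A ⟶ K)
    (hκ : κ ≫ ι = a) (wι : ι ≫ b = 0) (hex : (ShortComplex.mk ι b wι).Exact)
    (hsurj : ∀ y : S, ∃ W : S.Opens, IsAffineOpen W ∧ y ∈ W ∧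
      Function.Surjective (κ.app (f ⁻¹ᵁ W))) :
    (ShortComplex.mk ((Scheme.Modules.pushforward f).map a)
      ((Scheme.Modules.pushforward f).map b)
      (by rw [← Functor.map_comp, w, Functor.map_zero])).Exact := by
  haveI : PreservesLimitsOfSize.{0, 0} (Scheme.Modules.pushforward f) :=
    (Scheme.Modules.pullbackPushforwardAdjunction f).rightAdjoint_preservesLimits
  haveI : PreservesFiniteLimits (Scheme.Modules.pushforward f) :=
    PreservesLimitsOfSize.preservesFiniteLimits.{0, 0} _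
  haveI : ((Scheme.Modules.pushforward f).obj A).IsQuasicoherent := qc_pushforward f A
  haveI : ((Scheme.Modules.pushforward f).obj K).IsQuasicoherent := qc_pushforward f K
  haveI : Epi ((Scheme.Modules.pushforward f).map κ) :=
    Groth.Agent.H5.Lim.epi_of_surjective_affine_cover ((Scheme.Modules.pushforward f).map κ)
      (fun y => by
        obtain ⟨W, hW, hy, hs⟩ := hsurj y
        exact ⟨W, hW, hy, hs⟩)
  have hex' : ((ShortComplex.mk ι b wι).map (Scheme.Modules.pushforward f)).Exact :=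
    hex.map_of_mono_of_preservesKernel _ (inferInstanceAs (Mono ι)) inferInstance
  let S₁ : ShortComplex S.Modules :=
    ShortComplex.mk ((Scheme.Modules.pushforward f).map a) ((Scheme.Modules.pushforward f).map b)
      (by rw [← Functor.map_comp, w, Functor.map_zero])
  let φ : S₁ ⟶ (ShortComplex.mk ι b wι).map (Scheme.Modules.pushforward f) :=
    { τ₁ := (Scheme.Modules.pushforward f).map κ
      τ₂ := 𝟙 _
      τ₃ := 𝟙 _
      comm₁₂ := by
        change (Scheme.Modules.pushforward f).map κ ≫ (Scheme.Modules.pushforward f).map ι =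
          (Scheme.Modules.pushforward f).map a ≫ 𝟙 _
        rw [← Functor.map_comp, hκ, Category.comp_id]
      comm₂₃ := by
        change 𝟙 _ ≫ (Scheme.Modules.pushforward f).map b =
          (Scheme.Modules.pushforward f).map b ≫ 𝟙 _
        rw [Category.id_comp, Category.comp_id] }
  haveI : Epi φ.τ₁ := inferInstanceAs (Epi ((Scheme.Modules.pushforward f).map κ))
  haveI : IsIso φ.τ₂ := inferInstanceAs (IsIso (𝟙 _))
  haveI : Mono φ.τ₃ := inferInstanceAs (Mono (𝟙 _))
  exact (ShortComplex.exact_iff_of_epi_of_isIso_of_mono φ).mpr hex'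

/-- **S4465**. -/
theorem main_S4465 {X Y : Scheme.{u}} (f : X ⟶ Y)
    [IsNoetherian Y] [LocallyOfFiniteType f] [QuasiCompact f] (L : X.Modules)
    (hL : PicF.IsInvertible L)
    (hamp : RelAmple.IsRelAmple f L) (C : ShortComplex X.Modules) (hC : C.Exact)
    (h1 : Coh.IsCoh C.X₁) (h2 : Coh.IsCoh C.X₂) (h3 : Coh.IsCoh C.X₃)
    (hs1 : ClSub.IsProperOver f (CohB1.support C.X₁)) :
    ∃ N : ℕ, ∀ n : ℕ, N ≤ n →
      (C.map (DCoh.tensorRightMod (CohB1.tensorPow L n) ⋙ Coh.push f)).Exact := by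
  haveI : IsLocallyNoetherian X := LocallyOfFiniteType.isLocallyNoetherian f
  haveI : CompactSpace X := QuasiCompact.compactSpace_of_compactSpace f
  haveI : QuasiSeparated f := inferInstance
  have hK' : Coh.IsCoh (kernel C.f) := isCoh_kernel C.f h1 h2
  have hKg : Coh.IsCoh (kernel C.g) := isCoh_kernel C.g h2 h3
  have hS0 := shortExact_kernel_lift C.f C.g C.zero hC
  have hsK' : ClSub.IsProperOver f (CohB1.support (kernel C.f)) :=
    ((PS.isProperOver_support_ses f _ hS0 hK'.2 hKg.2).mp hs1).1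
  obtain ⟨N, hN⟩ := vanishing_cover_of_properSupport f L hL
    (fun W hW => hamp.2 ⟨W, hW⟩) (kernel C.f) hK' hsK'
  refine ⟨N, fun n hn => ?_⟩
  have hPinv := isInvertible_tensorPow hL n
  haveI : (CohB1.tensorPow L n).IsQuasicoherent := qc_of_isInvertible _ hPinv
  have hS0T := Groth.Agent.H5.Snap.shortExact_map_tensorRightMod hS0 _ hPinv
  have hTex : ∀ S' : ShortComplex X.Modules, S'.Exact →
      (S'.map (DCoh.tensorRightMod (CohB1.tensorPow L n))).Exact :=
    ((Functor.exact_tfae (DCoh.tensorRightMod (CohB1.tensorPow L n))).out 0 1).mp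
      (fun S' hS' => Groth.Agent.H5.Snap.shortExact_map_tensorRightMod hS' _ hPinv)
  have hS2T := hTex (ShortComplex.mk (kernel.ι C.g) C.g (kernel.condition C.g))
    (ShortComplex.exact_kernel C.g)
  haveI hmono : Mono ((DCoh.tensorRightMod (CohB1.tensorPow L n)).map (kernel.ι C.g)) := by
    have hS3 : (ShortComplex.mk (kernel.ι C.g) (cokernel.π (kernel.ι C.g))
        (cokernel.condition _)).ShortExact :=
      { exact := ShortComplex.exact_cokernel _
        mono_f := inferInstanceAs (Mono (kernel.ι C.g))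
        epi_g := inferInstanceAs (Epi (cokernel.π (kernel.ι C.g))) }
    exact (Groth.Agent.H5.Snap.shortExact_map_tensorRightMod hS3 _ hPinv).mono_f
  haveI : C.X₁.IsQuasicoherent := h1.1
  haveI : (kernel C.g).IsQuasicoherent := hKg.1
  haveI : ((DCoh.tensorRightMod (CohB1.tensorPow L n)).obj C.X₁).IsQuasicoherent :=
    (tensorMod_isQuasicoherent C.X₁ (CohB1.tensorPow L n) :)
  haveI : ((DCoh.tensorRightMod (CohB1.tensorPow L n)).obj (kernel C.g)).IsQuasicoherent :=
    (tensorMod_isQuasicoherent (kernel C.g) (CohB1.tensorPow L n) :)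
  have key := exact_push_of_surjective f
    ((DCoh.tensorRightMod (CohB1.tensorPow L n)).map C.f)
    ((DCoh.tensorRightMod (CohB1.tensorPow L n)).map C.g)
    (by rw [← Functor.map_comp, C.zero, Functor.map_zero])
    ((DCoh.tensorRightMod (CohB1.tensorPow L n)).map (kernel.ι C.g))
    ((DCoh.tensorRightMod (CohB1.tensorPow L n)).map (kernel.lift C.g C.f C.zero))
    (by rw [← Functor.map_comp, kernel.lift_ι])
    (by rw [← Functor.map_comp, kernel.condition, Functor.map_zero])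
    hS2T
    (fun y => by
      obtain ⟨W, hW, hy, hv⟩ := hN n hn 1 Nat.one_pos y
      exact ⟨W, hW, hy, surjective_app_of_subsingleton_HH_restrict hS0T (f ⁻¹ᵁ W) hv⟩)
  exact key

end Groth.Agent.LD.PN.PSEx
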