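import Groth.Agent.Lib.Lead.TW.UnitBasis
import Mathlib.AlgebraicGeometry.ProjectiveSpectrum.Basic

/-! # Sections of `O(d)` over `D₊(g)` as homogeneous elements of degree `d` of `A_g`.

For a graded algebra `𝒜`, `g ∈ 𝒜 m` with a factorisation `g = g' * f`, `f` of degree one, every
section of `O(d)` over `D₊(g)` is represented pointwise by a unique element `b / g^k` of `A_g` with
`deg b = k m + d`, and conversely. -/

universe u
open CategoryTheory AlgebraicGeometry TopologicalSpace Opposite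

namespace Groth.Agent.LD.PN

variable {R A : Type u} [CommRing R] [CommRing A] [Algebra R A] {𝒜 : ℕ → Submodule R A}
  [GradedAlgebra 𝒜]

open Twist TW

/-- the canonical map `A_g → A_x` for `x ∈ D₊(g)`. -/
noncomputable def toLoc (g : A) (x : ProjectiveSpectrum 𝒜) (hx : g ∉ x.asHomogeneousIdeal) :
    Localization.Away g →+* Loc 𝒜 x :=
  IsLocalization.map (M := Submonoid.powers g) (T := x.asHomogeneousIdeal.toIdeal.primeCompl) _
    (RingHom.id A) (Submonoid.powers_le.mpr hx)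

/-- `g ^ k` as an element of the submonoid of powers. -/
def gpow (g : A) (k : ℕ) : Submonoid.powers g := ⟨g ^ k, k, rfl⟩

lemma toLoc_mk (g : A) (x : ProjectiveSpectrum 𝒜) (hx : g ∉ x.asHomogeneousIdeal) (b : A) (k : ℕ)
    (hk : g ^ k ∈ x.asHomogeneousIdeal.toIdeal.primeCompl) :
    toLoc g x hx (Localization.mk b (gpow g k)) =
      (Localization.mk b ⟨g ^ k, hk⟩ : Loc 𝒜 x) := by
  rw [toLoc, Localization.mk_eq_mk', IsLocalization.map_mk', Localization.mk_eq_mk']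
  rfl

lemma pow_notMem (g : A) (x : ProjectiveSpectrum 𝒜) (hx : g ∉ x.asHomogeneousIdeal) (k : ℕ) :
    g ^ k ∈ x.asHomogeneousIdeal.toIdeal.primeCompl :=
  fun h => hx (x.isPrime.mem_of_pow_mem k h)

variable (𝒜) in
/-- homogeneous elements of degree `d` of `A_g`, `g` of degree `m`. -/
def IsHomog (g : A) (m : ℕ) (d : ℤ) (ℓ : Localization.Away g) : Prop :=
  ∃ (k j : ℕ) (b : A), b ∈ 𝒜 j ∧ (j : ℤ) = k * m + d ∧ ℓ = Localization.mk b (gpow g k)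

/-- the section `s` over `V ⊆ D₊(g)` is given pointwise by `ℓ ∈ A_g`. -/
def IsRep (g : A) {d : ℤ} {V : Opens (ProjectiveSpectrum.top 𝒜)}
    (hV : V ≤ ProjectiveSpectrum.basicOpen 𝒜 g) (s : sectN (𝒜 := 𝒜) d (op V))
    (ℓ : Localization.Away g) : Prop :=
  ∀ x : V, ((s.1 x : twistAt 𝒜 d x.1) : Loc 𝒜 x.1) = toLoc g x.1 (hV x.2) ℓ

lemma gpow_mul (g : A) (k k' : ℕ) : gpow g k * gpow g k' = gpow g (k + k') :=
  Subtype.ext (pow_add g k k').symm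

theorem IsHomog.add {g : A} {m : ℕ} (hg : g ∈ 𝒜 m) {d : ℤ} {ℓ ℓ' : Localization.Away g}
    (h : IsHomog 𝒜 g m d ℓ) (h' : IsHomog 𝒜 g m d ℓ') : IsHomog 𝒜 g m d (ℓ + ℓ') := by
  obtain ⟨k, j, b, hb, hj, rfl⟩ := h
  obtain ⟨k', j', b', hb', hj', rfl⟩ := h'
  refine ⟨k + k', j + k' * m, g ^ k * b' + g ^ k' * b, ?_, by push_cast; rw [hj]; ring, ?_⟩
  · have h1 : g ^ k * b' ∈ 𝒜 (k • m + j') :=
      SetLike.mul_mem_graded (SetLike.pow_mem_graded k hg) hb'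
    have h2 : g ^ k' * b ∈ 𝒜 (k' • m + j) :=
      SetLike.mul_mem_graded (SetLike.pow_mem_graded k' hg) hb
    have e1 : k • m + j' = j + k' * m := by
      have : ((k • m + j' : ℕ) : ℤ) = ((j + k' * m : ℕ) : ℤ) := by
        push_cast; rw [hj, hj']; simp; ring
      exact_mod_cast this
    have e2 : k' • m + j = j + k' * m := by simp [add_comm]
    rw [e1] at h1
    rw [e2] at h2
    exact add_mem h1 h2
  · rw [Localization.add_mk, gpow_mul]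
    rfl

theorem IsHomog.neg {g : A} {m : ℕ} {d : ℤ} {ℓ : Localization.Away g}
    (h : IsHomog 𝒜 g m d ℓ) : IsHomog 𝒜 g m d (-ℓ) := by
  obtain ⟨k, j, b, hb, hj, rfl⟩ := h
  exact ⟨k, j, -b, neg_mem hb, hj, Localization.neg_mk _ _⟩

theorem IsHomog.sub {g : A} {m : ℕ} (hg : g ∈ 𝒜 m) {d : ℤ} {ℓ ℓ' : Localization.Away g}
    (h : IsHomog 𝒜 g m d ℓ) (h' : IsHomog 𝒜 g m d ℓ') : IsHomog 𝒜 g m d (ℓ - ℓ') := by
  rw [sub_eq_add_neg]
  exact h.add hg h'.neg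

/-- homogeneous elements define sections. -/
theorem exists_sec {g : A} {m : ℕ} (hg : g ∈ 𝒜 m) {d : ℤ} {ℓ : Localization.Away g}
    (h : IsHomog 𝒜 g m d ℓ) {V : Opens (ProjectiveSpectrum.top 𝒜)}
    (hV : V ≤ ProjectiveSpectrum.basicOpen 𝒜 g) :
    ∃ s : sectN (𝒜 := 𝒜) d (op V), IsRep g hV s ℓ := by
  obtain ⟨k, j, b, hb, hj, rfl⟩ := h
  have hgk : g ^ k ∈ 𝒜 (k • m) := SetLike.pow_mem_graded k hg
  have hdeg : (j : ℤ) = ((k • m : ℕ) : ℤ) + d := by rw [hj]; simp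
  refine ⟨⟨fun x => ⟨Localization.mk b ⟨g ^ k, pow_notMem g x.1 (hV x.2) k⟩,
      mk_mem_twistAt (⟨b, hb⟩ : 𝒜 j) (⟨g ^ k, hgk⟩ : 𝒜 (k • m)) _ hdeg⟩,
    fun x => ⟨V, x.2, 𝟙 _, j, k • m, ⟨b, hb⟩, ⟨g ^ k, hgk⟩,
      fun y => pow_notMem g y.1 (hV y.2) k, Or.inl hdeg, fun _ => rfl⟩⟩, ?_⟩
  intro x
  rw [toLoc_mk g x.1 (hV x.2) b k (pow_notMem g x.1 (hV x.2) k)]

end Groth.Agent.LD.PN
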