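import Groth.Agent.Lib.Lead.PN.Cech
import Groth.Agent.Lib.Lead.PN.LaurentNeg
import Groth.Agent.Lib.Lead.PN.Eps
import Groth.Agent.Lib.Lead.Cech.Retract2
import Groth.Agent.Lib.Lead.Cech.Cls
import Groth.Agent.Lib.Lead.Cech.LerayNat

/-! # The top Čech cohomology of `O(d)` on projective space for the standard cover. -/

universe u
open CategoryTheory AlgebraicGeometry TopologicalSpace Opposite Limits

namespace Groth.Agent.LD.PN

variable {n : ℕ} (R : Type u) [CommRing R] (d : ℤ)

open Twist TW CH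

lemma thetaP_injective (len : ℕ) (a : Fin (len+1) → Idx.{u} n) :
    Function.Injective (thetaP R d len a) :=
  theta_injective (cOf_fact a) d (prod_eq_basicOpen R a)

lemma thetaP_res (len : ℕ) (b : Fin (len+2) → Idx.{u} n) (i : Fin (len+2))
    (s : (twist (CohB1.polyGrading n R) d).presheaf.obj (op (∏ᶜ (UU n R ∘ b ∘ i.succAbove)))) :
    thetaP R d (len+1) b ((twist (CohB1.polyGrading n R) d).presheaf.map
      (face (UU n R) b i).op s) = thetaP R d len (b ∘ i.succAbove) s :=
  theta_res (cOf_fact (b ∘ i.succAbove)) (cOf_face b i) d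
    (prod_eq_basicOpen R (b ∘ i.succAbove)) (prod_eq_basicOpen R b) (face (UU n R) b i).le s

lemma thetaP_mem (len : ℕ) (a : Fin (len+1) → Idx.{u} n)
    (s : (twist (CohB1.polyGrading n R) d).presheaf.obj (op (∏ᶜ (UU n R ∘ a)))) :
    thetaP R d len a s ∈ Mset n R (cOf a) d :=
  theta_mem_Mset (cOf_fact _) d (prod_eq_basicOpen R _) s

lemma exists_thetaP_eq (len : ℕ) (a : Fin (len+1) → Idx.{u} n) (ℓ : Lau n R)
    (hℓ : ℓ ∈ Mset n R (cOf a) d) :
    ∃ s : (twist (CohB1.polyGrading n R) d).presheaf.obj (op (∏ᶜ (UU n R ∘ a))),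
      thetaP R d len a s = ℓ :=
  exists_theta_eq (cOf_fact a) d (prod_eq_basicOpen R a) ℓ hℓ

lemma thetaP_rho (len : ℕ) (v : Idx.{u} n) (a : Fin (len+1) → Idx.{u} n)
    (y : (twist (CohB1.polyGrading n R) d).presheaf.obj
      (op (∏ᶜ (UU n R ∘ (Fin.cons v a : Fin (len+2) → Idx.{u} n))))) :
    ∃ s : (twist (CohB1.polyGrading n R) d).presheaf.obj (op (∏ᶜ (UU n R ∘ a))),
      thetaP R d len a s = ρ n R v.down (thetaP R d (len+1) (Fin.cons v a) y) := by
  have h1 := thetaP_mem R d (len+1) (Fin.cons v a) y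
  rw [cOf_cons] at h1
  exact exists_thetaP_eq R d len a _ (ρ_mem_Mset v.down (cOf a) d _ h1)

/-- the cocycle identity in Laurent polynomials. -/
lemma thetaP_cocycle (p : ℕ)
    (x : (K (UU n R) (twist (CohB1.polyGrading n R) d).presheaf).X (p+1))
    (hx : (K (UU n R) (twist (CohB1.polyGrading n R) d).presheaf).d (p+1) (p+2) x = 0)
    (b : Fin (p+3) → Idx.{u} n) :
    ∑ j : Fin (p+3), (-1 : ℤ)^(j:ℕ) • thetaP R d (p+1) (b ∘ j.succAbove)
      (coch (UU n R) (twist (CohB1.polyGrading n R) d).presheaf (p+1) x (b ∘ j.succAbove)) = 0 := by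
  have h0 : coch (UU n R) (twist (CohB1.polyGrading n R) d).presheaf (p+2)
      ((K (UU n R) (twist (CohB1.polyGrading n R) d).presheaf).d (p+1) (p+2) x) b = 0 := by
    rw [hx, map_zero]; rfl
  rw [coch_d] at h0
  have h1 := congrArg (thetaP R d (p+2) b) h0
  rw [map_zero, map_sum] at h1
  simp only [map_zsmul, thetaP_res] at h1
  exact h1

lemma exists_cOf_eq_zero_of_not_injective {m : ℕ} (a : Fin (m+1) → Idx.{u} m)
    (h : ¬ Function.Injective a) : ∃ j, cOf a j = 0 := by
  classical
  by_contra hcon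
  push Not at hcon
  have hsurj : Function.Surjective fun k => (a k).down := by
    intro j
    have := hcon j
    rw [cOf_apply] at this
    obtain ⟨k, hk⟩ := Finset.card_pos.1 (Nat.pos_of_ne_zero this)
    exact ⟨k, (Finset.mem_filter.1 hk).2⟩
  have hinj : Function.Injective fun k => (a k).down := Finite.injective_iff_surjective.2 hsurj
  apply h
  intro k k' hk
  exact hinj (congrArg ULift.down hk)

lemma cOf_ne_zero_of_injective {m : ℕ} (a : Fin (m+1) → Idx.{u} m)
    (h : Function.Injective a) (j : Fin (m+1)) : cOf a j ≠ 0 := by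
  classical
  have hinj : Function.Injective fun k => (a k).down := by
    intro k k' hk
    exact h (ULift.ext _ _ hk)
  obtain ⟨k, hk⟩ := (Finite.injective_iff_surjective.1 hinj) j
  rw [cOf_apply]
  exact Finset.card_ne_zero.2 ⟨k, Finset.mem_filter.2 ⟨Finset.mem_univ _, hk⟩⟩

section TopDegree

variable (m : ℕ)

/-- the identity tuple. -/
def idT : Fin (m+2) → Idx.{u} (m+1) := fun k => ULift.up k

lemma idT_injective : Function.Injective (idT.{u} m) := fun _ _ h => congrArg ULift.down h

lemma exists_perm_of_injective (a : Fin (m+2) → Idx.{u} (m+1)) (h : Function.Injective a) :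
    ∃ τ : Equiv.Perm (Fin (m+2)), a = idT.{u} m ∘ τ := by
  have hinj : Function.Injective fun k => (a k).down := by
    intro k k' hk
    exact h (ULift.ext _ _ hk)
  refine ⟨Equiv.ofBijective _ ⟨hinj, Finite.injective_iff_surjective.1 hinj⟩, ?_⟩
  funext k
  rfl

/-- the top-degree invariant of a cocycle. -/
noncomputable def PsiTop :
    Zc (K (UU (m+1) R) (twist (CohB1.polyGrading (m+1) R) d).presheaf) m →+ Lau (m+1) R :=
  AddMonoidHom.mk' (fun z => piN (m+1) R (thetaP R d (m+1) (idT m)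
    (coch (UU (m+1) R) (twist (CohB1.polyGrading (m+1) R) d).presheaf (m+1) z.1 (idT m))))
    (fun z z' => by
      change piN (m+1) R (thetaP R d (m+1) (idT m)
        (coch (UU (m+1) R) (twist (CohB1.polyGrading (m+1) R) d).presheaf (m+1) (z.1 + z'.1)
          (idT m))) = _
      rw [map_add, Pi.add_apply, map_add, map_add])

lemma PsiTop_apply (z : Zc (K (UU (m+1) R) (twist (CohB1.polyGrading (m+1) R) d).presheaf) m) :
    PsiTop R d m z = piN (m+1) R (thetaP R d (m+1) (idT m)
      (coch (UU (m+1) R) (twist (CohB1.polyGrading (m+1) R) d).presheaf (m+1) z.1 (idT m))) := rfl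

lemma PsiTop_mem (z : Zc (K (UU (m+1) R) (twist (CohB1.polyGrading (m+1) R) d).presheaf) m) :
    PsiTop R d m z ∈ Nset (m+1) R d :=
  piN_mem_Nset _ d _ (thetaP_mem R d (m+1) (idT m) _)

/-- a cocycle with vanishing invariant is a coboundary. -/
theorem exists_primitive_of_PsiTop_eq_zero
    (z : Zc (K (UU (m+1) R) (twist (CohB1.polyGrading (m+1) R) d).presheaf) m)
    (hz : PsiTop R d m z = 0) :
    ∃ y, (K (UU (m+1) R) (twist (CohB1.polyGrading (m+1) R) d).presheaf).d m (m+1) y = z.1 := by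
  obtain ⟨y, hy⟩ := exists_primitive_of_projections
    (X := (Proj (CohB1.polyGrading (m+1) R)).toTopCat) (UU (m+1) R)
    (twist (CohB1.polyGrading (m+1) R) d).presheaf (thetaP R d) (thetaP_res R d)
    (fun v => ρ (m+1) R v.down) (thetaP_rho R d) m z.1 z.2
  refine ⟨y, ?_⟩
  let x' := z.1 - (K (UU (m+1) R) (twist (CohB1.polyGrading (m+1) R) d).presheaf).d m (m+1) y
  let T' : (Fin (m+2) → Idx.{u} (m+1)) → Lau (m+1) R := fun a =>
    piN (m+1) R (thetaP R d (m+1) a (coch (UU (m+1) R) (twist (CohB1.polyGrading (m+1) R) d).presheaf (m+1) z.1 a))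
  have hT' : ∀ a, thetaP R d (m+1) a (coch (UU (m+1) R) (twist (CohB1.polyGrading (m+1) R) d).presheaf (m+1) x' a) = T' a := by
    intro a
    change thetaP R d (m+1) a (coch (UU (m+1) R) (twist (CohB1.polyGrading (m+1) R) d).presheaf (m+1)
      (z.1 - (K (UU (m+1) R) (twist (CohB1.polyGrading (m+1) R) d).presheaf).d m (m+1) y) a) = _
    rw [map_sub, Pi.sub_apply, map_sub, hy a]
    have h1 := piN_add_sum_ρ (thetaP R d (m+1) a (coch (UU (m+1) R) (twist (CohB1.polyGrading (m+1) R) d).presheaf (m+1) z.1 a))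
    have h2 : ∑ v : Idx.{u} (m+1), ρ (m+1) R v.down
        (thetaP R d (m+1) a (coch (UU (m+1) R) (twist (CohB1.polyGrading (m+1) R) d).presheaf (m+1) z.1 a)) =
        ∑ v, ρ (m+1) R v (thetaP R d (m+1) a (coch (UU (m+1) R) (twist (CohB1.polyGrading (m+1) R) d).presheaf (m+1) z.1 a)) :=
      Fintype.sum_equiv Equiv.ulift _ _ (fun _ => rfl)
    rw [h2]
    exact sub_eq_of_eq_add h1.symm
  have hdx' : (K (UU (m+1) R) (twist (CohB1.polyGrading (m+1) R) d).presheaf).d (m+1) (m+2) x' = 0 := by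
    change (K (UU (m+1) R) (twist (CohB1.polyGrading (m+1) R) d).presheaf).d (m+1) (m+2) (z.1 - (K (UU (m+1) R) (twist (CohB1.polyGrading (m+1) R) d).presheaf).d m (m+1) y) = 0
    rw [map_sub]
    have hz2 : (K (UU (m+1) R) (twist (CohB1.polyGrading (m+1) R) d).presheaf).d (m+1) (m+2) z.1 = 0 := z.2
    rw [hz2, zero_sub, neg_eq_zero]
    exact ConcreteCategory.congr_hom ((K (UU (m+1) R) (twist (CohB1.polyGrading (m+1) R) d).presheaf).d_comp_d m (m+1) (m+2)) y
  have hcoc : ∀ b : Fin (m+3) → Idx.{u} (m+1),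
      ∑ j : Fin (m+3), (-1 : ℤ)^(j:ℕ) • T' (b ∘ j.succAbove) = 0 := by
    intro b
    have := thetaP_cocycle R d m x' hdx' b
    simp only [hT'] at this
    exact this
  have hdeg : ∀ a : Fin (m+2) → Idx.{u} (m+1), ¬ Function.Injective a → T' a = 0 := by
    intro a ha
    exact piN_eq_zero (cOf a) d _ (thetaP_mem R d (m+1) a _)
      (exists_cOf_eq_zero_of_not_injective a ha)
  have hall : ∀ a, T' a = 0 := by
    intro a
    by_cases ha : Function.Injective a
    · obtain ⟨τ, rfl⟩ := exists_perm_of_injective m a ha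
      exact eq_zero_of_perm m T' hcoc hdeg τ (idT m) hz
    · exact hdeg a ha
  have hzero : x' = 0 := by
    apply coch_ext
    intro a
    apply thetaP_injective R d (m+1) a
    rw [hT', hall a, map_zero]
    exact (map_zero _).symm
  exact (sub_eq_zero.1 hzero).symm

/-- the invariant vanishes on coboundaries. -/
theorem PsiTop_eq_zero_of_primitive
    (z : Zc (K (UU (m+1) R) (twist (CohB1.polyGrading (m+1) R) d).presheaf) m)
    (y : (K (UU (m+1) R) (twist (CohB1.polyGrading (m+1) R) d).presheaf).X m)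
    (hy : (K (UU (m+1) R) (twist (CohB1.polyGrading (m+1) R) d).presheaf).d m (m+1) y = z.1) :
    PsiTop R d m z = 0 := by
  rw [PsiTop_apply, ← hy, coch_d, map_sum, map_sum]
  apply Finset.sum_eq_zero
  intro j _
  rw [map_zsmul, map_zsmul, thetaP_res]
  have h0 : ∃ k, cOf (idT.{u} m ∘ j.succAbove) k = 0 := by
    apply exists_cOf_eq_zero
    omega
  rw [piN_eq_zero (cOf (idT.{u} m ∘ j.succAbove)) d _ (thetaP_mem R d m _ _) h0, smul_zero]

/-- the tuple of indices as a self-map of `Fin (m+2)`. -/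
def downT (a : Fin (m+2) → Idx.{u} (m+1)) : Fin (m+2) → Fin (m+2) := fun k => (a k).down

lemma downT_injective_iff (a : Fin (m+2) → Idx.{u} (m+1)) :
    Function.Injective (downT m a) ↔ Function.Injective a := by
  constructor
  · intro h k k' hk
    exact h (congrArg ULift.down hk)
  · intro h k k' hk
    exact h (ULift.ext _ _ hk)

lemma eps_smul_mem (g : Lau (m+1) R) (hg : g ∈ Nset (m+1) R d) (a : Fin (m+2) → Idx.{u} (m+1)) :
    (eps (downT m a)) • g ∈ Mset (m+1) R (cOf a) d := by
  by_cases ha : Function.Injective a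
  · have h1 := mem_Mset_of_mem_Nset (cOf a) d g hg (cOf_ne_zero_of_injective a ha)
    have h2 : (eps (downT m a)) • g ∈ Nset (m+1) R d := by
      rw [← Int.cast_smul_eq_zsmul R]
      exact (Nset (m+1) R d).smul_mem _ hg
    exact mem_Mset_of_mem_Nset (cOf a) d _ h2 (cOf_ne_zero_of_injective a ha)
  · rw [eps_of_not_injective _ (fun h => ha ((downT_injective_iff m a).1 h)), zero_smul]
    exact zero_mem_Mset _ _

/-- surjectivity of the invariant. -/
theorem exists_PsiTop_eq (g : Lau (m+1) R) (hg : g ∈ Nset (m+1) R d) :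
    ∃ z : Zc (K (UU (m+1) R) (twist (CohB1.polyGrading (m+1) R) d).presheaf) m,
      PsiTop R d m z = g := by
  have hex : ∀ a : Fin (m+2) → Idx.{u} (m+1), ∃ s : (twist (CohB1.polyGrading (m+1) R) d).presheaf.obj (op (∏ᶜ (UU (m+1) R ∘ a))),
      thetaP R d (m+1) a s = (eps (downT m a)) • g :=
    fun a => exists_thetaP_eq R d (m+1) a _ (eps_smul_mem R d m g hg a)
  choose c hc using hex
  let x : (K (UU (m+1) R) (twist (CohB1.polyGrading (m+1) R) d).presheaf).X (m+1) := (coch (UU (m+1) R) (twist (CohB1.polyGrading (m+1) R) d).presheaf (m+1)).symm c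
  have hx : ∀ a, coch (UU (m+1) R) (twist (CohB1.polyGrading (m+1) R) d).presheaf (m+1) x a = c a := by
    intro a
    change coch (UU (m+1) R) (twist (CohB1.polyGrading (m+1) R) d).presheaf (m+1) ((coch (UU (m+1) R) (twist (CohB1.polyGrading (m+1) R) d).presheaf (m+1)).symm c) a = c a
    rw [AddEquiv.apply_symm_apply]
  have hdx : (K (UU (m+1) R) (twist (CohB1.polyGrading (m+1) R) d).presheaf).d (m+1) (m+2) x = 0 := by
    apply coch_ext
    intro b
    apply thetaP_injective R d (m+2) b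
    rw [coch_d, map_sum]
    simp only [map_zsmul, thetaP_res, hx, hc]
    rw [map_zero]
    change _ = thetaP R d (m+2) b 0
    rw [map_zero]
    have hcoc := eps_cocycle (N := m+2) (fun k => (b k).down)
    simp only [smul_smul]
    rw [← Finset.sum_smul]
    have : ∑ j : Fin (m+3), (-1 : ℤ)^(j:ℕ) * eps (downT m (b ∘ j.succAbove)) = 0 := hcoc
    rw [this, zero_smul]
  refine ⟨⟨x, hdx⟩, ?_⟩
  rw [PsiTop_apply]
  change piN (m+1) R (thetaP R d (m+1) (idT m) (coch (UU (m+1) R) (twist (CohB1.polyGrading (m+1) R) d).presheaf (m+1) x (idT m))) = g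
  rw [hx, hc]
  have hid : downT m (idT.{u} m) = id := rfl
  rw [hid, eps_id, one_smul]
  exact piN_of_mem_Nset d g hg

/-- the invariant, with values in the negative part. -/
noncomputable def PsiTopN :
    Zc (K (UU (m+1) R) (twist (CohB1.polyGrading (m+1) R) d).presheaf) m →+ Nset (m+1) R d :=
  (PsiTop R d m).codRestrict (Nset (m+1) R d).toAddSubgroup (PsiTop_mem R d m)

lemma PsiTopN_val (z : Zc (K (UU (m+1) R) (twist (CohB1.polyGrading (m+1) R) d).presheaf) m) : (PsiTopN R d m z).1 = PsiTop R d m z := rfl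

/-- **the top Čech cohomology of `O(d)`** on `P^{m+1}` for the standard cover. -/
noncomputable def cechTopEquiv :
    ((K (UU (m+1) R) (twist (CohB1.polyGrading (m+1) R) d).presheaf).homology (m+1) : AddCommGrpCat.{u}) ≃+ Nset (m+1) R d :=
  equivOfSurj (cls (K (UU (m+1) R) (twist (CohB1.polyGrading (m+1) R) d).presheaf) m) (PsiTopN R d m)
    (cls_surjective _ m)
    (fun g => by
      obtain ⟨z, hz⟩ := exists_PsiTop_eq R d m g.1 g.2
      exact ⟨z, Subtype.ext hz⟩)
    (by
      ext z
      rw [AddMonoidHom.mem_ker, AddMonoidHom.mem_ker, cls_eq_zero_iff]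
      constructor
      · rintro ⟨y, hy⟩
        exact Subtype.ext (PsiTop_eq_zero_of_primitive R d m z y hy)
      · intro hz
        exact exists_primitive_of_PsiTop_eq_zero R d m z (congrArg Subtype.val hz))

lemma cechTopEquiv_cls (z : Zc (K (UU (m+1) R) (twist (CohB1.polyGrading (m+1) R) d).presheaf) m) :
    cechTopEquiv R d m (cls (K (UU (m+1) R) (twist (CohB1.polyGrading (m+1) R) d).presheaf) m z) = PsiTopN R d m z :=
  equivOfSurj_apply _ _ _ _ _ z

end TopDegree

end Groth.Agent.LD.PN
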