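import Groth.Agent.Lib.Lead.PN.Top
import Groth.Agent.Lib.Lead.PN.ThetaSmul
import Groth.Agent.Lib.Lead.PN.NegPoly
import Groth.Agent.Lib.Lead.PN.Main
import Groth.Agent.Lib.Lead.Cech.SchemeNat

/-! # The top cohomology of `O(d)` on projective space, as a module over the base ring. -/

universe u
open CategoryTheory AlgebraicGeometry TopologicalSpace Opposite Limits

namespace Groth.Agent.LD.PN

variable {n : ℕ} (R : Type u) [CommRing R] (d : ℤ)

open Twist TW CH

/-- `thetaP` is linear over the base ring. -/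
lemma thetaP_smul (len : ℕ) (a : Fin (len+1) → Idx.{u} n) (c : R)
    (s : (twist (CohB1.polyGrading n R) d).presheaf.obj (op (∏ᶜ (UU n R ∘ a)))) :
    thetaP R d len a ((Coh.smulAb (twist (CohB1.polyGrading n R) d)
      (Coh.toGlobal (CohB1.ProjSpace.toSpec n R) c)).hom.app (op (∏ᶜ (UU n R ∘ a))) s) =
      c • thetaP R d len a s :=
  theta_smul (cOf_fact a) d (prod_eq_basicOpen R a) c s _
    (fun x => smulAb_twist_val d c _ s x)

variable (m : ℕ)

/-- the top cohomology of `O(d)` on `P^{m+1}`, additively. -/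
noncomputable def HHTopEquiv :
    Coh.HH (CohB1.ProjSpace (m+1) R) (Twist.twistProjSpace (m+1) R d) (m+1) ≃+
      Nset (m+1) R d :=
  (cechHHEquiv (X := Proj (CohB1.polyGrading (m+1) R)) (UU (m+1) R)
    (fun _ a => isAffineOpen_iInf R a) (iSup_UU (m+1) R)
    (twist (CohB1.polyGrading (m+1) R) d) (m+1)).symm.trans (cechTopEquiv R d m)

theorem HHTopEquiv_smul (c : R)
    (x : Coh.HH (CohB1.ProjSpace (m+1) R) (Twist.twistProjSpace (m+1) R d) (m+1)) :
    HHTopEquiv R d m (c • x) = c • HHTopEquiv R d m x := by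
  set e := cechHHEquiv (X := Proj (CohB1.polyGrading (m+1) R)) (UU (m+1) R)
    (fun _ a => isAffineOpen_iInf R a) (iSup_UU (m+1) R)
    (twist (CohB1.polyGrading (m+1) R) d) (m+1) with he
  let φ := Coh.smulAb (twist (CohB1.polyGrading (m+1) R) d)
    (Coh.toGlobal (CohB1.ProjSpace.toSpec (m+1) R) c)
  have h1 : c • x = Sheaf.H.map φ (m+1) x := rfl
  rw [h1]
  obtain ⟨z, hz⟩ := cls_surjective _ m (e.symm x)
  have h2 := cechHHEquiv_naturality (X := Proj (CohB1.polyGrading (m+1) R)) (UU (m+1) R)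
    (fun _ a => isAffineOpen_iInf R a) (iSup_UU (m+1) R)
    (twist (CohB1.polyGrading (m+1) R) d) (twist (CohB1.polyGrading (m+1) R) d) (m+1) φ
    (e.symm x)
  rw [← he, AddEquiv.apply_symm_apply] at h2
  change cechTopEquiv R d m (e.symm (Sheaf.H.map φ (m+1) x)) = c • cechTopEquiv R d m (e.symm x)
  rw [← h2, AddEquiv.symm_apply_apply, ← hz]
  have h3 := cls_naturality (K := K (UU (m+1) R) (twist (CohB1.polyGrading (m+1) R) d).presheaf)
    (L := K (UU (m+1) R) (twist (CohB1.polyGrading (m+1) R) d).presheaf) m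
    ((cechComplexFunctor (UU (m+1) R)).map φ.hom) z
  refine (congrArg (cechTopEquiv R d m) h3).trans ?_
  rw [cechTopEquiv_cls, cechTopEquiv_cls]
  apply Subtype.ext
  rw [PsiTopN_val, Submodule.coe_smul, PsiTopN_val, PsiTop_apply, PsiTop_apply]
  change piN (m+1) R (thetaP R d (m+1) (idT m)
    (coch (UU (m+1) R) (twist (CohB1.polyGrading (m+1) R) d).presheaf (m+1)
      (((cechComplexFunctor (UU (m+1) R)).map φ.hom).f (m+1) z.1) (idT m))) = _
  have h4 := coch_map (P := (twist (CohB1.polyGrading (m+1) R) d).presheaf)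
    (Q := (twist (CohB1.polyGrading (m+1) R) d).presheaf) (UU (m+1) R) φ.hom (m+1) z.1 (idT m)
  refine (congrArg (fun t => piN (m+1) R (thetaP R d (m+1) (idT m) t)) h4).trans ?_
  change piN (m+1) R (thetaP R d (m+1) (idT m) (φ.hom.app _ _)) = _
  rw [thetaP_smul, piN_smul]

/-- **the top cohomology of `O(-(n+1+k))` on `P^n`**, `n = m + 1`, is the module of homogeneous
polynomials of degree `k`. -/
noncomputable def HHTopLinearEquiv (k : ℕ) :
    Coh.HH (CohB1.ProjSpace (m+1) R) (Twist.twistProjSpace (m+1) R (-(((m+1 : ℕ) : ℤ) + 1 + k)))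
      (m+1) ≃ₗ[R] ↥(MvPolynomial.homogeneousSubmodule (Fin (m+1+1)) R k) :=
  ((HHTopEquiv R (-(((m+1 : ℕ) : ℤ) + 1 + k)) m).toLinearEquiv
    (HHTopEquiv_smul R _ m)).trans (negPolyEquiv (m+1) R k).symm

end Groth.Agent.LD.PN
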